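/-
Certificates for the involutions of the double cover of Sp(6,2) modulo its centre: classes, orbits under the
Sylow subgroup, commutator witnesses, a Sylow 3-subgroup.
-/
import Cfsg.Agent.Lib.Co3Recog.Base

set_option autoImplicit false
set_option maxRecDepth 100000
set_option maxHeartbeats 4000000

namespace CfsgLib.StdCo3.Data

/-- The representatives, as indices in the Sylow table. -/
def repIx : List (List ℕ) := [[53, 0, 0], [15, 3, 1], [14, 0, 0], [110, 0, 0]]

/-- The orbit of each representative under the Sylow subgroup. -/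
def repOrb : List (List (List ℕ)) := [[[], [1]], [[], [1], [2], [6], [4, 1], [6, 1], [6, 2], [6, 4, 1]], [[], [2]], [[], [1]]]

/-- Elements centralising each representative. -/
def cenGens : List (List ℕ) := [[1783175185324972083899909688235528740837261554959953904533491724830612769535432174682528553647459588664171597468395069068423870237880172415497271707521374834459232495970357179248007140293811489767329655479417346156953267376208649995590346783585199805752613574076693892387540631470374646503858986120988582525598380907459981724018552365366214188799567922201595412775426515111451816747313863018996148073834885732973652810126399965958831621917047573546048562347529265247540193583498484503483072096581383752172813754391442458668193805295566767737810597153789856981438840008400561789773681890619421402349152032824203011051593304894072640647931855231723865421721263992082516827899212097347568931074530012912337977178649736283145045981470750989479007769683520186078594211281423880309800749381940501730220618444325948174091286087905103779125027602140482229342828333231588388692682501188165553869547692251651825344301856807816744,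 1631951609878088282987217668337707546218508891849438681282335439969796951468020007482789327243317131989140063538831655222739418268204210207986419242877897263683592819339786964574613330230326571220450628111446288272178755320917376589289564966576488882266080052537657228223827230863647045139635255907819236952764242859240338527178061888939962021409594446355691796759884184575376364730325019480098081442979993578852654879429709177714569011105465676125230928716878772627509225004852528473341732098084842744827190702057362165263993376644964175362790105081272998926198060822447456340374125959221340243803718969956724950868549098494070614371320575985117628627381535288394073356159214532358059226079881124786637504083807980024889983657014993399837673639316311678837163420394240252075740837502619450593311393793693461379379770019643073846175088455414078473021197921303976441654044730749180248533444247728072059167097953614836404, 155079235107991067832499936550282450558700068466694657556189335435287053987694388066346179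8600654210432470153537611389140422823980525880779652919430762142258570787896309530723501714497896528253096767951873213991968010107589918366259643995312463684233296510025238024111290150486914691041527825660649826734496245983706998228015649596595351315302486884943162992037963573792645652153540343074447661646164063361740742930346072974987711706954956631093835539309860105677054781830118803281701081539945008549527729217911843853003235061380011098478283913256843927053251515071975369506336696126973002270195855309150600179083631474508840989697608744425249258986564942191433441947775979744766636376406041642959356572271920724086176684318335663513772084891970766422260716843420180874687691163434825218537636897807028558961281779620225365429056072901901205413481284003956588341797070184778055614061530369804589936515959622375589030418], [16427414500991898259737049144558985706049635564674744589088368983974828988266267427609647569395961070880743287580685742930456383463476385477979595792294135948225550449630829541547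93003995093523612894576042280765851885511049458985878260423167635073549308406061121651931106849710279012709689644242327069432416870668797384475513888175319478252805202756570685061517244552514574136172608924182985732038391527386384320321900752187810292848762902563129790203653683391526582917860047219680653107479438990896261098468446055898582407363270712764411622688367296842849905783012846196118777938453621567096634035135717130881124679918152445954671678383937529573005160614181437716440544720220353177462751670177667253548715614402723985054094123074616899745965348572098642493688932900944456455979392461226698708005363279013545106728574113835828339477761840372993772149611725596035468373343018356022533379424209062470214682598872611906229, 158284422580839146681206588475988497738788650759216077737292156609069424992880146950528835119010889058219392361961893255184511532256903274515984583879925327260682607299721618472581217718103793247601403697568400558673555179232218918192359683891225961241272117045676515800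9310264393693013799392372333680540474129191653150787010918320938604521094771687016494729202080773634900545327083361713862712723596696948400473806458583319366179189683409526811427551779676269682125727570439408008799724004073199590717182699455899587871420432596335094276533266340037698963758675434298771163995894996718920049960329519787932186642783330043310546035883098990921162692231334043782017601477376127447126144442891464515839702773954512236490579246253415826049802051122139295707962440884030507843925489727038043152776777062232328609585977855667640529442958521521661973714687692171057105040645108009185699691913739991424541344285400535250568917, 1534593254142295591924303087123716769155274721792261445622769126971988411999540758751245862445885013224175666279171323899095483436298361730178671531750011675297571387035486059187253694164574827743104165916102439242486243561049713549392495508090561866390324393617511261312775337482261962761004819605005375488503813391974188371478185365828648435693694041031886496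667005158458779520775978669224780366231499846817884607879549063333494777412391204182943151339292227622994387931073121034950520097476163657448112986407357254716182478905919041590274605579502213140582746143001499811544207210315150241445103909731404082004166011868249181545545898071824402265362866552819329224543531945109245580923711678598403200883804593302959076611474597616177420345656486532118973555758182888095577543144009182607293014893896431382969270120305413166561189224533971800956635955436639953743794451588943641590048557379898985303478209860852556326], [1777753999692382578768023710471674895470246704146396307864689930449177615704370996375664283495739635758447497146543221085993269734655029259665209440029710526502475716842452383657040730664801750110458342603063436915672671459663412157960057557017252517184454078557597990128297363977553375817304031468451181905962433181335351166689876189237774773129353441024302054344800512602815334626989586645877031303343288991035993697812798961987845469604483595003550697443217597872062760772908769547479265768978899418639188543633714715380662857769233713551260269733933010388844216201064187345226642676105292889088791512785094712844976767377891178836154308983205475253230197944868576455429238306094933942255726270371627453851947968045301087235263707303185094314809172828986205526686859607747397232344828835183560234139053045650470054571778501074590716268226651284714393227951555998919785731138596484140472752260541347869581173293127852,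 1615805350394276121015013443242856680905860356339207509352237578398080043233957939773614192163737198737534024871260962173219576808132220280878165950085595829969522931476958731504846277240791391742981830571860875039110924321522761655627920486028818199904736664090611487295357619647783050210055078717322350332584938111645460013456664533465220821717529983263756405636063427899385261261145939543517027421536303215897382529054389892916742577206764874073532596500073195534376701719296179933691195265243710832927485087791855968080633861659956446207531289304566410131107889066524804678225217618508376685802355537312664690766204450970010472053549084208373945441794580953549756133580533924661083701797829362399534654448212431782343280966965896739139783848912730370962423237918170189193906700424818499677805968436633092788353653081692859291794124250978960432950370602933778700573924388749463452474440346286273260472547843423963829, 166462771709899381810357549116527578645093729298427026245561584027659027418959107531787751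5869698047495898287974467491626957855830792220726729301196601274092406239634869209346895879665582925509964666438983253232572076045625269515032012244790219810503962301781176904022227455006181953668472426033342111028429266923104654378866278948912291869092549429465092156610510876445669008665649258498408363599164443282271720525028367543140671959267064251891374240155081145047389612216433514630857590398726160061529945210381852589411347430617913423622666178237826878961457869604567571223383629530104531468341050534059579820147108435971663854146361728074355336353820800203693881412138056244751623272359987115636751847361157499974786845289088901628230644310839253547016338605362370593456610933954439080908276807479275933122688722335053565525273107994025239737777375287174274959853502388609377169597747389026020042880833237590571833354, 1550402402401072717657692111481048668283876646586740412476267802764755895274832614201160855987023302086912999425407721156766148591917776417408587899345942128494097703320912020266065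297272262924226267600936565195767190578861649166734295518035225952133640253696276438748911948227198127866477488929925740130406799621031881029068808495502860380813978869472546068146159296343622681915212154496602744001006417082874430852039312638822692686319386122061064449190157916109455584509226286778107766396516974195478673585942253927190034810995114946244468364006928385658568924366680585251062143639657561109736079557043799977503888484458742287434031761049870011346104367310569719842001156825354155782209341970449037248471236705430743388522954366852315624418267552365459482598402626172817449582408996114945661750214843301546261328920395965257974667749642692204521296601775163887547381012425661436872231841157591310795527221926013052529], [158284497029081385224577499435816345310897224721023274917252656177991931956986980217866796613268974699474744409027394256034513860434882790883746910794952233273318117798188037904057043290505226244609810558822123370976563164557723976296353055558669505036321960312565198416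7116178525574171528320863891312602664492053940620322726657569322177703621587626847297797613054872425851167951352241802042797502993177491748609276942266418287491129593815245634761037180637801824059190707483168559666099276619966553760166177727367691391389680738974148805027188705303826459481477770262036549069670346499118779767837010222332282488110162828660064224064170014522709485513665879034837535050183917460921076207737616982770843615214722948600433105571595560762737860244406249002347012603679517973695577969904242601227510025558281549679551554192493268910435401046688934742452485947580592694441373141359986305290340674480877659358503503514317843, 1778176706422635643500569039031762167974757628566499467609714512365979193701048922421230032892686669678346669024898649167479821480281688370654008386529160850277886550098821161515988390712129014144327855756574829852665655783950084755382489346827244182358095317281769129680603313208388822102839811243115173282837017311146342966193750330483960380939364209165970215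210094514069832813476598186059920690549350618597181218699268405221382231762217323170446335352544397337383884472820139559757062942190733440860653934787428739955408741566782388584773947131653868429002076539899033009098005473649342955946286265511456339383323193542671421146874481965407541156970488028312194383302848249751093516744538910518318468571433069906707249353353927974251739212435221055411132960153847869122407350064195267786525606275733604883725340832728695551392532265047357300936484173264270935308476087792135847308892897206877837782435696464703597131, 1745237459041329473137301491984994560288705189661995133921164301018633208017063321474663086157873198514683020257799965321239836013469896913833688216323562192254542300580542336172727787373869505424661507168590767187129870821694006953973514434385191922867715339870743646592173366396560800089035166556982857081040684848394983667856395009373127122984544231786247605311060308538635310826424413413582561436377702116180099265281239975426916938431208992298609517274228357744989981425039771272686844355587352825306948347981517782582409629616774373619283211906004484480096233777662651308686937120566135240631033032409090287738862989841795108765360700262135362221163570727911200567431822215679338084229344253489789405604691887547338672385306903486407913104370659435714610070772141745048793913725498388646103843207083620208978298912118159201220544236470466906877809770495766350783955099058271949793687549110048763145876276831921272]]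

/-- Their inverses. -/
def cenInv : List (List ℕ) := [[1621163128904848546456903244723169186591232427354185824306141330157645621346812232367876312151681595205892641397255668236209883156578021286310756438438973386111164175898770405532475436844661214653183527958259997482062389385084859417779147817826850074212970910073505112243695135499515409410980449585706925698277386447834941380749781069414924077384632025102300300428181986093276302784910934700096636218273717298433122621588040719302632035195638983562301675446916001089745576856477654471252916511116036787089314586350547456575933292971754020866063470302394345948208030877029582280629476026339663651295533889113576944897174645785306775607033775547406856002218381465282917800477389607121159409028741872721235324098241910670897949549394640091968080499011024834791838822864887319793691486319368419226605644478382013218644110586231883451218133768300400312302509284028427884938688264544305724204178695470507676765065931330430079, 1610404249088391214717943682019222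905729695453180034228085537521069762607938600153387842203994424435312505213602513455978000280733464152072292588953048394226073897143497520500434847934513937294158971143869553727143160430789681283995312562632035159967758296778940838107886277705196573840116047416735190339419004108109140221752149562871121658382763752245743104020172069708246244071058186784939393633506884388201647099886640429806929591729910972622259342740464537634103482227359273321247177683889135083647667223380318078463692202813694404696822197145441914053444991770261058054899376400735873229892702246059467113232345277276205200831869912087566880166755053629058001039578292678831132679616103327339924795790523160173624247012058359322638390699849388187983942987740896861256591238133176414324075724343276542785108492363900160943858461231078505902655490473659799804784690682210629792339928100770930767956582419966387072070, 16100775821628671633627806010153879630651906588294508963819370868034366925120635555518387244770091893525114597825572485461465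24155819861503133993442349672453773393361351330451566985769930222054028139545865228330034451185621402992486255620878315330693555596203582968003765836504638239760827368176494093407571125545069793292835887909305189823212293924039125342590318775360978476231090289451679878604844985052980879609072648114704215081476429225889240224544016850064923992860179774674670135688928392754743593733385406026962394508063117928847689763783042868831491138213115086714624061320331652300702991814328095342310122172920378905357431460165657358335940594867456252779272928301793741352954059780353533510499898116369209337757594073761198198559047428873856872270825603662075246466804543776218721581569716157738652313459067152319813902929718779295235393199556524025636799860098973090357331519390611634850759946434383026913], [1561201985239753129192229997641661691424464344443072313303147043118162525244231612599451989149898689398954456489368417692406813793404971299950017914311164927136500738114381746989110690970807236798622017839215627181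866047470001313593987350070504674709273214233448733577992051066551974689988261019284366217045674129176480670397844051325663430535526981345304891746235230085861198141665334339514317309068647862473537673718240718599322573568027553309400537156740455065121726541406754080793000703749090991987384308579095221182942287151023061249949349166955614983835040019045605361201595564147987515938414397098902527209013416201634737082742416670796299434528862254179735164834394917015996709100907008081756078634149522509704330846719582289930581587189414807966099291036479037543713518839262567535871715078886929025938719643408754491138902384567736439433926357594937073758423044883574740371486344261651093577711447791905108681, 15832246612819506032025112759358520330736589910630324837812140231118560657638792784083743415585062833587746536997227846550736711569820267728682504350777473250972621546880906163778191120432872421220363600487206166872572342655833897404281108220290614642910654508381909495457540057195963853755842317038473044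08365815412778113204095758755439483929832059328110597511410804741920945582019979787988892334289483312766326399151767441371596691689529258926466981660765641415640594165861880687885162845816072144947356047014952285082423769297433962544826256572762517507287117690952408093761544101479962016356971234074810422871536199365534391755239059952924248532129114022697471645817312038390913386392819179487231424204071014961041120860020238283637455646519716807650037053024401433683228250190970790893948577166816175965677943562634740200838777248038755556345480873554641109542795045849364802527895798814321204686232668692425047243, 153459325414229559192430308712371676915527472179226144562276912697198841199954075875124586244588501322417566627917132389909548343629836173017867153175001167529757138703548605918725369416457482774310416591610243924248624356104971354939249550809056186639032439361751126131277533748226196276100481960500537548850381339197418837147818536582864843569369404103188649666700515845877952077597866922478036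6231499846817884607879549063333494777412391204182943151339292227622994387931073121034950520097476163657448112986407357254716182478905919041590274605579502213140582746143001499811544207210315150241445103909731404082004166011868249181545545898071824402265362866552819329224543531945109245580923711678598403200883804593302959076611474597616177420345656486532118973555758182888095577543144009182607293014893896431382969270120305413166561189224533971800956635955436639953743794451588943641590048557379898985303478209860852556326], [1778071029254388262401080235917551347464389537598455704603530189995511028763524571340959983134057925743143143331157973731190379173866193306599166985878475174692655871955158665940024057893281604265366134745984454621707505750834640412798321619854737558988299185705822357888759396562170809790438653217635637886322851064821968585192867984090675623507715252587052911613856146469761058279526925740163107688826830791212684508240032380141516665356245854398040862846646392788292932305404934224146222319928338724311018049066761006339522215013631369388100196536032637276193796966190041677636531103944993995210701989243284867548900147709455775481144299361305785296959168568564368162166236740324200313159830376429393442562630161893205127067815483525278664012091611989975883093309212968266423055453676002180613084380478719060975201092349390939326294816183531653865424401972842295316083695733803681436156161149700556193566360061909631,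 1647899188189059733421305246389092396036410616004055757743036491113890881381090237263465832509298512008611342484407351309169889479415277903486695790442992931492656730257486655271622124069568118102621807461685230241403700141314810824583229818851159145608347565934970201435002229332859010935467293367832979829294088976279435111814316547235922616438099517144314761478913219904911998002302890528095322183287778159040425256841611202297187782272623710360805150010981354044335032568733108504774758550650872094301754503921324336536063996564353672057614756036647866598486061195775184896070687484436313208905213964407303308731335594233186827410413603427435828073156149470809336353639715327969016379117437390446445123037591814779053161049139831038872805378307051522303171300309685240574706567126256168952543926364971094976908734278644366366968956122131882198969235082060505644710784778833885162804639445785343915310219099905528010, 166462771709899381810357549116527578645093729298427026245561584027659027418959107531787751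5869698047495898287974467491626957855830792220726729301196601274092406239634869207908282039380469494577325065811030977101314923503322054324893098428180207172350920743472433136328599854963282911173998861029183933763951818247864604239100284750308589451314702817778887319898849008338499994855076651870506968396885607676185948448480358150804621095410030720026268746767767766739343840843722836353382386125873587185731387195843270611280461945440019180270552605217832375778759015546169211515169800527664304806419560874756142395658848654113840631212840557449916733720276798641980960980628597455870965006760069557456104605436430060669000615259734282266558567655294725343341992169475766860871526039857334828116966343862578798246910411656926842226732162645041259915017403598129832511422238167365464222831253271797367872229421856909514542610, 1561223636907915826949304897503957134374219090185279335842939168699709620386218435943917325614128533105556805137907001919669227389968843577309808293058638842759993234309703700445698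260470927543471482929930171243754687470402200517848178050815383841627871120410020584068625724521195387213657627075285454203699170470160218710343813664364917610688470242072124447301556973710493923508786547418821413052046304667086779887564558933846200588428054741963532107932454577457863252118792872451354248558928058452427027692480194509347661948605505555255127939450732111831782088660689875578572979956968416099596686693054806271427511463574943889549250435577297964124213365945070443972065046578503728135982499954273755622056054392184447418370309542252937794860031955258866185247619707640472052608882927760951927921389262477696318836288997484158945261913590665230050797065183824114498850284579129745524250341489217152929444876720935825971], [158284497029081385224577499435816345310897224721023274917252656177991931956986980217866796613268974699474744409027394256034513860434882790883746910794952233273318117798188037904057043290505226244609810558822123370976563164557723976296353055558669505036321960312565198416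7116178525574171528320863891312602664492053940620322726657569322177703621587626847297797613054872425851167951352241802042797502993177491748609276942266418287491129593815245634761037180637801824059190707483168559666099276619966553760166177727367691391389680738974148805027188705303826459481477770262036549069670346499118779767837010222332282488110162828660064224064170014522709485513665879034837535050183917460921076207737616982770843615214722948600433105571595560762737860244406249002347012603679517973695577969904242601227510025558281549679551554192493268910435401046688934742452485947580592694441373141359986305290340674480877659358503503514317843, 1815596617593775633607345810462597130829795343506837409448557640432361652876166451629254524596396652997811239999417387001512372482939065385982656781538569606081745308532755850940396418439232491455797654840277314166461824374987414567062545798680183631190948970477746624286236472519099458056732654001741218123956170743721411413986330428423468189650227184148628443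291823653037225341755372788585012746653203747188629224491268205559980663556952505807425057521046637677615432507976931595925491723495375502697401908515542378498831628205421610366163666454305691165603730955033206569807073361520371012259434846707362122442822788849245558764758301638242666074445061776514057796501443775063251759865259457759185378512265282970243426001469929184063820964106683715281480465021014462907395907260547711939346310226551829009888972271355769574305154985088810786302762868916314905569121301861318910025286886120182626640569378605176850947, 1712826593942252416231491416568029021167905527437307079625666429229042298798424118730727304750984324152380511838862022226055792126717557755996296349826911763641981119240795279734800214735866205603552213402908829214489579859374139728772597789903071842227343531169084719380369085016560197758841747267138862672654713294129630717438047778666521502036918974867415804124087345337378286899358508583625106685907347056846106339935103573796645160617274350827716856154037359385794449026043991045323636205141474323220969220509924715014483572936815461956306811857341366469974520566299372314328090523026943675065695944483517677079081564750301179804823172101335084316531194952552927158525501084072804922212317938729344224159551922075483255588643904433279349855251524920376801802190991563365259992077688791333478732500355762145125997767286562514195206638945212085304395457036514457586212158832775109896979340616584401788319277001605874]]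

/-- The exceptional elements. -/
def excIx : List (List ℕ) := [[19, 0, 1], [22, 1, 0], [24, 0, 1], [28, 3, 0], [31, 2, 1], [35, 3, 0], [43, 0, 1], [46, 3, 0], [49, 2, 1], [52, 3, 0], [54, 1, 1], [65, 3, 0], [66, 3, 1], [70, 0, 0], [75, 2, 1], [76, 3, 1], [78, 2, 1], [100, 2, 1], [111, 0, 1], [112, 0, 1], [121, 1, 0], [123, 1, 1], [126, 3, 1], [127, 2, 1]]

/-- A Sylow 3-subgroup of the centraliser of the first representative. -/
def qElems : List ℕ := [1832356851715004252230250232562697496659180437492786172045058090763721332916199428678017654988595918736400722048884374124985457303912648207442716439228033236539658141592748182157040027851252618638420573225560542525901891863862924039865598649200216407280473614934161698332198368488559990901471396787704032158865165536177100882588865973886908012513936724289575971706254705242804419734783884795271797833834253183560803537144290779993932202301572186654876145876550955653558764140021990234025271060292089830977519892031061316518805359560295375685064580894680098326454664656295564071002185834886690643962955904330707047834048908283425786780993291757345330809602479698034856395082768297522115557883403801758494038633110369150263254057955319952078533242685204514031290835520411547350229367166758852446985165960364929026369849304399970409546694375158412219678217933669704282457190418162908034681897480828348358535189197769671168,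 1588666671851186714089004361929166729609056318382355324808518068608373305912339044422305938245767609340942583147976630109484766842807749871959007768114788888562681294083738937780322367963797028095701083922586549600136879454129900664832676519560236982146990534432398089380540086389427216626270952548888154483730672746529098910431283118493947084831354835398266508391928465328921820087722935935364514118289867697139310339524901716796101421270706748619789350142427525615146935852199128657354633309354064083393369822273835036976335596515111174452112710458927963674236443919080336928270225933252683099323249711851107559652441206172791068520419161028078870626301179948735100805956625014457428089896745542638147335825788934521995361310180971078230441715170891557857809659629664056103564946958195234324045877059780683418854102385248911236304768157055216684367473712919203897310286910425227554312980446385031121508834298924169743, 173452177649023463181969389789260910709524427625406014384968896999745394316778817129839417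5148160000061929568811695872294575478718705192732648674310581730638176783542548245549262540169227724708514282515748602702708646071337544368302545620584357289946413588803113963141418927512018917810390240888282164960678758680499023975410099183906241354310936800756123730556485571697013338255712897337797453843572048786286293046534994667351006214843393002275873126456900545086978573950393527610250777555216071739100433347894592709939632467066900498508037584755770251981595569022639866006125761325424768154870862148447753828001438565045200542446975186587278724477708333609866701804932674559876294502941537765574109952658123080520707537826060114870916543627658590567613583897840574376712509772400845663766874666078700101675833388462133285284770461266694070955538898492633108139343108807207343266646650271181230164915249884049218741955, 1550792351079910678324999365502824505587000684666946575561893354352870539876943880663461798600654210432470153537611389140422823980525880779652919430762142258570787896309530723501714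497896528253096767951873213991968010107589918366259643995312463684233296510025238024111290150486914691041527825660649826734496245983706998228015649596595351315302486884943162992037963573792645652153540343074447661646164063361740742930346072974987711706954956631093835539309860105677054781830118803281701081539945008549527729217911843853003235061380011098478283913256843927053251515071975369506336696126973002270195855309150600179083631474508840989697608744425249258986564942191433441947775979744766636376406041642959356572271920724086176684318335663513772084891970766422260716843420180874687691163434825218537636897807028558961281779620225365429056072901901205413481284003956588341797070184778055614061530369804589936515959622375589030418, 15722032613056052826513106294538535512934590932446372756298089431543100155826891641489002427313993979720674497107324652085385886008022529249152996499407520597676670237266905382214431513659113652302424237858979637946984678524416799082213546555355109993847503188524393730561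20774308830777015329230700702416050844391166658983688463754003321863472200713548614382576653412665451215335944426741401011349015215089229016412168375430870503980882130078071296009452127625626514698442373972455306698092422680068799666637318696995070045651647440947193389488291974042763038450546228114768649471039386251880552978014433307812618232492683341838526676164935155459987590224065209472284616119241579571370863887730335652493321345389816154707890128624027233938332656712272507750773382316678978023358481962788290210608980204166500814177118557651689209590212176926454094979685470378012496105154261691347443201227434881818817529640878018171130, 151313043400302326661376702632599579371241495907044212681951315385206120594273945898246049181651726284673061331761767768760326971463709299873082827692939973278247622116363287051734575573530254518591253380369377215157964474908981532060307374520094381243475825764323112783673578460682734182170069786557658575547600471895054743525961496379212928147530717326128803020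7374887901523892239088136978472144810336546498775613873600931814121101511391207477243004880797330406375773110691405910424428832669678401707264167537192672279216415451672726340827001534015332812786261710235220061652142599055626876270058278925243442982407088573381627110725657557419519299045237206758451576253326348369257850932051504159327860622874929473608633171706909143715791082930704780257856048141293805549538264167654515587766043191168235652481982962421970634432816094967510247023780203173259566634301207208041769574496559883917635340478139976237819520, 1610077582162867163362780601015387963065190658829450896381937086803436692512063555551838724477009189352511459782557248546146524155819861503133993442349672453773393361351330451566985769930222054028139545865228330034451185621402992486255620878315330693555596203582968003765836504638239760827368176494093407571125545069793292835887909305189823212293924039125342590318775360978476231090289451679878604844985052980879609072648114704215081476429225889240224544016850064923992860179774674670135688928392754743593733385406026962394508063117928847689763783042868831491138213115086714624061320331652300702991814328095342310122172920378905357431460165657358335940594867456252779272928301793741352954059780353533510499898116369209337757594073761198198559047428873856872270825603662075246466804543776218721581569716157738652313459067152319813902929718779295235393199556524025636799860098973090357331519390611634850759946434383026913,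 1697091420457400246750450729877994199011760070295126993648533515514256621001307591421635345859554024874676567044225150394970613073521853986401220149435913793172117704284856718588236759402286135065756579707750699304600183391878993661403591635593088496320509693760697940307012366432080990900422662546936227011786249026535691501050976413210139305501801954958006637537142424203987754706954985329380013264040455102515270579228322733825082503886540653274191777800485809007557652708607722315459986167670894443288788448431033577531952143502073095939631339023777039599142938007092288736014218095492535658690652682826245315022776584845930980326568170240849384863509321845131383950481804101103378929012361051556307669534492113181046202838036076026597640340159923713815242141734230255792523540404803703056269554010548754741590124889408436931171250257699714832452134507190996936837701716452581086621328671560087061574817325187194961, 175098518687456679719907838007872583954990621985730462428201447481212060029911533740320368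3455102204319139901868528602759044087974303787245497198857349631534274883908150918337336349171413941916964259827093426520567253398746519260537315565147484862717785195861419552248051104042994629404954469307705102733005491492671637037590962943582864105181733471281265192178206295478184370391668442916815768873988735110602940800997916194517829455771353182335522983098057886345289512194937456701036725872201404524578108908709877011429508262279340175894291752028006224168919878791916764005352713020054882511702321797801652057746413729288215098956369093456068928078859328267851957144869806423912773092761228625305746550196427632039661142862109933582528463089429652198903504402622868337507170400019593608750121953348430521703111098712262609073754670522093330207104527791183493863337072519421807199422385584400319400600717933209099438839]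

/-- Its inverses. -/
def qInv : List ℕ := [1832356851715004252230250232562697496659180437492786172045058090763721332916199428678017654988595918736400722048884374124985457303912648207442716439228033236539658141592748182157040027851252618638420573225560542525901891863862924039865598649200216407280473614934161698332198368488559990901471396787704032158865165536177100882588865973886908012513936724289575971706254705242804419734783884795271797833834253183560803537144290779993932202301572186654876145876550955653558764140021990234025271060292089830977519892031061316518805359560295375685064580894680098326454664656295564071002185834886690643962955904330707047834048908283425786780993291757345330809602479698034856395082768297522115557883403801758494038633110369150263254057955319952078533242685204514031290835520411547350229367166758852446985165960364929026369849304399970409546694375158412219678217933669704282457190418162908034681897480828348358535189197769671168, 1734521776490234631819693897892609107095244276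254060143849688969997453943167788171298394175148160000061929568811695872294575478718705192732648674310581730638176783542548245549262540169227724708514282515748602702708646071337544368302545620584357289946413588803113963141418927512018917810390240888282164960678758680499023975410099183906241354310936800756123730556485571697013338255712897337797453843572048786286293046534994667351006214843393002275873126456900545086978573950393527610250777555216071739100433347894592709939632467066900498508037584755770251981595569022639866006125761325424768154870862148447753828001438565045200542446975186587278724477708333609866701804932674559876294502941537765574109952658123080520707537826060114870916543627658590567613583897840574376712509772400845663766874666078700101675833388462133285284770461266694070955538898492633108139343108807207343266646650271181230164915249884049218741955, 15886666718511867140890043619291667296090563183823553248085180686083733059123390444223059382457676093409425831479766301094847668428077498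71959007768114788888562681294083738937780322367963797028095701083922586549600136879454129900664832676519560236982146990534432398089380540086389427216626270952548888154483730672746529098910431283118493947084831354835398266508391928465328921820087722935935364514118289867697139310339524901716796101421270706748619789350142427525615146935852199128657354633309354064083393369822273835036976335596515111174452112710458927963674236443919080336928270225933252683099323249711851107559652441206172791068520419161028078870626301179948735100805956625014457428089896745542638147335825788934521995361310180971078230441715170891557857809659629664056103564946958195234324045877059780683418854102385248911236304768157055216684367473712919203897310286910425227554312980446385031121508834298924169743, 161007758216286716336278060101538796306519065882945089638193708680343669251206355555183872447700918935251145978255724854614652415581986150313399344234967245377339336135133045156698576993022205402813954586522833003445118562140299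2486255620878315330693555596203582968003765836504638239760827368176494093407571125545069793292835887909305189823212293924039125342590318775360978476231090289451679878604844985052980879609072648114704215081476429225889240224544016850064923992860179774674670135688928392754743593733385406026962394508063117928847689763783042868831491138213115086714624061320331652300702991814328095342310122172920378905357431460165657358335940594867456252779272928301793741352954059780353533510499898116369209337757594073761198198559047428873856872270825603662075246466804543776218721581569716157738652313459067152319813902929718779295235393199556524025636799860098973090357331519390611634850759946434383026913, 1750985186874566797199078380078725839549906219857304624282014474812120600299115337403203683455102204319139901868528602759044087974303787245497198857349631534274883908150918337336349171413941916964259827093426520567253398746519260537315565147484862717785195861419552248051104042994629404954469307705102733005491492671637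037590962943582864105181733471281265192178206295478184370391668442916815768873988735110602940800997916194517829455771353182335522983098057886345289512194937456701036725872201404524578108908709877011429508262279340175894291752028006224168919878791916764005352713020054882511702321797801652057746413729288215098956369093456068928078859328267851957144869806423912773092761228625305746550196427632039661142862109933582528463089429652198903504402622868337507170400019593608750121953348430521703111098712262609073754670522093330207104527791183493863337072519421807199422385584400319400600717933209099438839, 16970914204574002467504507298779941990117600702951269936485335155142566210013075914216353458595540248746765670442251503949706130735218539864012201494359137931721177042848567185882367594022861350657565797077506993046001833918789936614035916355930884963205096937606979403070123664320809909004226625469362270117862490265356915010509764132101393055018019549580066375371424242039877547069549853293800132640404551025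15270579228322733825082503886540653274191777800485809007557652708607722315459986167670894443288788448431033577531952143502073095939631339023777039599142938007092288736014218095492535658690652682826245315022776584845930980326568170240849384863509321845131383950481804101103378929012361051556307669534492113181046202838036076026597640340159923713815242141734230255792523540404803703056269554010548754741590124889408436931171250257699714832452134507190996936837701716452581086621328671560087061574817325187194961, 1550792351079910678324999365502824505587000684666946575561893354352870539876943880663461798600654210432470153537611389140422823980525880779652919430762142258570787896309530723501714497896528253096767951873213991968010107589918366259643995312463684233296510025238024111290150486914691041527825660649826734496245983706998228015649596595351315302486884943162992037963573792645652153540343074447661646164063361740742930346072974987711706954956631093835539309860105677054781830118803281701081539945008549527729217911843853003235061380011098478283913256843927053251515071975369506336696126973002270195855309150600179083631474508840989697608744425249258986564942191433441947775979744766636376406041642959356572271920724086176684318335663513772084891970766422260716843420180874687691163434825218537636897807028558961281779620225365429056072901901205413481284003956588341797070184778055614061530369804589936515959622375589030418,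 1513130434003023266613767026325995793712414959070442126819513153852061205942739458982460491816517262846730613317617677687603269714637092998730828276929399732782476221163632870517345755735302545185912533803693772151579644749089815320603073745200943812434758257643231127836735784606827341821700697865576585755476004718950547435259614963792129281475307173261288030207374887901523892239088136978472144810336546498775613873600931814121101511391207477243004880797330406375773110691405910424428832669678401707264167537192672279216415451672726340827001534015332812786261710235220061652142599055626876270058278925243442982407088573381627110725657557419519299045237206758451576253326348369257850932051504159327860622874929473608633171706909143715791082930704780257856048141293805549538264167654515587766043191168235652481982962421970634432816094967510247023780203173259566634301207208041769574496559883917635340478139976237819520, 157220326130560528265131062945385355129345909324463727562980894315431001558268916414890024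2731399397972067449710732465208538588600802252924915299649940752059767667023726690538221443151365911365230242423785897963794698467852441679908221354655535510999384750318852439373056120774308830777015329230700702416050844391166658983688463754003321863472200713548614382576653412665451215335944426741401011349015215089229016412168375430870503980882130078071296009452127625626514698442373972455306698092422680068799666637318696995070045651647440947193389488291974042763038450546228114768649471039386251880552978014433307812618232492683341838526676164935155459987590224065209472284616119241579571370863887730335652493321345389816154707890128624027233938332656712272507750773382316678978023358481962788290210608980204166500814177118557651689209590212176926454094979685470378012496105154261691347443201227434881818817529640878018171130]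

/-- Its multiplication table. -/
def qTab : List ℕ := [0, 1, 2, 3, 4, 5, 6, 7, 8, 1, 2, 0, 4, 5, 3, 7, 8, 6, 2, 0, 1, 5, 3, 4, 8, 6, 7, 3, 4, 5, 6, 7, 8, 0, 1, 2, 4, 5, 3, 7, 8, 6, 1, 2, 0, 5, 3, 4, 8, 6, 7, 2, 0, 1, 6, 7, 8, 0, 1, 2, 3, 4, 5, 7, 8, 6, 1, 2, 0, 4, 5, 3, 8, 6, 7, 2, 0, 1, 5, 3, 4]

/-- Witnesses for its elements. -/
def qWit : List (List (List ℕ)) := [[], [[1, 1], [1, 1]], [[1, 1], [1, 1]], [[0, 0], [0, 0]], [[0, 1], [0, 1]], [[0, 0], [0, 0]], [[0, 0], [0, 0]], [[0, 0], [0, 0]], [[0, 1], [0, 1]]]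

/-- The class of each element of the Sylow subgroup. -/
def clsCert : List (ℕ × List ℕ × List (List ℕ)) := [(4, [], []), (0, [2, 1, 4, 2, 1, 3], [[], [1]]), (4, [], []), (0, [3, 4, 3, 0, 2, 5, 3], [[], [1]]), (0, [0, 2, 4, 3, 5, 2, 0, 3], [[], [1]]), (4, [], []), (0, [2, 4, 2, 1, 2, 5, 1, 3], [[], [1]]), (0, [2, 1, 3, 4, 3, 5, 2, 1], [[], [1]]), (4, [], []), (0, [3, 0, 4, 2, 1, 3], [[], [1]]), (4, [], []), (0, [3, 4, 3, 5, 2, 0, 3], [[], [1]]), (0, [2, 4, 3, 5, 2, 0, 3], [[], [1]]), (4, [], []), (0, [2, 1, 4, 3, 5, 2, 0, 3], [[], [1]]), (0, [2, 1, 4, 3, 2, 5, 2, 1], [[], [1]]), (4, [], []), (1, [3, 4, 3, 5, 2, 1, 2], [[], [1], [2], [3], [5], [1, 1], [2, 1], [3, 1]]), (1, [0, 1, 2, 4, 3, 5, 2, 1, 2], [[], [1], [2], [3], [4], [5], [6], [2, 1]]), (4, [], []), (4, [], []), (2, [2, 4, 3, 0, 2, 5, 3], [[], [1]]), (4, [], []), (2, [0, 1, 0], [[], [1]]), (1, [3, 1, 5, 3], [[], [1], [3], [5], [6], [3, 1], [5, 1], [6, 1]]), (4, [], []), (4, [], []), (4, [], []), (4, [], []), (4, [], []), (4, [], []), (4, [],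 []), (0, [0, 3, 5], [[], [1]]), (4, [], []), (4, [], []), (4, [], []), (2, [2, 1, 4], [[], [1]]), (4, [], []), (4, [], []), (4, [], []), (3, [1, 3, 5], [[], [1]]), (1, [2, 3, 0, 4, 2, 1, 3], [[], [1], [2], [3], [4], [6], [2, 1], [3, 1]]), (4, [], []), (4, [], []), (4, [], []), (4, [], []), (4, [], []), (4, [], []), (1, [1, 3, 4, 3, 0, 3], [[], [1], [2], [3], [6], [1, 1], [2, 1], [3, 1]]), (3, [1, 3, 1], [[], [1]]), (4, [], []), (4, [], []), (4, [], []), (4, [], []), (4, [], []), (4, [], []), (4, [], []), (4, [], []), (2, [2, 4, 3, 0, 3], [[], [1]]), (2, [3, 0, 3], [[], [1]]), (0, [3, 0, 3, 4], [[], [2]]), (0, [2, 1, 3, 4, 2], [[], [1]]), (4, [], []), (4, [], []), (4, [], []), (1, [3, 4, 2, 1, 2, 5, 3], [[], [1], [2], [3], [5], [1, 1], [2, 1], [3, 1]]), (1, [2, 3, 4, 2, 1, 2, 5, 3], [[], [1], [2], [3], [4], [5], [6], [2, 1]]), (4, [], []), (4, [], []), (2, [0, 2, 4, 3, 0, 2, 5, 3], [[], [1]]), (4, [], []), (2, [1, 0], [[], [1]]), (1, [0, 1, 5], [[], [1], [3], [5], [6], [3, 1], [5, 1], [6, 1]]), (4,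 [], []), (4, [], []), (4, [], []), (4, [], []), (4, [], []), (4, [], []), (4, [], []), (0, [3, 5], [[], [1]]), (4, [], []), (4, [], []), (4, [], []), (2, [0, 2, 1, 4], [[], [1]]), (4, [], []), (4, [], []), (4, [], []), (3, [1, 2, 1], [[], [1]]), (1, [1, 3, 0, 4, 3, 0, 3], [[], [1], [2], [3], [4], [6], [2, 1], [3, 1]]), (4, [], []), (4, [], []), (4, [], []), (4, [], []), (4, [], []), (4, [], []), (1, [0, 1, 2, 4, 1, 3, 0, 3], [[], [1], [2], [3], [6], [1, 1], [2, 1], [3, 1]]), (3, [1, 3], [[], [1]]), (4, [], []), (4, [], []), (4, [], []), (4, [], []), (4, [], []), (4, [], []), (4, [], []), (4, [], []), (2, [0, 2, 4, 3, 0, 3], [[], [1]]), (2, [0, 3, 0, 3], [[], [1]]), (0, [2, 1, 3, 4], [[], [2]]), (0, [2, 1, 4, 2, 3], [[], [1]]), (4, [], []), (4, [], []), (2, [], [[], [2]]), (0, [2, 4, 2, 1, 5, 1], [[], [1]]), (4, [], []), (1, [3, 4, 3, 0, 2, 5, 3, 4], [[], [1], [2], [3], [4], [5], [1, 1], [2, 1]]), (1, [3, 1, 4, 3, 5, 2, 1, 2], [[], [1], [2], [5], [6], [1, 1], [2, 1], [3, 1]]), (4, [], []), (2, [2,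 4, 2, 1, 2, 5, 3], [[], [1]]), (0, [2, 4, 2], [[], [1]]), (4, [], []), (4, [], []), (4, [], []), (4, [], []), (4, [], []), (4, [], []), (1, [3, 4, 2, 1, 5, 1], [[], [1], [2], [3], [4], [6], [2, 1], [3, 1]]), (1, [], [[], [1], [2], [6], [4, 1], [6, 1], [6, 2], [6, 4, 1]]), (4, [], []), (4, [], []), (4, [], []), (4, [], []), (4, [], []), (0, [2, 1, 4, 5], [[], [1]]), (4, [], []), (2, [3, 2], [[], [1]]), (4, [], []), (4, [], []), (4, [], []), (4, [], []), (4, [], []), (4, [], []), (4, [], []), (1, [0, 1, 0], [[], [1], [2], [5], [6], [2, 1], [5, 1], [6, 1]]), (4, [], []), (4, [], []), (4, [], []), (4, [], []), (4, [], []), (4, [], []), (1, [0, 1], [[], [1], [2], [5], [6], [2, 1], [5, 1], [6, 1]]), (4, [], []), (4, [], []), (4, [], []), (1, [0, 1, 3, 2], [[], [1], [3], [6], [2, 1], [6, 1], [6, 3], [5, 6]]), (4, [], []), (4, [], []), (1, [3, 4], [[], [1], [2], [3], [5], [1, 1], [3, 1], [4, 1]]), (4, [], []), (4, [], []), (2, [0, 2, 3], [[], [2]]), (4, [], []), (4, [], []), (4, [], []), (4, [], []), (4,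 [], []), (4, [], []), (1, [3, 4, 3, 5, 2, 1], [[], [1], [2], [3], [4], [5], [6], [1, 1]]), (2, [0, 1], [[], [1]]), (4, [], []), (4, [], []), (2, [2, 4, 1, 2, 1, 2, 5, 3], [[], [1]]), (1, [3, 4, 3, 0, 2, 1, 5, 3], [[], [1], [2], [4], [5], [6], [2, 1], [3, 1]]), (4, [], []), (1, [3, 0, 4, 3, 5, 2, 1, 2], [[], [1], [2], [3], [4], [5], [6], [2, 1]]), (4, [], []), (4, [], []), (1, [1, 3], [[], [1], [3], [6], [2, 1], [6, 1], [6, 3], [5, 6]]), (4, [], []), (4, [], []), (4, [], []), (4, [], []), (4, [], []), (1, [0, 2, 1, 2, 4], [[], [1], [2], [3], [5], [1, 1], [3, 1], [4, 1]]), (4, [], []), (4, [], []), (4, [], []), (2, [1, 2, 1, 5], [[], [1]]), (4, [], []), (4, [], []), (4, [], []), (4, [], []), (4, [], []), (4, [], []), (1, [2, 3, 1, 4], [[], [1], [2], [3], [4], [5], [6], [1, 1]]), (4, [], []), (4, [], []), (4, [], []), (4, [], []), (1, [2, 3, 0], [[], [1], [4], [5], [2, 1], [5, 1], [5, 4], [1, 5]]), (2, [2, 3], [[], [2]]), (4, [], []), (4, [], []), (4, [], []), (4, [], []), (4, [], []), (4, [], []), (1,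 [2, 3, 4, 3, 5, 1, 2, 1], [[], [1], [2], [3], [4], [5], [6], [1, 1]]), (2, [0, 1, 3, 5], [[], [1]]), (4, [], []), (4, [], []), (4, [], []), (4, [], []), (4, [], []), (4, [], []), (4, [], []), (4, [], []), (1, [1, 0, 5, 2], [[], [1], [2], [5], [6], [4, 1], [5, 1], [6, 1]]), (4, [], []), (4, [], []), (4, [], []), (4, [], []), (4, [], []), (4, [], []), (1, [0, 1, 2, 4], [[], [1], [2], [3], [4], [5], [2, 1], [6, 1]]), (4, [], []), (4, [], []), (1, [1, 3, 1], [[], [1], [2], [5], [2, 1], [5, 1], [6, 1], [5, 2, 1]]), (4, [], []), (4, [], []), (4, [], []), (4, [], []), (4, [], []), (4, [], []), (4, [], []), (4, [], []), (4, [], []), (4, [], []), (4, [], []), (1, [0, 1, 0, 5], [[], [1], [3], [5], [6], [3, 1], [5, 1], [6, 1]]), (4, [], []), (4, [], []), (4, [], []), (1, [0, 2, 1], [[], [5], [6], [3, 5], [6, 5], [3, 6], [6, 6], [6, 3, 5]]), (4, [], []), (1, [1, 3, 4, 2], [[], [1], [2], [3], [4], [5], [6], [1, 1]]), (4, [], []), (4, [], []), (4, [], []), (1, [3, 1, 3, 2], [[], [1], [2], [5], [6], [6, 1], [6,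 2], [6, 5]]), (4, [], []), (4, [], []), (4, [], []), (4, [], []), (4, [], []), (1, [3, 0, 4], [[], [1], [2], [3], [4], [5], [1, 1], [3, 1]]), (4, [], []), (1, [1, 0, 5], [[], [1], [3], [5], [6], [2, 1], [5, 1], [6, 1]]), (4, [], []), (4, [], []), (4, [], []), (4, [], []), (4, [], []), (4, [], []), (4, [], []), (4, [], []), (4, [], []), (1, [1, 3, 4, 2, 5], [[], [1], [2], [4], [5], [6], [1, 1], [2, 1]]), (4, [], []), (1, [3, 0, 2], [[], [3], [5], [6], [5, 3], [6, 3], [6, 5], [6, 5, 3]]), (4, [], []), (4, [], []), (4, [], []), (4, [], []), (4, [], []), (1, [1, 2, 3, 2], [[], [1], [2], [5], [6], [2, 1], [5, 1], [6, 1]]), (4, [], []), (4, [], []), (4, [], []), (4, [], []), (1, [0, 1, 0, 2, 4], [[], [1], [2], [3], [4], [5], [2, 1], [6, 1]]), (4, [], []), (4, [], []), (1, [3, 1], [[], [1], [3], [5], [3, 1], [5, 1], [5, 3], [5, 3, 1]]), (4, [], []), (4, [], []), (4, [], []), (4, [], []), (0, [0], [[], [1]]), (2, [2, 4, 2, 1, 5, 1], [[], [1]]), (4, [], []), (0, [3, 4, 2, 1, 2, 5, 3], [[], [1]]), (0, [0, 2,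 4, 3, 0, 2, 5, 3], [[], [1]]), (4, [], []), (0, [2, 4, 3, 5, 2, 1, 2], [[], [2]]), (2, [0, 2, 4, 2], [[], [1]]), (2, [0], [[], [2]]), (0, [0, 2, 4, 2, 1, 5, 1], [[], [1]]), (4, [], []), (1, [3, 4, 3, 0, 2, 5, 3, 0], [[], [1], [2], [3], [4], [5], [1, 1], [2, 1]]), (1, [3, 4, 3, 0, 2, 5, 3], [[], [1], [2], [5], [6], [1, 1], [2, 1], [3, 1]]), (4, [], []), (2, [2, 4, 3, 5, 2, 1, 2], [[], [1]]), (0, [0, 2, 4, 2], [[], [1]]), (4, [], []), (4, [], []), (4, [], []), (4, [], []), (4, [], []), (4, [], []), (1, [3, 1, 4, 3, 0, 5, 1], [[], [1], [2], [3], [4], [6], [2, 1], [3, 1]]), (1, [0, 2, 1, 2, 3], [[], [1], [2], [6], [4, 1], [6, 1], [6, 2], [6, 4, 1]]), (4, [], []), (4, [], []), (4, [], []), (4, [], []), (4, [], []), (0, [3, 0, 4, 5], [[], [1]]), (4, [], []), (2, [0, 3, 2], [[], [1]]), (4, [], []), (4, [], []), (4, [], []), (4, [], []), (4, [], []), (4, [], []), (4, [], []), (1, [2, 3, 2], [[], [1], [2], [5], [6], [2, 1], [5, 1], [6, 1]]), (2, [1], [[], [1]]), (4, [], []), (4, [], []), (2, [2, 4, 3, 0, 2,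 5, 3, 0], [[], [1]]), (1, [3, 0, 4, 3, 0, 2, 5, 3], [[], [1], [2], [4], [5], [6], [2, 1], [3, 1]]), (4, [], []), (1, [3, 0, 4, 2, 1, 2, 5, 3], [[], [1], [2], [3], [4], [5], [6], [2, 1]]), (4, [], []), (4, [], []), (4, [], []), (4, [], []), (2, [1, 3, 0, 5], [[], [1]]), (4, [], []), (4, [], []), (4, [], []), (4, [], []), (4, [], []), (4, [], []), (1, [3, 0, 2, 3, 4], [[], [1], [2], [3], [4], [5], [6], [1, 1]]), (4, [], []), (4, [], []), (4, [], []), (4, [], []), (1, [0, 1, 0, 2, 0], [[], [1], [4], [5], [2, 1], [5, 1], [5, 4], [1, 5]]), (2, [1, 3, 5], [[], [1]]), (4, [], []), (4, [], []), (4, [], []), (4, [], []), (4, [], []), (4, [], []), (4, [], []), (4, [], []), (1, [1], [[], [1], [2], [5], [6], [4, 1], [5, 1], [6, 1]]), (4, [], []), (4, [], []), (4, [], []), (4, [], []), (4, [], []), (4, [], []), (1, [1, 2, 3, 4], [[], [1], [2], [3], [4], [5], [2, 1], [6, 1]]), (4, [], []), (4, [], []), (1, [3, 1, 5], [[], [1], [2], [5], [2, 1], [5, 1], [6, 1], [5, 2, 1]]), (4, [], []), (4, [], []), (4, [], []),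 (4, [], []), (4, [], []), (4, [], []), (4, [], []), (4, [], []), (4, [], []), (4, [], []), (4, [], []), (1, [2, 3, 0, 2], [[], [1], [3], [5], [6], [3, 1], [5, 1], [6, 1]]), (4, [], []), (4, [], []), (4, [], []), (1, [3, 2], [[], [5], [6], [3, 5], [6, 5], [3, 6], [6, 6], [6, 3, 5]]), (4, [], []), (1, [1, 3, 4, 2, 0], [[], [1], [2], [3], [4], [5], [6], [1, 1]]), (4, [], []), (4, [], []), (4, [], []), (1, [1, 3, 0], [[], [1], [2], [5], [6], [6, 1], [6, 2], [6, 5]]), (4, [], []), (4, [], []), (4, [], []), (4, [], []), (4, [], []), (1, [3, 2, 5, 2, 4], [[], [1], [2], [3], [4], [5], [1, 1], [3, 1]]), (4, [], []), (1, [1, 2], [[], [1], [3], [5], [6], [2, 1], [5, 1], [6, 1]]), (4, [], []), (4, [], []), (4, [], []), (4, [], []), (4, [], []), (4, [], []), (4, [], []), (4, [], []), (4, [], []), (1, [1, 3, 0, 4, 2], [[], [1], [2], [4], [5], [6], [1, 1], [2, 1]]), (4, [], []), (1, [3, 2, 5], [[], [3], [5], [6], [5, 3], [6, 3], [6, 5], [6, 5, 3]]), (4, [], []), (4, [], []), (1, [2, 3, 4], [[], [1], [2], [3], [4],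 [5], [2, 1], [6, 1]]), (4, [], []), (4, [], []), (1, [1, 3, 1, 5], [[], [1], [3], [5], [3, 1], [5, 1], [5, 3], [5, 3, 1]]), (4, [], []), (4, [], []), (4, [], []), (4, [], []), (0, [], [[], [1]]), (2, [0, 2, 4, 2, 1, 5, 1], [[], [1]]), (4, [], []), (0, [0, 3, 4, 2, 1, 2, 5, 3], [[], [1]]), (0, [2, 4, 3, 0, 2, 5, 3], [[], [1]]), (4, [], []), (0, [2, 4, 2, 1, 2, 5, 3], [[], [2]]), (2, [2, 4, 2], [[], [1]]), (1, [2, 3, 1], [[], [1], [3], [5], [6], [3, 1], [5, 1], [5, 3]]), (4, [], []), (4, [], []), (4, [], []), (1, [2, 3, 0, 4], [[], [1], [2], [4], [5], [6], [2, 1], [3, 1]]), (4, [], []), (4, [], []), (4, [], []), (1, [3, 0, 4, 2, 1, 5, 1], [[], [1], [2], [3], [5], [6], [2, 1], [3, 1]]), (1, [3, 2, 1, 2], [[], [1], [4], [6], [2, 1], [6, 1], [6, 4], [6, 2, 1]]), (4, [], []), (4, [], []), (4, [], []), (4, [], []), (4, [], []), (4, [], []), (4, [], []), (4, [], []), (2, [2, 4, 3, 2, 5, 2, 3], [[], [1]]), (0, [2], [[], [1]]), (2, [2, 4], [[], [2]]), (0, [0, 2, 4, 3, 5, 2, 1], [[], [1]]), (4, [], []), (4,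 [], []), (4, [], []), (1, [1, 3, 0, 4, 3, 5, 2, 1], [[], [1], [2], [4], [5], [6], [1, 1], [5, 1]]), (4, [], []), (4, [], []), (4, [], []), (4, [], []), (3, [3, 5], [[], [1]]), (4, [], []), (4, [], []), (4, [], []), (2, [2, 1, 5], [[], [1]]), (4, [], []), (4, [], []), (4, [], []), (4, [], []), (0, [0, 3, 4], [[], [1]]), (1, [0], [[], [1], [4], [6], [2, 1], [6, 1], [6, 4], [6, 2, 1]]), (1, [3, 4, 2, 1, 5, 1, 5], [[], [1], [2], [3], [5], [6], [2, 1], [3, 1]]), (4, [], []), (4, [], []), (4, [], []), (4, [], []), (4, [], []), (4, [], []), (4, [], []), (1, [3, 4, 2, 0], [[], [1], [2], [3], [4], [5], [6], [1, 1]]), (4, [], []), (4, [], []), (4, [], []), (4, [], []), (1, [1, 3, 2], [[], [1], [5], [6], [5, 1], [6, 1], [6, 5], [6, 5, 1]]), (4, [], []), (4, [], []), (4, [], []), (4, [], []), (4, [], []), (2, [1, 2, 1], [[], [1]]), (4, [], []), (4, [], []), (4, [], []), (4, [], []), (4, [], []), (0, [2, 4, 3, 5, 2, 1], [[], [1]]), (2, [0, 2, 4], [[], [2]]), (0, [0, 2], [[], [1]]), (2, [2, 4, 2, 1, 5, 1, 2], [[],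 [1]]), (4, [], []), (4, [], []), (4, [], []), (4, [], []), (2, [2, 1], [[], [1]]), (4, [], []), (4, [], []), (4, [], []), (4, [], []), (0, [0, 3, 4, 5], [[], [1]]), (4, [], []), (1, [1, 3, 4, 3, 5, 2, 1, 2], [[], [1], [2], [3], [5], [1, 1], [2, 1], [3, 1]]), (1, [2, 3, 4, 3, 5, 2, 1, 2], [[], [1], [2], [3], [4], [5], [6], [2, 1]]), (4, [], []), (4, [], []), (2, [0, 2, 4, 3, 5, 2, 0, 3], [[], [1]]), (4, [], []), (3, [1, 4], [[], [1]]), (1, [2, 3], [[], [1], [2], [5], [6], [4, 1], [5, 2], [6, 2]]), (4, [], []), (4, [], []), (4, [], []), (1, [1, 3, 1, 4, 5], [[], [1], [2], [5], [1, 1], [2, 1], [3, 1], [6, 1]]), (4, [], []), (4, [], []), (4, [], []), (4, [], []), (1, [0, 1, 2], [[], [1], [3], [5], [6], [2, 1], [5, 1], [5, 3]]), (1, [1, 3, 1, 4], [[], [1], [2], [5], [1, 1], [2, 1], [3, 1], [6, 1]]), (4, [], []), (4, [], []), (4, [], []), (4, [], []), (4, [], []), (4, [], []), (4, [], []), (1, [3, 1, 4, 5, 2, 1, 3], [[], [1], [2], [3], [6], [1, 1], [2, 1], [3, 1]]), (2, [0, 2, 1, 3], [[], [1]]), (4, [],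 []), (4, [], []), (4, [], []), (4, [], []), (4, [], []), (2, [0, 2, 1], [[], [1]]), (4, [], []), (4, [], []), (4, [], []), (0, [3, 4, 5], [[], [1]]), (4, [], []), (4, [], []), (4, [], []), (1, [3, 4, 3, 5, 1, 2, 1, 2], [[], [1], [2], [3], [4], [5], [6], [2, 1]]), (1, [1, 3, 4, 2, 1, 2, 5, 3], [[], [1], [2], [3], [5], [1, 1], [2, 1], [3, 1]]), (4, [], []), (4, [], []), (3, [1, 0], [[], [1]]), (4, [], []), (2, [2, 4, 3, 5, 2, 0, 3], [[], [1]]), (4, [], []), (4, [], []), (4, [], []), (1, [3, 0, 2, 3], [[], [1], [3], [5], [6], [3, 1], [5, 1], [5, 3]]), (4, [], []), (4, [], []), (1, [0, 1, 0, 2, 0, 4], [[], [1], [2], [4], [5], [6], [2, 1], [3, 1]]), (4, [], []), (4, [], []), (2, [0, 2, 1, 4, 5], [[], [1]]), (0, [3], [[], [1]]), (4, [], []), (4, [], []), (4, [], []), (4, [], []), (4, [], []), (2, [0, 3, 0], [[], [1]]), (4, [], []), (4, [], []), (4, [], []), (4, [], []), (4, [], []), (4, [], []), (4, [], []), (1, [3, 4, 2], [[], [1], [2], [3], [4], [5], [6], [1, 1]]), (4, [], []), (4, [], []), (4, [], []),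 (4, [], []), (4, [], []), (4, [], []), (1, [0, 1, 3], [[], [1], [5], [6], [5, 1], [6, 1], [6, 5], [6, 5, 1]]), (4, [], []), (1, [3, 4, 3, 5, 2, 1, 5], [[], [1], [2], [4], [5], [6], [1, 1], [5, 1]]), (4, [], []), (4, [], []), (4, [], []), (4, [], []), (2, [1, 2], [[], [2]]), (4, [], []), (4, [], []), (1, [3, 1, 4], [[], [1], [2], [5], [1, 1], [2, 1], [3, 1], [6, 1]]), (1, [0, 1, 0, 2], [[], [1], [2], [5], [6], [4, 1], [5, 2], [6, 2]]), (4, [], []), (4, [], []), (4, [], []), (4, [], []), (4, [], []), (4, [], []), (1, [1, 2, 3], [[], [1], [3], [5], [6], [2, 1], [5, 1], [5, 3]]), (1, [3, 1, 4, 5], [[], [1], [2], [5], [1, 1], [2, 1], [3, 1], [6, 1]]), (4, [], []), (4, [], []), (4, [], []), (4, [], []), (4, [], []), (4, [], []), (4, [], []), (1, [3, 4, 3, 0, 3], [[], [1], [2], [3], [6], [1, 1], [2, 1], [3, 1]]), (2, [2, 1, 3], [[], [1]]), (4, [], []), (4, [], []), (4, [], []), (4, [], []), (4, [], []), (1, [3, 1, 2], [[], [1], [2], [5], [6], [2, 1], [5, 2], [6, 2]]), (1, [1, 2, 3, 0, 4], [[], [1], [2],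 [4], [5], [6], [2, 1], [3, 1]]), (4, [], []), (4, [], []), (4, [], []), (4, [], []), (4, [], []), (4, [], []), (4, [], []), (4, [], []), (2, [0, 3, 5], [[], [1]]), (4, [], []), (4, [], []), (4, [], []), (4, [], []), (4, [], []), (2, [3, 0, 2], [[], [1]]), (0, [3, 0, 4], [[], [1]]), (4, [], []), (4, [], []), (4, [], []), (4, [], []), (4, [], []), (4, [], []), (4, [], []), (0, [2, 4, 2, 1, 5, 1, 2], [[], [1]]), (2, [2], [[], [3]]), (0, [2, 4], [[], [1]]), (2, [0, 2, 4, 3, 5, 2, 1], [[], [1]]), (4, [], []), (4, [], []), (4, [], []), (4, [], []), (4, [], []), (2, [0, 1, 3], [[], [1]]), (4, [], []), (4, [], []), (4, [], []), (4, [], []), (4, [], []), (4, [], []), (1, [1, 5], [[], [1], [2], [5], [6], [3, 1], [5, 1], [6, 1]]), (4, [], []), (4, [], []), (4, [], []), (4, [], []), (4, [], []), (0, [0, 3], [[], [1]]), (4, [], []), (4, [], []), (4, [], []), (2, [2, 1, 4, 5], [[], [1]]), (4, [], []), (4, [], []), (4, [], []), (1, [1, 3, 4, 3, 5, 2, 1], [[], [1], [2], [3], [4], [5], [6], [1, 1]]), (4, [], []),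 (4, [], []), (4, [], []), (4, [], []), (4, [], []), (4, [], []), (3, [2, 3], [[], [1]]), (4, [], []), (4, [], []), (2, [1, 3], [[], [1]]), (4, [], []), (4, [], []), (4, [], []), (4, [], []), (4, [], []), (4, [], []), (0, [2, 1, 4], [[], [1]]), (2, [3, 2, 5], [[], [1]]), (4, [], []), (4, [], []), (4, [], []), (4, [], []), (4, [], []), (1, [0, 2], [[], [1], [2], [6], [3, 1], [6, 1], [6, 2], [6, 3, 1]]), (1, [3, 4, 3, 2, 5, 2, 3], [[], [1], [2], [3], [5], [6], [2, 1], [3, 1]]), (4, [], []), (4, [], []), (4, [], []), (4, [], []), (4, [], []), (4, [], []), (4, [], []), (2, [2, 4, 1, 3, 0, 2, 5, 3], [[], [1]]), (1, [1, 3, 0, 4, 2, 1, 2, 5, 3], [[], [1], [2], [3], [4], [5], [6], [2, 1]]), (4, [], []), (4, [], []), (3, [1], [[], [1]]), (4, [], []), (1, [1, 3, 4, 3, 0, 2, 1, 5, 3], [[], [1], [2], [4], [5], [6], [2, 1], [3, 1]]), (0, [2, 1], [[], [1]]), (4, [], []), (4, [], []), (2, [3, 2, 4, 5], [[], [1]]), (4, [], []), (4, [], []), (4, [], []), (4, [], []), (4, [], []), (2, [2, 4, 1, 5], [[], [1]]), (4, [],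 []), (4, [], []), (4, [], []), (0, [3, 0], [[], [1]]), (4, [], []), (4, [], []), (4, [], []), (4, [], []), (4, [], []), (4, [], []), (4, [], []), (2, [0, 3], [[], [1]]), (4, [], []), (4, [], []), (4, [], []), (0, [3, 4], [[], [1]]), (4, [], []), (4, [], []), (4, [], []), (2, [0, 2, 1, 5], [[], [1]]), (4, [], []), (4, [], []), (1, [1, 3, 4, 2, 1, 5, 1], [[], [1], [2], [3], [4], [6], [2, 1], [3, 1]]), (1, [3, 2, 1, 0], [[], [1], [3], [6], [2, 1], [6, 1], [6, 3], [6, 2, 1]]), (4, [], []), (4, [], []), (4, [], []), (4, [], []), (4, [], []), (4, [], []), (2, [1, 3, 0], [[], [1]]), (4, [], []), (4, [], []), (4, [], []), (4, [], []), (4, [], []), (4, [], []), (4, [], []), (2, [3, 0], [[], [1]]), (4, [], []), (4, [], []), (4, [], []), (4, [], []), (4, [], []), (4, [], []), (4, [], []), (1, [3, 2, 1], [[], [1], [2], [6], [3, 1], [6, 1], [6, 2], [6, 3, 1]]), (1, [1, 3, 4, 2, 1, 5, 1, 5], [[], [1], [2], [3], [5], [6], [2, 1], [3, 1]]), (4, [], []), (4, [], []), (4, [], []), (4, [], []), (4, [], []), (4, [],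 []), (4, [], []), (1, [1, 3, 4, 3, 5, 2, 1, 5], [[], [1], [2], [4], [5], [6], [1, 1], [5, 1]]), (4, [], []), (4, [], []), (4, [], []), (4, [], []), (3, [1, 2], [[], [1]]), (4, [], []), (4, [], []), (1, [3, 0, 4, 3, 5, 2, 1], [[], [1], [2], [4], [5], [6], [1, 1], [5, 1]]), (4, [], []), (4, [], []), (4, [], []), (4, [], []), (2, [0, 1, 2], [[], [2]]), (4, [], []), (4, [], []), (1, [0, 1, 2, 1], [[], [1], [2], [5], [6], [2, 1], [5, 2], [6, 2]]), (1, [0, 1, 2, 0, 4], [[], [1], [2], [4], [5], [6], [2, 1], [3, 1]]), (4, [], []), (4, [], []), (4, [], []), (4, [], []), (4, [], []), (4, [], []), (4, [], []), (4, [], []), (2, [3, 5], [[], [1]]), (4, [], []), (4, [], []), (4, [], []), (4, [], []), (4, [], []), (4, [], []), (0, [2, 4, 3, 2, 5, 2, 3], [[], [1]]), (2, [0, 2], [[], [3]]), (0, [0, 2, 4], [[], [1]]), (2, [2, 4, 3, 5, 2, 1], [[], [1]]), (4, [], []), (4, [], []), (4, [], []), (4, [], []), (1, [1, 2, 0], [[], [1], [2], [5], [6], [3, 1], [5, 1], [6, 1]]), (4, [], []), (4, [], []), (4, [], []), (4, [],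 []), (4, [], []), (1, [3, 4, 3, 2, 5, 2, 1, 3], [[], [1], [2], [3], [4], [5], [6], [1, 1]]), (4, [], []), (4, [], []), (4, [], []), (4, [], []), (4, [], []), (4, [], []), (3, [3], [[], [1]]), (4, [], []), (2, [2, 4, 1, 3, 5, 2, 0, 3], [[], [1]]), (1, [1, 3, 0, 4, 3, 5, 2, 1, 2], [[], [1], [2], [3], [4], [5], [6], [2, 1]]), (4, [], []), (4, [], []), (3, [1, 5], [[], [1]]), (4, [], []), (1, [3, 0, 4, 3, 5, 2, 0, 3], [[], [1], [2], [4], [5], [6], [2, 1], [3, 1]]), (4, [], []), (4, [], []), (4, [], []), (4, [], []), (4, [], []), (2, [3], [[], [1]]), (4, [], []), (4, [], []), (1, [3, 4, 2, 1, 5, 1, 2], [[], [1], [2], [3], [4], [6], [2, 1], [3, 1]]), (1, [2], [[], [1], [3], [6], [2, 1], [6, 1], [6, 3], [6, 2, 1]]), (4, [], []), (4, [], []), (4, [], []), (4, [], []), (4, [], []), (4, [], []), (4, [], []), (1, [1, 0], [[], [1], [4], [5], [6], [2, 1], [5, 1], [6, 1]]), (4, [], []), (4, [], []), (4, [], []), (4, [], []), (4, [], []), (4, [], []), (2, [2, 4, 1], [[], [1]]), (4, [], []), (4, [], []), (0, [3,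 0, 5], [[], [1]]), (4, [], []), (4, [], []), (4, [], []), (4, [], []), (3, [], [[], [1]]), (2, [2, 1, 4, 2, 1, 3], [[], [1]]), (4, [], []), (1, [3, 4, 3, 5, 1, 2, 0, 3], [[], [1], [2], [3], [4], [5], [1, 1], [2, 1]]), (1, [3, 4, 3, 5, 2, 0, 3], [[], [1], [2], [5], [6], [1, 1], [2, 1], [3, 1]]), (4, [], []), (2, [2, 4, 2, 1, 2, 5, 1, 3], [[], [2]]), (2, [2, 1, 4, 3, 2, 5, 2, 1], [[], [1]]), (4, [], []), (4, [], []), (1, [3], [[], [1], [2], [5], [6], [6, 1], [6, 2], [6, 5]]), (4, [], []), (4, [], []), (1, [0, 1, 2, 4, 1], [[], [1], [2], [3], [5], [1, 1], [3, 1], [4, 1]]), (4, [], []), (4, [], []), (4, [], []), (4, [], []), (1, [3, 1, 2, 4], [[], [1], [2], [3], [4], [5], [6], [1, 1]]), (4, [], []), (4, [], []), (4, [], []), (4, [], []), (1, [1, 2, 3, 0], [[], [1], [2], [5], [3, 1], [5, 1], [6, 1], [1, 5]]), (4, [], []), (4, [], []), (4, [], []), (4, [], []), (2, [1, 2, 1, 3], [[], [1]]), (1, [3, 0, 4, 2, 3, 1, 3], [[], [1], [2], [3], [4], [6], [2, 1], [3, 1]]), (4, [], []), (4, [], []), (4, [], []),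 (4, [], []), (4, [], []), (4, [], []), (4, [], []), (4, [], []), (2, [3, 0, 5], [[], [1]]), (4, [], []), (4, [], []), (4, [], []), (4, [], []), (4, [], []), (0, [2, 1, 5], [[], [1]]), (4, [], []), (2, [3, 2, 4], [[], [1]]), (4, [], []), (2, [2, 1, 4, 3, 5, 2, 0, 3], [[], [2]]), (2, [2, 4, 3, 0, 2, 4, 5, 1], [[], [1]]), (4, [], []), (1, [3, 4, 3, 2, 5, 2, 1, 2], [[], [1], [2], [5], [6], [1, 1], [2, 1], [3, 1]]), (1, [2, 3, 4, 3, 0, 2, 5, 3], [[], [1], [2], [3], [4], [5], [1, 1], [2, 1]]), (4, [], []), (3, [2], [[], [1]]), (2, [0, 2, 1, 4, 2, 1, 3], [[], [1]]), (4, [], []), (1, [3, 1, 3], [[], [1], [5], [6], [5, 1], [6, 1], [6, 5], [6, 5, 1]]), (4, [], []), (4, [], []), (4, [], []), (4, [], []), (1, [3, 0, 4, 2], [[], [1], [2], [4], [5], [6], [1, 1], [2, 1]]), (4, [], []), (4, [], []), (4, [], []), (0, [2, 1, 3], [[], [2]]), (0, [0, 2, 4, 3, 0, 3], [[], [1]]), (2, [2, 1, 4, 2, 3], [[], [1]]), (2, [0, 3, 0, 3, 4], [[], [1]]), (4, [], []), (4, [], []), (1, [0, 1, 3, 5], [[], [1], [5], [6], [5, 1], [6,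 1], [6, 5], [6, 5, 1]]), (4, [], []), (4, [], []), (4, [], []), (4, [], []), (4, [], []), (4, [], []), (1, [3, 4, 2, 5], [[], [1], [2], [4], [5], [6], [1, 1], [2, 1]]), (4, [], []), (4, [], []), (4, [], []), (4, [], []), (2, [0, 3, 0, 5], [[], [1]]), (4, [], []), (4, [], []), (4, [], []), (4, [], []), (1, [0, 2, 1, 2], [[], [1], [2], [5], [6], [6, 1], [6, 2], [6, 5]]), (4, [], []), (4, [], []), (4, [], []), (4, [], []), (4, [], []), (1, [1, 3, 4], [[], [1], [2], [3], [5], [1, 1], [3, 1], [4, 1]]), (4, [], []), (4, [], []), (1, [1, 2, 5], [[], [1], [4], [5], [6], [2, 1], [5, 1], [6, 1]]), (4, [], []), (4, [], []), (4, [], []), (4, [], []), (4, [], []), (4, [], []), (4, [], []), (4, [], []), (4, [], []), (1, [0, 1, 2, 0], [[], [1], [2], [5], [3, 1], [5, 1], [6, 1], [1, 5]]), (4, [], []), (1, [0, 1, 2, 1, 4], [[], [1], [2], [3], [4], [5], [6], [1, 1]]), (4, [], []), (4, [], []), (4, [], []), (4, [], []), (4, [], []), (2, [1, 3, 0, 3], [[], [1]]), (1, [3, 0, 4, 3, 0, 3], [[], [1], [2], [3], [4], [6],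 [2, 1], [3, 1]]), (4, [], []), (4, [], []), (4, [], []), (4, [], []), (0, [3, 0, 3], [[], [2]]), (0, [2, 4, 3, 0, 3], [[], [1]]), (2, [3, 0, 3, 4, 2], [[], [1]]), (2, [3, 0, 3, 4], [[], [1]]), (4, [], []), (4, [], []), (4, [], []), (4, [], []), (1, [3, 0], [[], [1], [6], [1, 1], [2, 1], [6, 1], [2, 6], [5, 6]]), (4, [], []), (4, [], []), (1, [3, 1, 3, 2, 4], [[], [1], [2], [3], [4], [5], [1, 1], [3, 1]]), (4, [], []), (4, [], []), (4, [], []), (1, [3, 2, 5, 2], [[], [1], [6], [1, 1], [2, 1], [6, 1], [2, 6], [5, 6]]), (4, [], []), (4, [], []), (4, [], []), (4, [], []), (4, [], []), (1, [1, 3, 0, 4], [[], [1], [2], [3], [4], [5], [1, 1], [3, 1]])]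

/-- Witnesses for the elements centralising representative 0. -/
def scan0 : List (ℕ × List ℕ × List (List ℕ)) := [(0, [], []), (0, [], []), (0, [], []), (0, [0, 1, 1], [[1, 0, 0]]), (0, [0, 2, 0], [[1, 2, 2]]), (0, [], []), (0, [0, 3, 0], [[0, 0]]), (0, [], []), (0, [], []), (0, [], []), (0, [], []), (0, [1, 1, 1], [[1, 0, 0]]), (0, [1, 2, 0], [[1, 2, 2]]), (0, [], []), (0, [1, 3, 0], [[0, 0]]), (0, [], []), (0, [], []), (0, [2, 0, 1], [[0, 0]]), (0, [2, 1, 0], [[1, 1]]), (0, [], []), (0, [], []), (0, [8, 2, 1], [[1, 1, 0, 0]]), (0, [], []), (0, [8, 3, 1], [[1, 1]]), (0, [], []), (0, [17, 3, 0], [[0, 0]]), (0, [122, 0, 0], [[1, 1, 2, 0, 2]]), (0, [], []), (0, [], []), (0, [50, 2, 0], [[1, 2, 1, 2, 0]]), (0, [], []), (0, [29, 0, 0], [[0], [0]]), (0, [4, 0, 0], [[0, 0]]), (0, [], []), (0, [], []), (0, [71, 3, 1], [[1, 1]]), (0, [10, 2, 0], [[0, 1, 0]]), (0, [], []), (0, [84, 3, 0], [[2, 1, 2, 1]]), (0, [], []), (0, [], []), (0, [5, 0, 1], [[0, 0]]), (0, [57, 1, 0], [[0], [1, 1]]), (0, [], []), (0,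 [], []), (0, [104, 1, 1], [[0], [0, 0, 0]]), (0, [], []), (0, [12, 3, 0], [[1, 1, 0, 1, 1]]), (0, [6, 0, 0], [[0, 0]]), (0, [], []), (0, [], []), (0, [98, 2, 1], [[0], [0, 0, 0]]), (0, [85, 2, 0], [[0], [0, 0, 0]]), (0, [], []), (0, [11, 3, 1], [[1, 1, 0, 1, 1]]), (0, [], []), (0, [81, 0, 0], [[0, 1, 2, 1]]), (0, [], []), (0, [], []), (0, [13, 1, 1], [[2, 0, 0, 0, 2]]), (0, [7, 2, 0], [[0, 0]]), (0, [], []), (0, [102, 3, 0], [[1, 1]]), (0, [], []), (0, [], []), (0, [8, 0, 1], [[0, 0]]), (0, [8, 1, 0], [[1, 1]]), (0, [], []), (0, [], []), (0, [2, 2, 1], [[1, 1, 0, 0]]), (0, [], []), (0, [2, 3, 1], [[1, 1]]), (0, [], []), (0, [40, 3, 0], [[0, 0]]), (0, [108, 1, 1], [[1, 1, 2, 0, 2]]), (0, [], []), (0, [], []), (0, [32, 2, 0], [[1, 2, 1, 2, 0]]), (0, [], []), (0, [47, 0, 0], [[0], [0]]), (0, [10, 0, 0], [[0, 0]]), (0, [], []), (0, [], []), (0, [84, 1, 1], [[1, 1]]), (0, [4, 2, 0], [[0, 1, 0]]), (0, [], []), (0, [71, 2, 1], [[2, 1, 2, 1]]), (0, [], []), (0, [], []), (0, [11, 0, 1], [[0, 0]]), (0, [98,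 1, 0], [[0], [1, 1]]), (0, [], []), (0, [], []), (0, [85, 1, 1], [[0], [0, 0, 0]]), (0, [], []), (0, [6, 3, 0], [[1, 1, 0, 1, 1]]), (0, [12, 0, 0], [[0, 0]]), (0, [], []), (0, [], []), (0, [57, 2, 1], [[0], [0, 0, 0]]), (0, [104, 2, 0], [[0], [0, 0, 0]]), (0, [], []), (0, [5, 3, 1], [[1, 1, 0, 1, 1]]), (0, [], []), (0, [102, 0, 0], [[0, 1, 2, 1]]), (0, [], []), (0, [], []), (0, [7, 1, 1], [[2, 0, 0, 0, 2]]), (0, [13, 2, 0], [[0, 0]]), (0, [], []), (0, [81, 3, 0], [[1, 1]]), (0, [], []), (0, [37, 0, 0], [[0]]), (0, [], []), (0, [], []), (0, [14, 1, 1], [[1, 1]]), (0, [14, 2, 0], [[1, 1, 0, 0]]), (0, [], []), (0, [37, 3, 0], [[0, 0]]), (0, [], []), (0, [59, 3, 1], [[0]]), (0, [], []), (0, [], []), (0, [119, 2, 1], [[0], [1, 1]]), (0, [73, 1, 1], [[0], [0, 0, 0]]), (0, [], []), (0, [15, 3, 0], [[0, 0]]), (0, [], []), (0, [], []), (0, [80, 3, 1], [[0]]), (0, [87, 3, 1], [[0, 1, 2, 1]]), (0, [], []), (0, [], []), (0, [16, 2, 1], [[0, 1, 0]]), (0, [], []), (0, [39, 3, 1], [[0, 0]]), (0, [34, 2, 1], [[0],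 [0]]), (0, [], []), (0, [], []), (0, [45, 1, 1], [[1, 1, 0, 1, 1, 0]]), (0, [83, 3, 0], [[1, 0, 1, 0, 1, 0, 0]]), (0, [], []), (0, [3, 0, 1], [[0, 0]]), (0, [], []), (0, [], []), (0, [40, 0, 0], [[0], [0]]), (0, [108, 2, 0], [[0, 1, 2, 1, 2]]), (0, [], []), (0, [], []), (0, [32, 1, 1], [[1, 1, 0, 1, 1, 0]]), (0, [], []), (0, [47, 3, 0], [[0, 0]]), (0, [], []), (2, [111, 0, 1], [[], [0, 0]]), (0, [19, 1, 0], [[2, 0, 2, 0]]), (0, [], []), (0, [], []), (0, [19, 2, 1], [[0, 0]]), (0, [], []), (0, [111, 3, 1], [[2, 2, 1]]), (0, [], []), (0, [74, 3, 1], [[1, 1, 0, 1, 1]]), (0, [124, 0, 1], [[0], [0, 0, 0]]), (0, [], []), (0, [], []), (0, [77, 0, 1], [[0], [1, 1]]), (0, [], []), (0, [20, 3, 1], [[0, 0]]), (0, [41, 0, 0], [[0, 1, 2]]), (0, [], []), (0, [], []), (0, [41, 1, 1], [[1, 0, 0]]), (0, [21, 2, 0], [[2, 0, 2, 0]]), (0, [], []), (0, [21, 3, 0], [[0, 0]]), (0, [], []), (0, [], []), (0, [22, 0, 1], [[2, 0, 2, 0]]), (2, [121, 1, 0], [[], [0, 0]]), (0, [], []), (0, [], []), (0, [121, 2, 1], [[2, 2, 1]]),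 (0, [], []), (0, [22, 3, 1], [[0, 0]]), (0, [], []), (0, [92, 3, 0], [[1, 0, 1, 0, 1]]), (0, [82, 1, 0], [[0], [0]]), (0, [], []), (0, [], []), (0, [26, 3, 1], [[0, 0]]), (0, [], []), (0, [79, 0, 1], [[1, 1, 0, 1, 1, 0]]), (0, [], []), (2, [123, 1, 1], [[], [1]]), (0, [24, 1, 0], [[0, 1, 1, 0]]), (0, [], []), (0, [], []), (0, [123, 0, 0], [[2, 1, 2]]), (0, [], []), (0, [24, 3, 1], [[0, 0]]), (0, [], []), (0, [99, 3, 1], [[1, 1, 0, 1, 1]]), (0, [113, 0, 1], [[0], [0, 0, 0]]), (0, [], []), (0, [], []), (0, [67, 0, 1], [[0], [1, 1]]), (0, [], []), (0, [25, 3, 1], [[0, 0]]), (0, [], []), (0, [61, 2, 1], [[0], [0]]), (0, [120, 0, 1], [[0, 1, 2, 1, 2]]), (0, [], []), (0, [], []), (0, [72, 1, 0], [[1, 1, 2, 0, 2]]), (0, [], []), (0, [23, 2, 1], [[0, 0]]), (0, [32, 0, 0], [[0], [0]]), (0, [], []), (0, [], []), (0, [40, 1, 1], [[1, 1, 0, 1, 1, 0]]), (0, [47, 2, 0], [[1, 0, 1, 0, 1]]), (0, [], []), (0, [108, 3, 0], [[0, 0]]), (0, [], []), (0, [28, 0, 0], [[2, 0, 2, 0]]), (0, [], []), (0, [], []), (0, [28, 1,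 1], [[0, 0]]), (0, [52, 2, 0], [[2, 1, 2]]), (0, [], []), (1, [52, 3, 0], [[], [0, 0]]), (0, [], []), (0, [3, 3, 1], [[0], [0]]), (0, [], []), (0, [], []), (0, [83, 0, 0], [[2, 0, 2, 1, 1]]), (0, [45, 2, 0], [[1, 0, 1, 0, 1]]), (0, [], []), (0, [34, 1, 0], [[0, 0]]), (0, [], []), (0, [], []), (0, [94, 1, 1], [[0], [0, 0, 0]]), (0, [33, 2, 0], [[0]]), (0, [], []), (0, [], []), (0, [30, 2, 1], [[0, 0]]), (0, [], []), (0, [97, 1, 0], [[0], [1, 1]]), (0, [], []), (0, [31, 0, 1], [[0, 2, 0, 2]]), (0, [126, 0, 1], [[1, 1]]), (0, [], []), (0, [], []), (1, [126, 3, 1], [[], [0, 0]]), (0, [], []), (0, [31, 3, 1], [[0, 0]]), (0, [27, 0, 0], [[0], [0]]), (0, [], []), (0, [], []), (0, [18, 2, 1], [[1, 1, 0, 1, 1, 0]]), (0, [9, 2, 1], [[1, 2, 1, 2, 0]]), (0, [], []), (0, [103, 2, 0], [[0, 0]]), (0, [], []), (0, [97, 2, 1], [[0], [0, 0, 0]]), (0, [], []), (0, [], []), (0, [33, 1, 1], [[0, 0]]), (0, [30, 1, 0], [[0]]), (0, [], []), (0, [94, 2, 0], [[0], [0, 0, 0]]), (0, [], []), (0, [], []), (0, [50, 1, 1], [[1,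 1, 0, 1, 1, 0]]), (0, [29, 3, 0], [[0, 0]]), (0, [], []), (0, [], []), (0, [17, 0, 0], [[0], [0]]), (0, [], []), (0, [122, 3, 0], [[0, 1, 2, 1, 2]]), (0, [35, 0, 0], [[2, 0, 2, 0]]), (0, [], []), (0, [], []), (0, [35, 1, 1], [[0, 0]]), (0, [46, 2, 0], [[2, 1, 2]]), (0, [], []), (1, [46, 3, 0], [[], [0, 0]]), (0, [], []), (0, [], []), (0, [], []), (0, [], []), (0, [36, 1, 1], [[1, 0, 0]]), (0, [36, 2, 0], [[1, 2, 2]]), (0, [], []), (0, [36, 3, 0], [[0, 0]]), (0, [], []), (0, [14, 0, 0], [[0]]), (0, [], []), (0, [], []), (0, [37, 1, 1], [[1, 1]]), (0, [37, 2, 0], [[1, 1, 0, 0]]), (0, [], []), (0, [14, 3, 0], [[0, 0]]), (0, [], []), (0, [55, 3, 0], [[0]]), (0, [], []), (0, [], []), (0, [117, 1, 1], [[0], [1, 1]]), (0, [60, 2, 1], [[0], [0, 0, 0]]), (0, [], []), (0, [38, 3, 0], [[0, 0]]), (0, [], []), (0, [], []), (0, [87, 2, 1], [[0]]), (0, [80, 2, 1], [[0, 1, 2, 1]]), (0, [], []), (0, [], []), (0, [39, 2, 1], [[0, 1, 0]]), (0, [], []), (0, [16, 3, 1], [[0, 0]]), (0, [18, 0, 1], [[0], [0]]), (0, [],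 []), (0, [], []), (0, [27, 1, 1], [[1, 1, 0, 1, 1, 0]]), (0, [103, 3, 0], [[1, 0, 1, 0, 1, 0, 0]]), (0, [], []), (0, [9, 0, 1], [[0, 0]]), (0, [], []), (0, [21, 0, 0], [[0, 1, 2]]), (0, [], []), (0, [], []), (0, [21, 1, 1], [[1, 0, 0]]), (0, [41, 2, 0], [[2, 0, 2, 0]]), (0, [], []), (0, [41, 3, 0], [[0, 0]]), (0, [], []), (0, [], []), (0, [106, 3, 0], [[1, 0, 1, 0, 1]]), (0, [86, 1, 1], [[0], [0]]), (0, [], []), (0, [], []), (0, [44, 3, 1], [[0, 0]]), (0, [], []), (0, [101, 0, 1], [[1, 1, 0, 1, 1, 0]]), (0, [], []), (2, [112, 0, 1], [[], [1]]), (0, [43, 1, 0], [[0, 1, 1, 0]]), (0, [], []), (0, [], []), (0, [112, 2, 1], [[2, 1, 2]]), (0, [], []), (0, [43, 3, 1], [[0, 0]]), (0, [], []), (0, [95, 0, 1], [[0], [0]]), (0, [114, 1, 0], [[0, 1, 2, 1, 2]]), (0, [], []), (0, [], []), (0, [96, 1, 0], [[1, 1, 2, 0, 2]]), (0, [], []), (0, [42, 2, 1], [[0, 0]]), (0, [50, 0, 0], [[0], [0]]), (0, [], []), (0, [], []), (0, [17, 1, 1], [[1, 1, 0, 1, 1, 0]]), (0, [29, 2, 0], [[1, 0, 1, 0, 1]]), (0, [], []), (0, [122,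 2, 0], [[0, 0]]), (0, [], []), (0, [46, 0, 0], [[2, 0, 2, 0]]), (0, [], []), (0, [], []), (0, [46, 1, 1], [[0, 0]]), (0, [35, 2, 0], [[2, 1, 2]]), (0, [], []), (1, [35, 3, 0], [[], [0, 0]]), (0, [], []), (0, [9, 3, 1], [[0], [0]]), (0, [], []), (0, [], []), (0, [103, 0, 0], [[2, 0, 2, 1, 1]]), (0, [27, 2, 0], [[1, 0, 1, 0, 1]]), (0, [], []), (0, [18, 3, 1], [[0, 0]]), (0, [], []), (0, [], []), (0, [107, 1, 1], [[0], [0, 0, 0]]), (0, [51, 2, 0], [[0]]), (0, [], []), (0, [], []), (0, [48, 2, 1], [[0, 0]]), (0, [], []), (0, [88, 1, 0], [[0], [1, 1]]), (0, [], []), (0, [49, 0, 1], [[0, 2, 0, 2]]), (0, [127, 1, 0], [[1, 1]]), (0, [], []), (0, [], []), (1, [127, 2, 1], [[], [0, 0]]), (0, [], []), (0, [49, 3, 1], [[0, 0]]), (0, [45, 0, 0], [[0], [0]]), (0, [], []), (0, [], []), (0, [34, 0, 1], [[1, 1, 0, 1, 1, 0]]), (0, [3, 2, 1], [[1, 2, 1, 2, 0]]), (0, [], []), (0, [83, 2, 0], [[0, 0]]), (0, [], []), (0, [88, 2, 1], [[0], [0, 0, 0]]), (0, [], []), (0, [], []), (0, [51, 1, 1], [[0, 0]]), (0, [48, 1, 0],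 [[0]]), (0, [], []), (0, [107, 2, 0], [[0], [0, 0, 0]]), (0, [], []), (0, [52, 0, 0], [[2, 0, 2, 0]]), (0, [], []), (0, [], []), (0, [52, 1, 1], [[0, 0]]), (0, [28, 2, 0], [[2, 1, 2]]), (0, [], []), (1, [28, 3, 0], [[], [0, 0]]), (0, [], []), (0, [], []), (0, [], []), (0, [], []), (0, [53, 1, 1], [[1, 0, 0]]), (0, [53, 2, 0], [[1, 2, 2]]), (0, [], []), (0, [53, 3, 0], [[0, 0]]), (0, [], []), (0, [54, 0, 0], [[0, 0]]), (0, [], []), (0, [], []), (2, [100, 2, 1], [[], [0, 0]]), (0, [54, 2, 0], [[1, 1, 0, 0]]), (0, [], []), (0, [100, 3, 1], [[1, 2, 2]]), (0, [], []), (0, [55, 0, 0], [[0, 0]]), (0, [], []), (0, [], []), (0, [117, 2, 0], [[0], [0, 0, 0]]), (0, [60, 1, 0], [[0], [0, 0, 0]]), (0, [], []), (0, [38, 0, 0], [[0]]), (0, [], []), (0, [125, 3, 1], [[1, 1, 0, 0]]), (0, [], []), (0, [], []), (0, [56, 1, 1], [[0]]), (0, [62, 1, 1], [[0, 0]]), (0, [], []), (0, [118, 0, 1], [[0, 2, 0, 2]]), (0, [], []), (0, [], []), (0, [57, 0, 1], [[0, 0]]), (0, [5, 1, 0], [[0], [1, 1]]), (0, [], []), (0, [], []),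 (0, [12, 1, 1], [[0], [0, 0, 0]]), (0, [], []), (0, [104, 3, 0], [[0]]), (0, [], []), (0, [63, 0, 1], [[1, 1]]), (0, [93, 2, 1], [[0, 0]]), (0, [], []), (0, [], []), (0, [68, 3, 1], [[0]]), (0, [], []), (0, [58, 3, 1], [[1, 1, 0, 0]]), (0, [], []), (0, [59, 0, 1], [[0, 0]]), (0, [73, 2, 0], [[0], [0, 0, 0]]), (0, [], []), (0, [], []), (0, [119, 1, 0], [[0], [0, 0, 0]]), (0, [], []), (0, [15, 0, 0], [[0]]), (0, [], []), (0, [60, 0, 1], [[0, 0]]), (0, [55, 2, 0], [[0], [0, 0, 0]]), (0, [], []), (0, [], []), (0, [38, 2, 0], [[0], [0, 0, 0]]), (0, [], []), (0, [117, 0, 0], [[1, 1, 0, 1, 1]]), (0, [], []), (0, [92, 0, 0], [[2, 0, 2, 1, 1]]), (0, [82, 2, 1], [[0, 0]]), (0, [], []), (0, [], []), (0, [26, 0, 1], [[0], [0]]), (0, [], []), (0, [79, 3, 1], [[1, 0, 1, 0, 1, 0, 0]]), (0, [125, 0, 1], [[0, 2, 0, 2]]), (0, [], []), (0, [], []), (0, [56, 2, 0], [[0, 0]]), (0, [62, 2, 0], [[0]]), (0, [], []), (0, [118, 3, 1], [[1, 1, 0, 0]]), (0, [], []), (0, [], []), (0, [58, 0, 1], [[1, 1]]), (0, [68, 0, 1], [[0,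 0]]), (0, [], []), (0, [], []), (0, [93, 1, 0], [[0]]), (0, [], []), (0, [63, 3, 1], [[1, 1, 0, 0]]), (0, [], []), (0, [64, 0, 1], [[0, 0]]), (0, [64, 1, 0], [[1, 1]]), (0, [], []), (0, [], []), (0, [69, 3, 1], [[1, 1, 0, 0]]), (0, [], []), (0, [69, 2, 1], [[1, 1]]), (0, [65, 0, 0], [[0, 0]]), (0, [], []), (0, [], []), (0, [66, 2, 1], [[1, 1]]), (0, [65, 2, 0], [[0, 2, 0, 2]]), (0, [], []), (1, [66, 3, 1], [[], [1, 1]]), (0, [], []), (0, [], []), (0, [66, 0, 1], [[0, 0]]), (0, [66, 1, 0], [[0, 2, 0, 2]]), (0, [], []), (0, [], []), (0, [65, 1, 1], [[1, 1]]), (0, [], []), (1, [65, 3, 0], [[], [1, 1]]), (0, [], []), (0, [25, 2, 1], [[0], [1, 1]]), (0, [67, 1, 0], [[0, 0]]), (0, [], []), (0, [], []), (0, [113, 1, 0], [[0]]), (0, [], []), (0, [99, 2, 1], [[0], [0, 0, 0]]), (0, [], []), (0, [63, 1, 0], [[0, 0]]), (0, [93, 3, 1], [[1, 1]]), (0, [], []), (0, [], []), (0, [68, 2, 1], [[1, 1, 0, 0]]), (0, [], []), (0, [58, 2, 1], [[0]]), (0, [], []), (0, [69, 0, 1], [[1, 1]]), (0, [69, 1, 0], [[0, 0]]), (0,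 [], []), (0, [], []), (0, [64, 3, 1], [[1, 1]]), (0, [], []), (0, [64, 2, 1], [[1, 1, 0, 0]]), (2, [78, 2, 1], [[], [0, 0]]), (0, [], []), (0, [], []), (0, [70, 1, 1], [[0, 0]]), (0, [78, 3, 1], [[1, 2, 2]]), (0, [], []), (0, [70, 3, 0], [[1, 1, 0, 0]]), (0, [], []), (0, [], []), (0, [84, 2, 0], [[0, 1, 0]]), (0, [71, 1, 0], [[0, 0]]), (0, [], []), (0, [], []), (0, [10, 3, 0], [[2, 1, 2, 1]]), (0, [], []), (0, [4, 1, 1], [[1, 1]]), (0, [], []), (0, [79, 1, 0], [[0, 0]]), (0, [26, 2, 1], [[1, 1, 2, 0, 2]]), (0, [], []), (0, [], []), (0, [82, 0, 1], [[1, 2, 1, 2, 0]]), (0, [], []), (0, [92, 1, 1], [[0], [0]]), (0, [73, 0, 0], [[0, 0]]), (0, [], []), (0, [], []), (0, [15, 2, 0], [[0], [0, 0, 0]]), (0, [59, 1, 0], [[0], [0, 0, 0]]), (0, [], []), (0, [119, 0, 1], [[1, 1, 0, 1, 1]]), (0, [], []), (0, [], []), (0, [74, 0, 1], [[0, 0]]), (0, [124, 3, 1], [[0], [0, 0, 0]]), (0, [], []), (0, [], []), (0, [77, 3, 1], [[0], [0, 0, 0]]), (0, [], []), (0, [20, 0, 1], [[1, 1, 0, 1, 1]]), (0, [], []), (0, [75, 0,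 1], [[0, 2, 0, 2]]), (0, [75, 1, 0], [[0, 0]]), (0, [], []), (0, [], []), (1, [76, 3, 1], [[], [1, 1]]), (0, [], []), (0, [76, 2, 1], [[1, 1]]), (0, [], []), (0, [76, 0, 1], [[0, 0]]), (0, [76, 1, 0], [[0, 2, 0, 2]]), (0, [], []), (0, [], []), (0, [75, 3, 1], [[1, 1]]), (0, [], []), (1, [75, 2, 1], [[], [1, 1]]), (0, [], []), (0, [20, 2, 1], [[0], [1, 1]]), (0, [77, 1, 0], [[0, 0]]), (0, [], []), (0, [], []), (0, [124, 1, 0], [[0]]), (0, [], []), (0, [74, 2, 1], [[0], [0, 0, 0]]), (0, [], []), (0, [78, 0, 1], [[0, 0]]), (0, [78, 1, 0], [[1, 1, 0, 0]]), (0, [], []), (0, [], []), (2, [70, 0, 0], [[], [0, 0]]), (0, [], []), (0, [70, 2, 0], [[1, 2, 2]]), (0, [], []), (0, [23, 3, 1], [[1, 1, 0, 1, 1, 0]]), (0, [72, 0, 1], [[0, 0]]), (0, [], []), (0, [], []), (0, [120, 1, 0], [[0], [0]]), (0, [], []), (0, [61, 3, 1], [[1, 0, 1, 0, 1, 0, 0]]), (0, [], []), (0, [87, 1, 0], [[0, 0]]), (0, [80, 1, 0], [[0, 1, 0]]), (0, [], []), (0, [], []), (0, [39, 1, 0], [[0, 1, 2, 1]]), (0, [], []), (0, [16, 0, 1], [[0]]),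 (0, [7, 0, 0], [[0, 1, 2, 1]]), (0, [], []), (0, [], []), (0, [102, 1, 1], [[2, 0, 0, 0, 2]]), (0, [81, 2, 0], [[0, 0]]), (0, [], []), (0, [13, 3, 0], [[1, 1]]), (0, [], []), (0, [], []), (0, [72, 2, 1], [[1, 2, 1, 2, 0]]), (0, [23, 1, 0], [[0], [0]]), (0, [], []), (0, [], []), (0, [61, 1, 0], [[0, 0]]), (0, [], []), (0, [120, 3, 1], [[1, 1, 0, 1, 1, 0]]), (0, [29, 1, 1], [[2, 0, 2, 1, 1]]), (0, [], []), (0, [], []), (0, [122, 1, 1], [[0], [0]]), (0, [50, 3, 0], [[0, 0]]), (0, [], []), (0, [17, 2, 0], [[1, 0, 1, 0, 1, 0, 0]]), (0, [], []), (0, [84, 0, 0], [[0, 0]]), (0, [], []), (0, [], []), (0, [10, 1, 1], [[1, 1]]), (0, [71, 0, 1], [[0, 1, 0]]), (0, [], []), (0, [4, 3, 0], [[2, 1, 2, 1]]), (0, [], []), (0, [85, 0, 0], [[0, 0]]), (0, [], []), (0, [], []), (0, [11, 2, 1], [[0], [0, 0, 0]]), (0, [6, 2, 0], [[0], [0, 0, 0]]), (0, [], []), (0, [98, 3, 1], [[0]]), (0, [], []), (0, [114, 2, 1], [[1, 1, 0, 1, 1, 0]]), (0, [], []), (0, [], []), (0, [42, 1, 0], [[0], [0]]), (0, [95, 3, 1], [[0, 0]]), (0,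 [], []), (0, [96, 2, 1], [[1, 2, 1, 2, 0]]), (0, [], []), (0, [], []), (0, [87, 0, 1], [[0, 1, 0]]), (0, [80, 0, 1], [[0, 0]]), (0, [], []), (0, [], []), (0, [39, 0, 1], [[0]]), (0, [], []), (0, [16, 1, 0], [[0, 1, 2, 1]]), (0, [], []), (0, [88, 0, 1], [[0, 0]]), (0, [48, 3, 1], [[0], [1, 1]]), (0, [], []), (0, [], []), (0, [51, 0, 0], [[0], [0, 0, 0]]), (0, [], []), (0, [107, 3, 0], [[1, 1, 0, 1, 1]]), (0, [], []), (0, [105, 0, 1], [[1, 0, 0]]), (0, [89, 1, 0], [[0, 0]]), (0, [], []), (0, [], []), (0, [105, 2, 1], [[0, 1, 2]]), (0, [], []), (0, [89, 3, 1], [[2, 0, 2, 0]]), (0, [90, 0, 0], [[0, 0]]), (0, [], []), (0, [], []), (0, [91, 0, 1], [[1, 1, 0, 0]]), (0, [109, 3, 0], [[1, 1]]), (0, [], []), (0, [115, 1, 1], [[1, 1]]), (0, [], []), (0, [], []), (0, [90, 1, 1], [[1, 1, 0, 0]]), (0, [109, 2, 0], [[1, 1]]), (0, [], []), (0, [], []), (0, [91, 2, 1], [[0, 0]]), (0, [], []), (0, [115, 0, 0], [[1, 1]]), (0, [61, 0, 1], [[2, 0, 2, 1, 1]]), (0, [], []), (0, [], []), (0, [72, 3, 1], [[0], [0]]), (0,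 [120, 2, 1], [[0, 0]]), (0, [], []), (0, [23, 0, 1], [[1, 0, 1, 0, 1]]), (0, [], []), (0, [], []), (0, [93, 0, 1], [[1, 1, 0, 0]]), (0, [63, 2, 1], [[0]]), (0, [], []), (0, [], []), (0, [58, 1, 0], [[0, 0]]), (0, [], []), (0, [68, 1, 0], [[1, 1]]), (0, [94, 0, 0], [[0, 0]]), (0, [], []), (0, [], []), (0, [30, 0, 1], [[0], [0, 0, 0]]), (0, [33, 3, 0], [[0], [0, 0, 0]]), (0, [], []), (0, [97, 3, 1], [[1, 1, 0, 1, 1]]), (0, [], []), (0, [], []), (0, [44, 0, 1], [[0], [0]]), (0, [101, 3, 1], [[1, 0, 1, 0, 1, 0, 0]]), (0, [], []), (0, [], []), (0, [106, 0, 0], [[2, 0, 2, 1, 1]]), (0, [], []), (0, [86, 2, 0], [[0, 0]]), (0, [], []), (0, [101, 1, 0], [[0, 0]]), (0, [44, 2, 1], [[1, 1, 2, 0, 2]]), (0, [], []), (0, [], []), (0, [86, 3, 0], [[1, 2, 1, 2, 0]]), (0, [], []), (0, [106, 1, 1], [[0], [0]]), (0, [], []), (0, [97, 0, 1], [[0, 0]]), (0, [30, 3, 1], [[0], [1, 1]]), (0, [], []), (0, [], []), (0, [33, 0, 0], [[0], [0, 0, 0]]), (0, [], []), (0, [94, 3, 0], [[1, 1, 0, 1, 1]]), (0, [], []), (0, [98, 0, 1],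 [[0, 0]]), (0, [11, 1, 0], [[0], [1, 1]]), (0, [], []), (0, [], []), (0, [6, 1, 1], [[0], [0, 0, 0]]), (0, [], []), (0, [85, 3, 0], [[0]]), (0, [], []), (0, [99, 0, 1], [[0, 0]]), (0, [113, 3, 1], [[0], [0, 0, 0]]), (0, [], []), (0, [], []), (0, [67, 3, 1], [[0], [0, 0, 0]]), (0, [], []), (0, [25, 0, 1], [[1, 1, 0, 1, 1]]), (0, [], []), (0, [100, 0, 1], [[0, 0]]), (0, [100, 1, 0], [[1, 1, 0, 0]]), (0, [], []), (0, [], []), (2, [54, 1, 1], [[], [0, 0]]), (0, [], []), (0, [54, 3, 0], [[1, 2, 2]]), (0, [], []), (0, [42, 3, 1], [[1, 1, 0, 1, 1, 0]]), (0, [96, 0, 1], [[0, 0]]), (0, [], []), (0, [], []), (0, [114, 0, 1], [[0], [0]]), (0, [], []), (0, [95, 1, 0], [[1, 0, 1, 0, 1, 0, 0]]), (0, [13, 0, 0], [[0, 1, 2, 1]]), (0, [], []), (0, [], []), (0, [81, 1, 1], [[2, 0, 0, 0, 2]]), (0, [102, 2, 0], [[0, 0]]), (0, [], []), (0, [7, 3, 0], [[1, 1]]), (0, [], []), (0, [47, 1, 1], [[2, 0, 2, 1, 1]]), (0, [], []), (0, [], []), (0, [108, 0, 0], [[0], [0]]), (0, [32, 3, 0], [[0, 0]]), (0, [], []), (0, [40, 2, 0],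 [[1, 0, 1, 0, 1, 0, 0]]), (0, [], []), (0, [104, 0, 0], [[0, 0]]), (0, [], []), (0, [], []), (0, [5, 2, 1], [[0], [0, 0, 0]]), (0, [12, 2, 0], [[0], [0, 0, 0]]), (0, [], []), (0, [57, 3, 1], [[0]]), (0, [], []), (0, [], []), (0, [89, 0, 1], [[1, 0, 0]]), (0, [105, 1, 0], [[0, 0]]), (0, [], []), (0, [], []), (0, [89, 2, 1], [[0, 1, 2]]), (0, [], []), (0, [105, 3, 1], [[2, 0, 2, 0]]), (0, [95, 2, 1], [[2, 0, 2, 1, 1]]), (0, [], []), (0, [], []), (0, [96, 3, 1], [[0], [0]]), (0, [114, 3, 1], [[0, 0]]), (0, [], []), (0, [42, 0, 1], [[1, 0, 1, 0, 1]]), (0, [], []), (0, [107, 0, 0], [[0, 0]]), (0, [], []), (0, [], []), (0, [48, 0, 1], [[0], [0, 0, 0]]), (0, [51, 3, 0], [[0], [0, 0, 0]]), (0, [], []), (0, [88, 3, 1], [[1, 1, 0, 1, 1]]), (0, [], []), (0, [103, 1, 1], [[0], [0]]), (0, [], []), (0, [], []), (0, [9, 1, 0], [[1, 1, 2, 0, 2]]), (0, [18, 1, 0], [[0, 1, 2, 1, 2]]), (0, [], []), (0, [27, 3, 0], [[0, 0]]), (0, [], []), (0, [115, 3, 0], [[1, 1, 0, 0]]), (0, [], []), (0, [], []), (0, [109, 1, 1], [[0,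 0]]), (0, [91, 1, 0], [[1, 1]]), (0, [], []), (0, [90, 2, 0], [[1, 1]]), (0, [], []), (0, [116, 3, 0], [[0]]), (0, [], []), (0, [], []), (0, [110, 1, 1], [[1, 1]]), (0, [110, 2, 0], [[1, 1, 0, 0]]), (0, [], []), (0, [116, 0, 0], [[0, 0]]), (0, [], []), (0, [], []), (2, [19, 0, 1], [[], [0, 0]]), (0, [111, 1, 0], [[2, 0, 2, 0]]), (0, [], []), (0, [], []), (0, [111, 2, 1], [[0, 0]]), (0, [], []), (0, [19, 3, 1], [[2, 2, 1]]), (0, [], []), (2, [43, 0, 1], [[], [1]]), (0, [112, 1, 0], [[0, 1, 1, 0]]), (0, [], []), (0, [], []), (0, [43, 2, 1], [[2, 1, 2]]), (0, [], []), (0, [112, 3, 1], [[0, 0]]), (0, [], []), (0, [25, 1, 0], [[0], [0, 0, 0]]), (0, [67, 2, 1], [[0]]), (0, [], []), (0, [], []), (0, [113, 2, 1], [[0, 0]]), (0, [], []), (0, [99, 1, 0], [[0], [0, 0, 0]]), (0, [], []), (0, [101, 2, 1], [[0], [0]]), (0, [44, 1, 0], [[0, 1, 2, 1, 2]]), (0, [], []), (0, [], []), (0, [86, 0, 0], [[1, 1, 0, 1, 1, 0]]), (0, [], []), (0, [106, 2, 0], [[0, 0]]), (0, [91, 3, 1], [[1, 1]]), (0, [], []), (0, [], []),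 (0, [90, 3, 0], [[1, 1]]), (0, [115, 2, 0], [[0, 0]]), (0, [], []), (0, [109, 0, 0], [[1, 1, 0, 0]]), (0, [], []), (0, [110, 3, 0], [[0, 0]]), (0, [], []), (0, [], []), (0, [116, 1, 1], [[1, 1, 0, 0]]), (0, [116, 2, 0], [[1, 1]]), (0, [], []), (0, [110, 0, 0], [[0]]), (0, [], []), (0, [60, 3, 1], [[1, 1, 0, 1, 1]]), (0, [], []), (0, [], []), (0, [38, 1, 1], [[0], [1, 1]]), (0, [55, 1, 1], [[0], [0, 0, 0]]), (0, [], []), (0, [117, 3, 0], [[0, 0]]), (0, [], []), (0, [], []), (0, [56, 3, 0], [[0, 2, 0, 2]]), (0, [118, 1, 0], [[0]]), (0, [], []), (0, [], []), (0, [125, 2, 1], [[0, 0]]), (0, [], []), (0, [62, 3, 0], [[1, 1, 0, 0]]), (0, [], []), (0, [73, 3, 0], [[1, 1, 0, 1, 1]]), (0, [59, 2, 1], [[0], [0, 0, 0]]), (0, [], []), (0, [], []), (0, [15, 1, 1], [[0], [1, 1]]), (0, [], []), (0, [119, 3, 1], [[0, 0]]), (0, [], []), (0, [26, 1, 0], [[0, 1, 2, 1, 2]]), (0, [79, 2, 1], [[0], [0]]), (0, [], []), (0, [], []), (0, [92, 2, 0], [[0, 0]]), (0, [], []), (0, [82, 3, 1], [[1, 1, 0, 1, 1, 0]]), (0, [], []),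 (0, [121, 0, 1], [[2, 0, 2, 0]]), (2, [22, 1, 0], [[], [0, 0]]), (0, [], []), (0, [], []), (0, [22, 2, 1], [[2, 2, 1]]), (0, [], []), (0, [121, 3, 1], [[0, 0]]), (0, [3, 1, 0], [[1, 1, 2, 0, 2]]), (0, [], []), (0, [], []), (0, [83, 1, 1], [[0], [0]]), (0, [45, 3, 0], [[0, 0]]), (0, [], []), (0, [34, 3, 1], [[0, 1, 2, 1, 2]]), (0, [], []), (0, [24, 2, 1], [[2, 1, 2]]), (0, [], []), (0, [], []), (2, [24, 0, 1], [[], [1]]), (0, [123, 2, 0], [[0, 0]]), (0, [], []), (0, [123, 3, 0], [[0, 1, 1, 0]]), (0, [], []), (0, [], []), (0, [20, 1, 0], [[0], [0, 0, 0]]), (0, [77, 2, 1], [[0]]), (0, [], []), (0, [], []), (0, [124, 2, 1], [[0, 0]]), (0, [], []), (0, [74, 1, 0], [[0], [0, 0, 0]]), (0, [], []), (0, [62, 0, 0], [[0, 2, 0, 2]]), (0, [125, 1, 0], [[0]]), (0, [], []), (0, [], []), (0, [118, 2, 1], [[0, 0]]), (0, [], []), (0, [56, 0, 0], [[1, 1, 0, 0]]), (0, [], []), (0, [31, 1, 0], [[1, 1]]), (0, [126, 1, 0], [[0, 2, 0, 2]]), (0, [], []), (0, [], []), (0, [126, 2, 1], [[0, 0]]), (0, [], []), (1, [31, 2, 1],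 [[], [0, 0]]), (0, [], []), (0, [127, 0, 1], [[0, 2, 0, 2]]), (0, [49, 1, 0], [[1, 1]]), (0, [], []), (0, [], []), (1, [49, 2, 1], [[], [0, 0]]), (0, [], []), (0, [127, 3, 1], [[0, 0]])]

/-- Witnesses for the elements centralising representative 1. -/
def scan1 : List (ℕ × List ℕ × List (List ℕ)) := [(0, [], []), (0, [0, 0, 1], [[2, 1, 0]]), (0, [], []), (0, [], []), (0, [], []), (0, [], []), (0, [], []), (0, [], []), (0, [], []), (0, [1, 0, 1], [[2, 1, 0]]), (0, [], []), (0, [], []), (0, [], []), (0, [], []), (0, [], []), (0, [], []), (0, [], []), (0, [], []), (0, [], []), (0, [], []), (0, [], []), (0, [], []), (0, [], []), (0, [], []), (0, [], []), (0, [], []), (0, [], []), (0, [], []), (0, [], []), (0, [], []), (0, [], []), (0, [], []), (0, [], []), (0, [], []), (0, [], []), (0, [], []), (0, [], []), (0, [], []), (0, [], []), (0, [], []), (0, [11, 0, 0], [[1, 0]]), (0, [5, 0, 1], [[1, 2, 1]]), (0, [], []), (0, [], []), (0, [], []), (0, [], []), (0, [], []), (0, [], []), (0, [], []), (0, [], []),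 (0, [], []), (0, [], []), (0, [], []), (0, [], []), (0, [], []), (0, [], []), (0, [], []), (0, [], []), (0, [], []), (0, [], []), (0, [], []), (0, [], []), (0, [], []), (0, [], []), (0, [], []), (0, [], []), (0, [], []), (0, [], []), (0, [], []), (0, [], []), (0, [], []), (0, [], []), (0, [], []), (0, [], []), (0, [], []), (0, [], []), (0, [], []), (0, [], []), (0, [], []), (0, [], []), (0, [], []), (0, [], []), (0, [], []), (0, [], []), (0, [], []), (0, [], []), (0, [], []), (0, [], []), (0, [5, 0, 0], [[1, 0]]), (0, [11, 0, 1], [[1, 2, 1]]), (0, [], []), (0, [], []), (0, [], []), (0, [], []), (0, [], []), (0, [], []), (0, [], []), (0, [], []), (0, [], []), (0, [], []), (0, [], []), (0, [], []), (0, [], []), (0, [], []), (0, [], []), (0, [], []), (0, [], []), (0, [], []), (0, [], []), (0, [], []), (0, [], []), (0, [], []), (0, [37, 0, 0], [[1, 0]]), (0, [14, 0, 1], [[1, 2, 1]]), (0, [], []), (0, [], []), (0, [], []), (0, [], []), (0, [], []), (0, [], []), (0, [], []), (0, [], []), (0, [], []), (0,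 [], []), (0, [], []), (0, [], []), (0, [15, 3, 0], [[2, 1, 0]]), (0, [], []), (0, [], []), (0, [], []), (0, [], []), (0, [], []), (0, [], []), (0, [], []), (0, [58, 1, 1], [[1, 0]]), (0, [39, 3, 1], [[0, 1, 0]]), (0, [], []), (0, [], []), (0, [], []), (0, [], []), (0, [], []), (0, [], []), (0, [], []), (0, [], []), (0, [], []), (0, [], []), (0, [], []), (0, [], []), (0, [], []), (0, [], []), (0, [18, 3, 0], [[1, 1]]), (0, [47, 3, 0], [[1, 0, 1, 0]]), (0, [], []), (0, [], []), (0, [19, 1, 0], [[1, 1]]), (0, [49, 0, 0], [[1, 0, 1, 0]]), (0, [], []), (0, [], []), (0, [], []), (0, [], []), (0, [25, 0, 0], [[0, 1, 0]]), (0, [74, 3, 1], [[1, 0]]), (0, [], []), (0, [], []), (0, [], []), (0, [], []), (0, [], []), (0, [], []), (0, [], []), (0, [], []), (0, [], []), (0, [], []), (0, [], []), (0, [], []), (0, [], []), (0, [], []), (0, [31, 0, 0], [[1, 0, 1, 0]]), (0, [22, 0, 1], [[1, 1]]), (0, [], []), (0, [], []), (0, [], []), (0, [], []), (0, [], []), (0, [], []), (0, [], []), (0, [], []), (0, [], []), (0,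 [], []), (0, [], []), (0, [], []), (0, [], []), (0, [], []), (0, [], []), (0, [], []), (0, [], []), (0, [], []), (0, [], []), (0, [], []), (0, [], []), (0, [], []), (0, [20, 0, 0], [[0, 1, 0]]), (0, [99, 3, 1], [[1, 0]]), (0, [], []), (0, [], []), (0, [], []), (0, [], []), (0, [], []), (0, [], []), (0, [], []), (0, [], []), (0, [], []), (0, [], []), (0, [], []), (0, [], []), (0, [], []), (0, [], []), (0, [32, 0, 0], [[2], [2]]), (0, [27, 0, 1], [[2]]), (0, [], []), (0, [], []), (0, [], []), (0, [], []), (0, [], []), (0, [], []), (0, [], []), (0, [], []), (0, [], []), (0, [], []), (0, [], []), (0, [], []), (0, [], []), (0, [], []), (0, [], []), (0, [], []), (0, [], []), (0, [], []), (0, [], []), (0, [], []), (0, [34, 1, 0], [[1, 0, 1, 0]]), (0, [29, 3, 1], [[1, 2, 1]]), (0, [], []), (0, [], []), (0, [33, 2, 0], [[1, 2, 1]]), (0, [30, 1, 1], [[1, 1]]), (0, [], []), (0, [], []), (0, [], []), (0, [], []), (0, [22, 0, 0], [[1, 0, 1, 0]]), (0, [31, 0, 1], [[1, 2, 1]]), (0, [], []), (0, [], []), (0, [],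 []), (0, [], []), (0, [], []), (0, [], []), (0, [27, 0, 0], [[2], [2]]), (0, [32, 0, 1], [[0, 1]]), (0, [], []), (0, [], []), (0, [], []), (0, [], []), (0, [], []), (0, [], []), (0, [], []), (0, [], []), (0, [], []), (0, [], []), (0, [30, 1, 0], [[1, 2, 1]]), (0, [33, 2, 1], [[2]]), (0, [], []), (0, [], []), (0, [], []), (0, [], []), (0, [29, 3, 0], [[1, 0, 1, 0]]), (0, [34, 1, 1], [[1, 1]]), (0, [], []), (0, [], []), (0, [], []), (0, [], []), (0, [], []), (0, [], []), (0, [78, 0, 0], [[2], [2]]), (0, [35, 1, 1], [[1, 1]]), (0, [], []), (0, [], []), (0, [], []), (0, [], []), (0, [], []), (0, [], []), (0, [], []), (0, [], []), (0, [], []), (0, [], []), (0, [], []), (0, [], []), (0, [14, 0, 0], [[1, 0]]), (0, [37, 0, 1], [[1, 2, 1]]), (0, [], []), (0, [], []), (0, [], []), (0, [], []), (0, [], []), (0, [], []), (0, [], []), (0, [], []), (0, [], []), (0, [], []), (0, [], []), (0, [], []), (0, [38, 3, 0], [[2, 1, 0]]), (0, [], []), (0, [], []), (0, [], []), (0, [], []), (0, [], []), (0, [], []), (0, [],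 []), (0, [93, 2, 0], [[1, 0]]), (0, [16, 3, 1], [[0, 1, 0]]), (0, [], []), (0, [], []), (0, [], []), (0, [], []), (0, [], []), (0, [], []), (0, [], []), (0, [], []), (0, [], []), (0, [], []), (0, [], []), (0, [], []), (0, [], []), (0, [], []), (0, [], []), (0, [], []), (0, [], []), (0, [], []), (0, [], []), (0, [], []), (0, [], []), (0, [], []), (0, [], []), (0, [], []), (0, [], []), (0, [], []), (0, [], []), (0, [], []), (0, [], []), (0, [], []), (0, [], []), (0, [], []), (0, [], []), (0, [], []), (0, [], []), (0, [], []), (0, [], []), (0, [], []), (0, [], []), (0, [], []), (0, [50, 0, 0], [[2], [2]]), (0, [45, 0, 1], [[2]]), (0, [], []), (0, [], []), (0, [], []), (0, [], []), (0, [], []), (0, [], []), (0, [], []), (0, [], []), (0, [], []), (0, [], []), (0, [], []), (0, [], []), (0, [], []), (0, [], []), (0, [], []), (0, [], []), (0, [], []), (0, [], []), (0, [], []), (0, [], []), (0, [18, 3, 1], [[1, 0, 1, 0]]), (0, [47, 3, 1], [[1, 2, 1]]), (0, [], []), (0, [], []), (0, [51, 2, 0], [[1, 2, 1]]),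 (0, [48, 1, 1], [[1, 1]]), (0, [], []), (0, [], []), (0, [], []), (0, [], []), (0, [19, 1, 1], [[1, 0, 1, 0]]), (0, [49, 0, 1], [[1, 2, 1]]), (0, [], []), (0, [], []), (0, [], []), (0, [], []), (0, [], []), (0, [], []), (0, [45, 0, 0], [[2], [2]]), (0, [50, 0, 1], [[0, 1]]), (0, [], []), (0, [], []), (0, [], []), (0, [], []), (0, [], []), (0, [], []), (0, [], []), (0, [], []), (0, [], []), (0, [], []), (0, [48, 1, 0], [[1, 2, 1]]), (0, [51, 2, 1], [[2]]), (0, [], []), (0, [], []), (0, [], []), (0, [], []), (0, [100, 0, 0], [[2], [2]]), (0, [52, 1, 1], [[1, 1]]), (0, [], []), (0, [], []), (0, [], []), (0, [], []), (0, [], []), (0, [], []), (0, [], []), (0, [], []), (0, [], []), (0, [], []), (0, [], []), (0, [], []), (0, [], []), (0, [], []), (0, [], []), (0, [], []), (0, [], []), (0, [], []), (0, [], []), (0, [], []), (0, [], []), (0, [], []), (0, [], []), (0, [], []), (0, [], []), (0, [], []), (0, [], []), (0, [], []), (0, [], []), (0, [], []), (0, [], []), (0, [], []), (0, [], []), (0, [], []), (0,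 [], []), (0, [], []), (0, [], []), (0, [], []), (0, [], []), (0, [], []), (0, [], []), (0, [], []), (0, [], []), (0, [], []), (0, [], []), (0, [], []), (0, [93, 2, 1], [[2]]), (0, [16, 3, 0], [[1, 0]]), (0, [], []), (0, [], []), (0, [], []), (0, [], []), (0, [], []), (0, [], []), (0, [], []), (0, [], []), (0, [], []), (0, [], []), (0, [], []), (0, [], []), (0, [], []), (0, [], []), (0, [], []), (0, [], []), (0, [], []), (0, [], []), (0, [], []), (0, [], []), (0, [], []), (0, [], []), (0, [], []), (0, [], []), (0, [], []), (0, [], []), (0, [], []), (0, [], []), (0, [], []), (0, [], []), (0, [], []), (0, [], []), (0, [], []), (0, [], []), (0, [], []), (0, [], []), (0, [], []), (0, [], []), (0, [], []), (0, [], []), (0, [], []), (0, [], []), (0, [], []), (0, [], []), (0, [], []), (0, [], []), (0, [], []), (0, [], []), (0, [], []), (0, [], []), (0, [89, 2, 0], [[1, 2, 0]]), (0, [69, 2, 1], [[2]]), (0, [65, 0, 0], [[1, 1]]), (0, [123, 2, 1], [[1, 2, 1]]), (0, [], []), (0, [], []), (0, [], []), (0, [],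 []), (0, [], []), (0, [], []), (0, [], []), (0, [], []), (0, [], []), (0, [], []), (0, [], []), (0, [], []), (0, [], []), (0, [], []), (0, [], []), (0, [], []), (0, [], []), (0, [], []), (0, [], []), (0, [], []), (0, [], []), (0, [], []), (0, [], []), (0, [], []), (0, [], []), (0, [], []), (0, [], []), (0, [], []), (0, [], []), (0, [], []), (0, [], []), (0, [], []), (0, [], []), (0, [], []), (0, [105, 2, 0], [[1, 2, 0]]), (0, [64, 3, 1], [[2]]), (0, [], []), (0, [], []), (0, [], []), (0, [], []), (0, [], []), (0, [], []), (0, [], []), (0, [], []), (0, [], []), (0, [], []), (0, [], []), (0, [], []), (0, [71, 1, 0], [[2]]), (0, [115, 2, 1], [[2], [2]]), (0, [], []), (0, [], []), (0, [], []), (0, [], []), (0, [96, 0, 0], [[2]]), (0, [79, 1, 0], [[1, 2, 0]]), (0, [], []), (0, [], []), (0, [], []), (0, [], []), (0, [], []), (0, [], []), (0, [], []), (0, [], []), (0, [], []), (0, [], []), (0, [], []), (0, [], []), (0, [], []), (0, [], []), (0, [], []), (0, [], []), (0, [], []), (0, [], []), (0, [], []),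 (0, [], []), (0, [99, 3, 0], [[2]]), (0, [20, 0, 1], [[1, 0]]), (0, [], []), (0, [], []), (0, [75, 1, 0], [[1, 1]]), (0, [112, 3, 0], [[1, 2, 1]]), (0, [], []), (0, [], []), (0, [], []), (0, [], []), (0, [], []), (0, [], []), (0, [], []), (0, [], []), (0, [], []), (0, [], []), (0, [], []), (0, [], []), (0, [], []), (0, [], []), (0, [], []), (0, [], []), (0, [], []), (0, [], []), (0, [], []), (0, [], []), (0, [35, 1, 0], [[2], [2]]), (0, [78, 0, 1], [[2]]), (0, [], []), (0, [], []), (0, [], []), (0, [], []), (0, [], []), (0, [], []), (0, [], []), (0, [], []), (0, [72, 0, 1], [[1, 2, 0]]), (0, [101, 1, 1], [[2]]), (0, [], []), (0, [], []), (0, [], []), (0, [], []), (0, [], []), (0, [], []), (0, [], []), (0, [], []), (0, [], []), (0, [], []), (0, [], []), (0, [], []), (0, [], []), (0, [], []), (0, [81, 1, 0], [[1, 2, 1]]), (0, [102, 1, 1], [[2]]), (0, [], []), (0, [], []), (0, [], []), (0, [], []), (0, [], []), (0, [], []), (0, [], []), (0, [], []), (0, [], []), (0, [], []), (0, [], []), (0, [], []),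 (0, [], []), (0, [], []), (0, [83, 1, 0], [[1, 1]]), (0, [122, 1, 1], [[2], [2]]), (0, [], []), (0, [], []), (0, [], []), (0, [], []), (0, [84, 0, 0], [[2]]), (0, [109, 1, 0], [[2], [2]]), (0, [], []), (0, [], []), (0, [], []), (0, [], []), (0, [], []), (0, [], []), (0, [], []), (0, [], []), (0, [], []), (0, [], []), (0, [], []), (0, [], []), (0, [], []), (0, [], []), (0, [], []), (0, [], []), (0, [], []), (0, [], []), (0, [], []), (0, [], []), (0, [], []), (0, [], []), (0, [], []), (0, [], []), (0, [], []), (0, [], []), (0, [], []), (0, [], []), (0, [], []), (0, [], []), (0, [], []), (0, [], []), (0, [], []), (0, [], []), (0, [], []), (0, [], []), (0, [], []), (0, [], []), (0, [], []), (0, [], []), (0, [], []), (0, [], []), (0, [64, 3, 0], [[1, 2, 0]]), (0, [105, 2, 1], [[2]]), (0, [], []), (0, [], []), (0, [], []), (0, [], []), (0, [], []), (0, [], []), (0, [], []), (0, [], []), (0, [], []), (0, [], []), (0, [], []), (0, [], []), (0, [], []), (0, [], []), (0, [], []), (0, [], []), (0, [], []), (0,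 [], []), (0, [], []), (0, [], []), (0, [], []), (0, [], []), (0, [], []), (0, [], []), (0, [], []), (0, [], []), (0, [], []), (0, [], []), (0, [], []), (0, [], []), (0, [39, 3, 0], [[1, 0]]), (0, [58, 1, 0], [[2]]), (0, [], []), (0, [], []), (0, [94, 0, 0], [[2, 1, 0]]), (0, [94, 0, 1], [[2]]), (0, [], []), (0, [], []), (0, [], []), (0, [], []), (0, [], []), (0, [], []), (0, [], []), (0, [], []), (0, [], []), (0, [], []), (0, [], []), (0, [], []), (0, [], []), (0, [], []), (0, [72, 0, 0], [[2]]), (0, [101, 1, 0], [[1, 2, 0]]), (0, [], []), (0, [], []), (0, [], []), (0, [], []), (0, [], []), (0, [], []), (0, [], []), (0, [], []), (0, [], []), (0, [], []), (0, [], []), (0, [], []), (0, [], []), (0, [], []), (0, [], []), (0, [], []), (0, [], []), (0, [], []), (0, [], []), (0, [], []), (0, [], []), (0, [], []), (0, [], []), (0, [], []), (0, [], []), (0, [], []), (0, [], []), (0, [], []), (0, [74, 3, 0], [[2]]), (0, [25, 0, 1], [[1, 0]]), (0, [52, 1, 0], [[2], [2]]), (0, [100, 0, 1], [[2]]), (0, [], []),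 (0, [], []), (0, [], []), (0, [], []), (0, [], []), (0, [], []), (0, [], []), (0, [], []), (0, [96, 0, 1], [[1, 2, 0]]), (0, [79, 1, 1], [[2]]), (0, [], []), (0, [], []), (0, [], []), (0, [], []), (0, [], []), (0, [], []), (0, [102, 1, 0], [[1, 2, 1]]), (0, [81, 1, 1], [[2]]), (0, [], []), (0, [], []), (0, [], []), (0, [], []), (0, [], []), (0, [], []), (0, [103, 1, 0], [[1, 1]]), (0, [108, 0, 0], [[2], [2]]), (0, [], []), (0, [], []), (0, [], []), (0, [], []), (0, [], []), (0, [], []), (0, [], []), (0, [], []), (0, [], []), (0, [], []), (0, [], []), (0, [], []), (0, [], []), (0, [], []), (0, [], []), (0, [], []), (0, [69, 2, 0], [[1, 2, 0]]), (0, [89, 2, 1], [[2]]), (0, [], []), (0, [], []), (0, [], []), (0, [], []), (0, [], []), (0, [], []), (0, [], []), (0, [], []), (0, [], []), (0, [], []), (0, [107, 0, 0], [[2, 1, 0]]), (0, [107, 0, 1], [[2]]), (0, [], []), (0, [], []), (0, [], []), (0, [], []), (0, [], []), (0, [], []), (0, [103, 1, 1], [[2], [2]]), (0, [108, 0, 1], [[2]]), (0, [], []), (0,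 [], []), (0, [], []), (0, [], []), (0, [], []), (0, [], []), (0, [], []), (0, [], []), (0, [84, 0, 1], [[2], [2]]), (0, [109, 1, 1], [[0, 1]]), (0, [], []), (0, [], []), (0, [], []), (0, [], []), (0, [], []), (0, [], []), (0, [], []), (0, [], []), (0, [], []), (0, [], []), (0, [], []), (0, [], []), (0, [], []), (0, [], []), (0, [], []), (0, [], []), (0, [], []), (0, [], []), (0, [], []), (0, [], []), (0, [], []), (0, [], []), (0, [], []), (0, [], []), (0, [], []), (0, [], []), (0, [75, 1, 1], [[1, 2, 1]]), (0, [112, 3, 1], [[2]]), (0, [], []), (0, [], []), (0, [], []), (0, [], []), (0, [124, 2, 0], [[2]]), (0, [113, 2, 1], [[1, 2, 1]]), (0, [], []), (0, [], []), (0, [], []), (0, [], []), (0, [], []), (0, [], []), (0, [], []), (0, [], []), (0, [], []), (0, [], []), (0, [], []), (0, [], []), (0, [], []), (0, [], []), (0, [115, 2, 0], [[0, 1]]), (0, [71, 1, 1], [[2], [2]]), (0, [], []), (0, [], []), (0, [], []), (0, [], []), (0, [], []), (0, [], []), (0, [], []), (0, [], []), (0, [], []), (0, [], []),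 (0, [], []), (0, [], []), (0, [], []), (0, [], []), (0, [], []), (0, [], []), (0, [], []), (0, [], []), (0, [], []), (0, [], []), (0, [118, 1, 0], [[2]]), (0, [118, 1, 1], [[2, 1, 0]]), (0, [], []), (0, [], []), (0, [], []), (0, [], []), (0, [], []), (0, [], []), (0, [], []), (0, [], []), (0, [], []), (0, [], []), (0, [], []), (0, [], []), (0, [], []), (0, [], []), (0, [], []), (0, [], []), (0, [], []), (0, [], []), (0, [], []), (0, [], []), (0, [], []), (0, [], []), (0, [], []), (0, [], []), (0, [], []), (0, [], []), (0, [], []), (0, [], []), (0, [], []), (0, [], []), (0, [122, 1, 0], [[2]]), (0, [83, 1, 1], [[2], [2]]), (0, [], []), (0, [], []), (0, [], []), (0, [], []), (0, [], []), (0, [], []), (0, [], []), (0, [], []), (0, [123, 2, 0], [[2]]), (0, [65, 0, 1], [[1, 2, 1]]), (0, [], []), (0, [], []), (0, [], []), (0, [], []), (0, [], []), (0, [], []), (0, [113, 2, 0], [[2]]), (0, [124, 2, 1], [[1, 2, 1]]), (0, [], []), (0, [], []), (0, [], []), (0, [], []), (0, [125, 1, 0], [[2]]), (0, [125, 1,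 1], [[2, 1, 0]]), (0, [], []), (0, [], []), (0, [], []), (0, [], []), (0, [], []), (0, [], []), (0, [], []), (0, [], []), (0, [], []), (0, [], []), (0, [], []), (0, [], []), (0, [], []), (0, [], []), (0, [], []), (0, [], []), (0, [], []), (0, [], []), (0, [], []), (0, [], [])]

/-- Witnesses for the elements centralising representative 2. -/
def scan2 : List (ℕ × List ℕ × List (List ℕ)) := [(0, [], []), (0, [], []), (0, [0, 2, 1], [[1, 1]]), (0, [], []), (0, [], []), (0, [0, 1, 0], [[1, 1]]), (0, [0, 3, 0], [[3, 1]]), (0, [], []), (0, [], []), (0, [], []), (0, [1, 2, 1], [[1, 1]]), (0, [], []), (0, [], []), (0, [1, 1, 0], [[1, 1]]), (0, [1, 3, 0], [[3, 1]]), (0, [], []), (0, [21, 3, 1], [[2]]), (0, [], []), (0, [2, 1, 0], [[2]]), (0, [], []), (0, [], []), (0, [8, 2, 1], [[2]]), (0, [41, 0, 1], [[0]]), (0, [], []), (0, [], []), (0, [17, 3, 0], [[3, 1]]), (0, [], []), (0, [83, 3, 1], [[1, 1]]), (0, [45, 1, 0], [[1, 1]]), (0, [], []), (0, [], []), (0, [29, 0, 0], [[1, 3], [1, 3]]), (0, [], []), (0, [91,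 2, 0], [[1, 1]]), (0, [], []), (0, [71, 3, 1], [[2], [2]]), (0, [10, 2, 0], [[3, 3]]), (0, [], []), (0, [], []), (0, [109, 2, 1], [[1, 1]]), (0, [11, 0, 0], [[1, 1]]), (0, [], []), (0, [57, 1, 0], [[1], [1, 3, 2, 0]]), (0, [], []), (0, [], []), (0, [104, 1, 1], [[3], [3]]), (0, [6, 3, 1], [[1, 1]]), (0, [], []), (0, [], []), (0, [12, 0, 1], [[1, 1]]), (0, [], []), (0, [98, 2, 1], [[3], [3]]), (0, [85, 2, 0], [[1], [2, 1, 2, 1]]), (0, [], []), (0, [], []), (0, [5, 3, 0], [[1, 1]]), (0, [], []), (0, [102, 3, 1], [[1, 1]]), (0, [], []), (0, [13, 1, 1], [[1, 3]]), (0, [7, 2, 0], [[3]]), (0, [], []), (0, [], []), (0, [81, 0, 1], [[1, 1]]), (0, [41, 3, 1], [[2]]), (0, [], []), (0, [8, 1, 0], [[2]]), (0, [], []), (0, [], []), (0, [2, 2, 1], [[2]]), (0, [21, 0, 1], [[0]]), (0, [], []), (0, [], []), (0, [40, 3, 0], [[3, 1]]), (0, [], []), (0, [103, 3, 1], [[1, 1]]), (0, [27, 1, 0], [[1, 1]]), (0, [], []), (0, [], []), (0, [47, 0, 0], [[1, 3], [1, 3]]), (0, [], []), (0, [90, 0, 1], [[1, 1]]), (0, [], []), (0,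 [84, 1, 1], [[2], [2]]), (0, [4, 2, 0], [[3, 3]]), (0, [], []), (0, [], []), (0, [115, 1, 0], [[1, 1]]), (0, [5, 0, 0], [[1, 1]]), (0, [], []), (0, [98, 1, 0], [[1], [1, 3, 2, 0]]), (0, [], []), (0, [], []), (0, [85, 1, 1], [[3], [3]]), (0, [12, 3, 1], [[1, 1]]), (0, [], []), (0, [], []), (0, [6, 0, 1], [[1, 1]]), (0, [], []), (0, [57, 2, 1], [[3], [3]]), (0, [104, 2, 0], [[1], [2, 1, 2, 1]]), (0, [], []), (0, [], []), (0, [11, 3, 0], [[1, 1]]), (0, [], []), (0, [81, 3, 1], [[1, 1]]), (0, [], []), (0, [7, 1, 1], [[1, 3]]), (0, [13, 2, 0], [[3]]), (0, [], []), (0, [], []), (0, [102, 0, 1], [[1, 1]]), (0, [], []), (0, [], []), (0, [37, 2, 1], [[1, 1]]), (0, [], []), (0, [], []), (0, [37, 1, 0], [[1, 1]]), (0, [37, 3, 0], [[3, 1]]), (0, [], []), (0, [], []), (0, [59, 3, 0], [[1, 1]]), (0, [], []), (0, [119, 2, 1], [[1], [1, 3, 2, 0]]), (0, [73, 1, 1], [[3], [3]]), (0, [], []), (0, [], []), (0, [15, 3, 1], [[1, 1]]), (0, [], []), (0, [80, 3, 1], [[2], [2]]), (0, [], []), (0, [68, 1, 1], [[3]]), (0, [93,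 0, 0], [[1, 1]]), (0, [], []), (0, [], []), (0, [39, 3, 1], [[2, 1, 0]]), (0, [34, 2, 1], [[1, 3], [1, 3]]), (0, [], []), (0, [50, 2, 1], [[1, 1]]), (0, [], []), (0, [], []), (0, [122, 0, 1], [[1, 1]]), (0, [3, 0, 1], [[3, 1]]), (0, [], []), (0, [], []), (0, [40, 0, 0], [[1, 3], [1, 3]]), (0, [], []), (0, [103, 0, 1], [[1, 1]]), (0, [27, 2, 1], [[1, 1]]), (0, [], []), (0, [], []), (0, [47, 3, 0], [[3, 1]]), (0, [], []), (0, [111, 0, 1], [[2], [2]]), (0, [], []), (0, [49, 0, 0], [[0, 1]]), (0, [49, 3, 0], [[1, 1]]), (0, [], []), (0, [], []), (0, [111, 3, 1], [[2], [2]]), (0, [25, 0, 0], [[1, 1]]), (0, [], []), (0, [124, 0, 1], [[3], [3]]), (0, [], []), (0, [], []), (0, [77, 0, 1], [[1], [1, 3, 2, 0]]), (0, [99, 0, 0], [[1, 1]]), (0, [], []), (0, [], []), (0, [8, 3, 0], [[0]]), (0, [], []), (0, [41, 1, 1], [[2]]), (0, [21, 2, 0], [[2]]), (0, [], []), (0, [], []), (0, [2, 0, 0], [[2]]), (0, [31, 0, 0], [[0, 1]]), (0, [], []), (0, [121, 1, 0], [[2], [2]]), (0, [], []), (0, [], []), (0, [121, 2, 1], [[2],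 [2]]), (0, [31, 3, 0], [[1, 1]]), (0, [], []), (0, [114, 2, 0], [[1, 1]]), (0, [], []), (0, [82, 1, 0], [[1, 3]]), (0, [], []), (0, [], []), (0, [26, 3, 1], [[1, 3]]), (0, [96, 2, 0], [[1, 1]]), (0, [], []), (0, [], []), (0, [123, 1, 1], [[2], [2]]), (0, [], []), (0, [66, 1, 1], [[1, 1]]), (0, [65, 1, 0], [[3]]), (0, [], []), (0, [], []), (0, [24, 3, 1], [[2, 1, 0]]), (0, [20, 0, 0], [[1, 1]]), (0, [], []), (0, [113, 0, 1], [[3], [3]]), (0, [], []), (0, [], []), (0, [67, 0, 1], [[1], [1, 3, 2, 0]]), (0, [74, 0, 0], [[1, 1]]), (0, [], []), (0, [], []), (0, [61, 2, 1], [[1, 3]]), (0, [], []), (0, [106, 0, 1], [[1, 1]]), (0, [101, 3, 0], [[1, 1]]), (0, [], []), (0, [], []), (0, [23, 2, 1], [[1, 3]]), (0, [32, 0, 0], [[2, 0], [2, 0]]), (0, [], []), (0, [9, 2, 0], [[1, 1]]), (0, [], []), (0, [], []), (0, [18, 2, 0], [[1, 1]]), (0, [108, 3, 0], [[2, 0, 2, 0]]), (0, [], []), (0, [28, 0, 0], [[3, 3]]), (0, [], []), (0, [54, 0, 1], [[1, 1]]), (0, [], []), (0, [], []), (0, [100, 3, 0], [[1, 1]]), (0, [52, 3,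 0], [[2], [2]]), (0, [], []), (0, [3, 3, 1], [[1, 3], [1, 3]]), (0, [], []), (0, [122, 3, 1], [[1, 1]]), (0, [], []), (0, [], []), (0, [50, 1, 0], [[1, 1]]), (0, [34, 1, 0], [[3, 1]]), (0, [], []), (0, [], []), (0, [94, 1, 1], [[3], [3]]), (0, [], []), (0, [30, 1, 1], [[1, 1]]), (0, [33, 1, 0], [[1, 1]]), (0, [], []), (0, [], []), (0, [97, 1, 0], [[1], [1, 3, 2, 0]]), (0, [22, 0, 0], [[0, 1]]), (0, [], []), (0, [126, 0, 1], [[2], [2]]), (0, [], []), (0, [], []), (0, [126, 3, 1], [[2], [2]]), (0, [22, 3, 0], [[1, 1]]), (0, [], []), (0, [27, 0, 0], [[2, 0], [2, 0]]), (0, [], []), (0, [47, 2, 1], [[1, 1]]), (0, [], []), (0, [], []), (0, [40, 1, 0], [[1, 1]]), (0, [103, 2, 0], [[2, 1, 0]]), (0, [], []), (0, [97, 2, 1], [[3], [3]]), (0, [], []), (0, [30, 2, 0], [[1, 1]]), (0, [], []), (0, [], []), (0, [33, 2, 1], [[1, 1]]), (0, [94, 2, 0], [[1], [2, 1, 2, 1]]), (0, [], []), (0, [45, 2, 1], [[1, 1]]), (0, [], []), (0, [29, 3, 0], [[3, 1]]), (0, [], []), (0, [], []), (0, [17, 0, 0], [[1, 3], [1, 3]]), (0,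 [83, 0, 1], [[1, 1]]), (0, [], []), (0, [35, 0, 0], [[3, 3]]), (0, [], []), (0, [78, 0, 0], [[1, 1]]), (0, [], []), (0, [], []), (0, [70, 2, 1], [[1, 1]]), (0, [46, 3, 0], [[2], [2]]), (0, [], []), (0, [36, 0, 0], [[2]]), (0, [], []), (0, [53, 2, 1], [[2]]), (0, [], []), (0, [], []), (0, [53, 1, 0], [[2]]), (0, [36, 3, 0], [[2]]), (0, [], []), (0, [], []), (0, [], []), (0, [14, 2, 1], [[1, 1]]), (0, [], []), (0, [], []), (0, [14, 1, 0], [[1, 1]]), (0, [14, 3, 0], [[3, 1]]), (0, [], []), (0, [], []), (0, [55, 3, 1], [[1, 1]]), (0, [], []), (0, [117, 1, 1], [[1], [1, 3, 2, 0]]), (0, [60, 2, 1], [[3], [3]]), (0, [], []), (0, [], []), (0, [38, 3, 1], [[1, 1]]), (0, [], []), (0, [87, 2, 1], [[2], [2]]), (0, [], []), (0, [63, 0, 0], [[3]]), (0, [58, 3, 0], [[1, 1]]), (0, [], []), (0, [], []), (0, [16, 3, 1], [[2, 1, 0]]), (0, [18, 0, 1], [[1, 3], [1, 3]]), (0, [], []), (0, [32, 2, 1], [[1, 1]]), (0, [], []), (0, [], []), (0, [108, 1, 0], [[1, 1]]), (0, [9, 0, 1], [[3, 1]]), (0, [], []), (0, [], []), (0,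 [2, 3, 0], [[0]]), (0, [], []), (0, [21, 1, 1], [[2]]), (0, [41, 2, 0], [[2]]), (0, [], []), (0, [], []), (0, [8, 0, 0], [[2]]), (0, [120, 3, 0], [[1, 1]]), (0, [], []), (0, [86, 1, 1], [[1, 3]]), (0, [], []), (0, [], []), (0, [44, 3, 1], [[1, 3]]), (0, [72, 2, 0], [[1, 1]]), (0, [], []), (0, [], []), (0, [112, 0, 1], [[2], [2]]), (0, [], []), (0, [76, 1, 1], [[1, 1]]), (0, [75, 3, 0], [[3]]), (0, [], []), (0, [], []), (0, [43, 3, 1], [[2, 1, 0]]), (0, [], []), (0, [95, 0, 1], [[1, 3]]), (0, [], []), (0, [92, 0, 1], [[1, 1]]), (0, [79, 3, 0], [[1, 1]]), (0, [], []), (0, [], []), (0, [42, 2, 1], [[1, 3]]), (0, [50, 0, 0], [[2, 0], [2, 0]]), (0, [], []), (0, [3, 2, 0], [[1, 1]]), (0, [], []), (0, [], []), (0, [34, 0, 0], [[1, 1]]), (0, [122, 2, 0], [[2, 0, 2, 0]]), (0, [], []), (0, [46, 0, 0], [[3, 3]]), (0, [], []), (0, [70, 1, 0], [[1, 1]]), (0, [], []), (0, [], []), (0, [78, 3, 0], [[1, 1]]), (0, [35, 3, 0], [[2], [2]]), (0, [], []), (0, [9, 3, 1], [[1, 3], [1, 3]]), (0, [], []), (0, [108, 2, 1],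 [[1, 1]]), (0, [], []), (0, [], []), (0, [32, 1, 0], [[1, 1]]), (0, [18, 3, 1], [[3, 1]]), (0, [], []), (0, [], []), (0, [107, 1, 1], [[3], [3]]), (0, [], []), (0, [48, 1, 1], [[1, 1]]), (0, [51, 1, 0], [[1, 1]]), (0, [], []), (0, [], []), (0, [88, 1, 0], [[1], [1, 3, 2, 0]]), (0, [19, 1, 1], [[0, 1]]), (0, [], []), (0, [127, 1, 0], [[2], [2]]), (0, [], []), (0, [], []), (0, [127, 2, 1], [[2], [2]]), (0, [19, 2, 0], [[1, 1]]), (0, [], []), (0, [45, 0, 0], [[2, 0], [2, 0]]), (0, [], []), (0, [29, 2, 1], [[1, 1]]), (0, [], []), (0, [], []), (0, [17, 1, 0], [[1, 1]]), (0, [83, 2, 0], [[2, 1, 0]]), (0, [], []), (0, [88, 2, 1], [[3], [3]]), (0, [], []), (0, [48, 2, 0], [[1, 1]]), (0, [], []), (0, [], []), (0, [51, 2, 1], [[1, 1]]), (0, [107, 2, 0], [[1], [2, 1, 2, 1]]), (0, [], []), (0, [52, 0, 0], [[3, 3]]), (0, [], []), (0, [100, 0, 0], [[1, 1]]), (0, [], []), (0, [], []), (0, [54, 3, 1], [[1, 1]]), (0, [28, 3, 0], [[2], [2]]), (0, [], []), (0, [53, 0, 0], [[2]]), (0, [], []), (0, [36, 2, 1], [[2]]),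 (0, [], []), (0, [], []), (0, [36, 1, 0], [[2]]), (0, [53, 3, 0], [[2]]), (0, [], []), (0, [], []), (0, [28, 1, 0], [[1, 1]]), (0, [], []), (0, [100, 2, 1], [[2], [2]]), (0, [54, 2, 0], [[3, 3]]), (0, [], []), (0, [], []), (0, [52, 2, 1], [[1, 1]]), (0, [], []), (0, [55, 0, 1], [[1, 1]]), (0, [], []), (0, [117, 2, 0], [[3], [3]]), (0, [60, 1, 0], [[1], [2, 1, 2, 1]]), (0, [], []), (0, [], []), (0, [38, 0, 1], [[1, 1]]), (0, [], []), (0, [125, 0, 0], [[1, 1]]), (0, [], []), (0, [56, 1, 1], [[1, 3]]), (0, [62, 1, 1], [[3]]), (0, [], []), (0, [], []), (0, [118, 3, 0], [[1, 1]]), (0, [85, 0, 1], [[1, 1]]), (0, [], []), (0, [5, 1, 0], [[1], [1, 3, 2, 0]]), (0, [], []), (0, [], []), (0, [12, 1, 1], [[3], [3]]), (0, [98, 3, 0], [[1, 1]]), (0, [], []), (0, [80, 2, 0], [[1, 1]]), (0, [], []), (0, [93, 2, 1], [[2, 0, 2, 0]]), (0, [], []), (0, [], []), (0, [68, 3, 1], [[2], [2]]), (0, [39, 2, 0], [[1, 1]]), (0, [], []), (0, [59, 0, 0], [[1, 1]]), (0, [], []), (0, [73, 2, 0], [[1], [2, 1, 2, 1]]), (0, [], []),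 (0, [], []), (0, [119, 1, 0], [[3], [3]]), (0, [15, 0, 1], [[1, 1]]), (0, [], []), (0, [117, 3, 1], [[1, 1]]), (0, [], []), (0, [55, 2, 0], [[1], [2, 1, 2, 1]]), (0, [], []), (0, [], []), (0, [38, 2, 0], [[3], [3]]), (0, [60, 3, 0], [[1, 1]]), (0, [], []), (0, [114, 1, 1], [[1, 1]]), (0, [], []), (0, [82, 2, 1], [[1, 3]]), (0, [], []), (0, [], []), (0, [26, 0, 1], [[1, 3]]), (0, [96, 1, 1], [[1, 1]]), (0, [], []), (0, [], []), (0, [125, 3, 0], [[1, 1]]), (0, [], []), (0, [56, 2, 0], [[3]]), (0, [62, 2, 0], [[1, 3]]), (0, [], []), (0, [], []), (0, [118, 0, 0], [[1, 1]]), (0, [39, 1, 1], [[3]]), (0, [], []), (0, [68, 0, 1], [[2, 1, 0]]), (0, [], []), (0, [], []), (0, [93, 1, 0], [[2], [2]]), (0, [80, 1, 1], [[1, 1]]), (0, [], []), (0, [105, 1, 1], [[1, 0]]), (0, [], []), (0, [64, 1, 0], [[1, 2, 1]]), (0, [], []), (0, [], []), (0, [69, 3, 1], [[0, 1, 2, 0]]), (0, [89, 2, 0], [[0]]), (0, [], []), (0, [65, 0, 0], [[2, 1, 0]]), (0, [], []), (0, [24, 2, 0], [[3]]), (0, [], []), (0, [], []), (0, [123, 3,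 1], [[1, 1]]), (0, [66, 3, 1], [[2], [2]]), (0, [], []), (0, [], []), (0, [66, 0, 1], [[1, 2, 0]]), (0, [], []), (0, [24, 1, 1], [[1, 1]]), (0, [123, 0, 1], [[1, 1]]), (0, [], []), (0, [], []), (0, [65, 3, 0], [[2], [2]]), (0, [], []), (0, [25, 2, 1], [[1], [1, 3, 2, 0]]), (0, [], []), (0, [77, 1, 1], [[1, 1]]), (0, [124, 1, 1], [[2, 0]]), (0, [], []), (0, [], []), (0, [99, 2, 1], [[3], [3]]), (0, [], []), (0, [63, 1, 0], [[2, 1, 0]]), (0, [], []), (0, [16, 1, 1], [[3]]), (0, [87, 0, 0], [[1, 1]]), (0, [], []), (0, [], []), (0, [58, 2, 1], [[2], [2]]), (0, [], []), (0, [69, 0, 1], [[1, 2, 1]]), (0, [], []), (0, [89, 1, 1], [[1, 0]]), (0, [105, 2, 0], [[0]]), (0, [], []), (0, [], []), (0, [64, 2, 1], [[0, 1, 2, 0]]), (0, [78, 2, 1], [[2], [2]]), (0, [], []), (0, [46, 1, 0], [[1, 1]]), (0, [], []), (0, [], []), (0, [35, 2, 1], [[1, 1]]), (0, [70, 3, 0], [[3, 3]]), (0, [], []), (0, [], []), (0, [84, 2, 0], [[3, 3]]), (0, [], []), (0, [115, 2, 1], [[1, 1]]), (0, [90, 3, 1], [[1, 1]]), (0, [], []), (0,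 [], []), (0, [4, 1, 1], [[2], [2]]), (0, [], []), (0, [79, 1, 0], [[2, 0, 2, 0]]), (0, [], []), (0, [95, 1, 1], [[1, 1]]), (0, [42, 3, 0], [[1, 1]]), (0, [], []), (0, [], []), (0, [92, 1, 1], [[2, 0]]), (0, [], []), (0, [119, 3, 0], [[1, 1]]), (0, [], []), (0, [15, 2, 0], [[3], [3]]), (0, [59, 1, 0], [[1], [2, 1, 2, 1]]), (0, [], []), (0, [], []), (0, [73, 3, 1], [[1, 1]]), (0, [25, 3, 0], [[1, 1]]), (0, [], []), (0, [124, 3, 1], [[1], [2, 1, 2, 1]]), (0, [], []), (0, [], []), (0, [77, 3, 1], [[3], [3]]), (0, [99, 3, 0], [[1, 1]]), (0, [], []), (0, [112, 1, 1], [[1, 1]]), (0, [], []), (0, [75, 1, 0], [[2, 1, 0]]), (0, [], []), (0, [], []), (0, [76, 3, 1], [[2], [2]]), (0, [43, 2, 0], [[3]]), (0, [], []), (0, [], []), (0, [76, 0, 1], [[1, 2, 0]]), (0, [], []), (0, [43, 1, 1], [[1, 1]]), (0, [112, 2, 0], [[1, 1]]), (0, [], []), (0, [], []), (0, [75, 2, 1], [[2], [2]]), (0, [], []), (0, [20, 2, 1], [[1], [1, 3, 2, 0]]), (0, [], []), (0, [67, 1, 1], [[1, 1]]), (0, [113, 1, 1], [[2, 0]]), (0, [], []),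 (0, [], []), (0, [74, 2, 1], [[3], [3]]), (0, [35, 1, 0], [[1, 1]]), (0, [], []), (0, [78, 1, 0], [[3, 3]]), (0, [], []), (0, [], []), (0, [70, 0, 0], [[2], [2]]), (0, [46, 2, 1], [[1, 1]]), (0, [], []), (0, [86, 3, 1], [[1, 1]]), (0, [], []), (0, [72, 0, 1], [[2, 0, 2, 0]]), (0, [], []), (0, [], []), (0, [120, 1, 0], [[2, 0]]), (0, [44, 2, 0], [[1, 1]]), (0, [], []), (0, [], []), (0, [87, 1, 0], [[1, 2, 0]]), (0, [], []), (0, [63, 3, 0], [[1, 1]]), (0, [58, 0, 0], [[1, 1]]), (0, [], []), (0, [], []), (0, [16, 0, 1], [[2], [2]]), (0, [], []), (0, [7, 3, 1], [[1, 1]]), (0, [], []), (0, [102, 1, 1], [[2, 0]]), (0, [81, 2, 0], [[0, 0, 2, 0]]), (0, [], []), (0, [], []), (0, [13, 0, 1], [[1, 1]]), (0, [101, 0, 0], [[1, 1]]), (0, [], []), (0, [23, 1, 0], [[1, 3]]), (0, [], []), (0, [], []), (0, [61, 1, 0], [[1, 3]]), (0, [106, 3, 1], [[1, 1]]), (0, [], []), (0, [], []), (0, [34, 3, 0], [[1, 1]]), (0, [], []), (0, [122, 1, 1], [[2, 0], [2, 0]]), (0, [50, 3, 0], [[2, 1, 0]]), (0, [], []), (0, [], []), (0,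 [3, 1, 1], [[1, 1]]), (0, [], []), (0, [109, 1, 0], [[1, 1]]), (0, [], []), (0, [10, 1, 1], [[2], [2]]), (0, [71, 0, 1], [[3, 3]]), (0, [], []), (0, [], []), (0, [91, 1, 1], [[1, 1]]), (0, [], []), (0, [57, 0, 0], [[1, 1]]), (0, [], []), (0, [11, 2, 1], [[3], [3]]), (0, [6, 2, 0], [[1], [2, 1, 2, 1]]), (0, [], []), (0, [], []), (0, [104, 3, 1], [[1, 1]]), (0, [], []), (0, [92, 3, 1], [[1, 1]]), (0, [], []), (0, [42, 1, 0], [[1, 3]]), (0, [95, 3, 1], [[1, 3]]), (0, [], []), (0, [], []), (0, [79, 0, 0], [[1, 1]]), (0, [68, 2, 0], [[1, 1]]), (0, [], []), (0, [80, 0, 1], [[1, 2, 0]]), (0, [], []), (0, [], []), (0, [39, 0, 1], [[2], [2]]), (0, [93, 3, 0], [[1, 1]]), (0, [], []), (0, [88, 0, 0], [[1, 1]]), (0, [], []), (0, [48, 3, 1], [[1], [1, 3, 2, 0]]), (0, [], []), (0, [], []), (0, [51, 0, 0], [[3], [3]]), (0, [107, 3, 1], [[2, 0]]), (0, [], []), (0, [], []), (0, [105, 0, 1], [[1, 2, 1]]), (0, [], []), (0, [69, 1, 1], [[1, 0]]), (0, [64, 3, 0], [[0]]), (0, [], []), (0, [], []), (0, [89, 3, 1], [[0,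 1, 2, 0]]), (0, [], []), (0, [10, 0, 1], [[1, 1]]), (0, [], []), (0, [91, 0, 1], [[3, 3]]), (0, [109, 3, 0], [[2], [2]]), (0, [], []), (0, [], []), (0, [71, 2, 0], [[1, 1]]), (0, [], []), (0, [90, 1, 1], [[3, 3]]), (0, [], []), (0, [84, 3, 1], [[1, 1]]), (0, [4, 0, 1], [[1, 1]]), (0, [], []), (0, [], []), (0, [115, 0, 0], [[2], [2]]), (0, [], []), (0, [44, 1, 1], [[1, 1]]), (0, [], []), (0, [72, 3, 1], [[2, 0]]), (0, [120, 2, 1], [[0, 2, 0, 0]]), (0, [], []), (0, [], []), (0, [86, 0, 1], [[1, 1]]), (0, [16, 2, 0], [[1, 1]]), (0, [], []), (0, [63, 2, 1], [[2], [2]]), (0, [], []), (0, [], []), (0, [58, 1, 0], [[2, 0, 2, 0]]), (0, [87, 3, 0], [[1, 1]]), (0, [], []), (0, [], []), (0, [94, 0, 1], [[1, 1]]), (0, [], []), (0, [30, 0, 1], [[3], [3]]), (0, [33, 3, 0], [[1], [2, 1, 2, 1]]), (0, [], []), (0, [], []), (0, [97, 3, 0], [[2, 0]]), (0, [], []), (0, [44, 0, 1], [[1, 3]]), (0, [], []), (0, [72, 1, 1], [[1, 1]]), (0, [120, 0, 0], [[1, 1]]), (0, [], []), (0, [], []), (0, [86, 2, 0], [[1, 3]]), (0, [],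 []), (0, [101, 1, 0], [[2, 0, 2, 0]]), (0, [], []), (0, [61, 3, 0], [[1, 1]]), (0, [23, 3, 0], [[1, 1]]), (0, [], []), (0, [], []), (0, [106, 1, 1], [[2, 0]]), (0, [97, 0, 0], [[1, 1]]), (0, [], []), (0, [30, 3, 1], [[1], [1, 3, 2, 0]]), (0, [], []), (0, [], []), (0, [33, 0, 0], [[3], [3]]), (0, [94, 3, 1], [[2, 0]]), (0, [], []), (0, [104, 0, 1], [[1, 1]]), (0, [], []), (0, [11, 1, 0], [[1], [1, 3, 2, 0]]), (0, [], []), (0, [], []), (0, [6, 1, 1], [[3], [3]]), (0, [57, 3, 0], [[1, 1]]), (0, [], []), (0, [20, 3, 0], [[1, 1]]), (0, [], []), (0, [113, 3, 1], [[1], [2, 1, 2, 1]]), (0, [], []), (0, [], []), (0, [67, 3, 1], [[3], [3]]), (0, [74, 3, 0], [[1, 1]]), (0, [], []), (0, [52, 1, 0], [[1, 1]]), (0, [], []), (0, [100, 1, 0], [[3, 3]]), (0, [], []), (0, [], []), (0, [54, 1, 1], [[2], [2]]), (0, [28, 2, 1], [[1, 1]]), (0, [], []), (0, [82, 0, 0], [[1, 1]]), (0, [], []), (0, [96, 0, 1], [[2, 0, 2, 0]]), (0, [], []), (0, [], []), (0, [114, 0, 1], [[2, 0]]), (0, [26, 2, 0], [[1, 1]]), (0, [], []), (0,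 [], []), (0, [13, 3, 1], [[1, 1]]), (0, [], []), (0, [81, 1, 1], [[2, 0]]), (0, [102, 2, 0], [[0, 0, 2, 0]]), (0, [], []), (0, [], []), (0, [7, 0, 1], [[1, 1]]), (0, [], []), (0, [18, 1, 1], [[1, 1]]), (0, [], []), (0, [108, 0, 0], [[2, 0], [2, 0]]), (0, [32, 3, 0], [[2, 1, 0]]), (0, [], []), (0, [], []), (0, [9, 1, 1], [[1, 1]]), (0, [], []), (0, [98, 0, 0], [[1, 1]]), (0, [], []), (0, [5, 2, 1], [[3], [3]]), (0, [12, 2, 0], [[1], [2, 1, 2, 1]]), (0, [], []), (0, [], []), (0, [85, 3, 1], [[1, 1]]), (0, [], []), (0, [89, 0, 1], [[1, 2, 1]]), (0, [], []), (0, [64, 0, 0], [[1, 0]]), (0, [69, 2, 0], [[0]]), (0, [], []), (0, [], []), (0, [105, 3, 1], [[0, 1, 2, 0]]), (0, [], []), (0, [26, 1, 1], [[1, 1]]), (0, [], []), (0, [96, 3, 1], [[2, 0]]), (0, [114, 3, 1], [[0, 2, 0, 0]]), (0, [], []), (0, [], []), (0, [82, 3, 0], [[1, 1]]), (0, [], []), (0, [107, 0, 1], [[1, 1]]), (0, [], []), (0, [48, 0, 1], [[3], [3]]), (0, [51, 3, 0], [[1], [2, 1, 2, 1]]), (0, [], []), (0, [], []), (0, [88, 3, 0], [[2, 0]]),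 (0, [103, 1, 1], [[2, 0], [2, 0]]), (0, [], []), (0, [40, 2, 1], [[1, 1]]), (0, [], []), (0, [], []), (0, [47, 1, 0], [[1, 1]]), (0, [27, 3, 0], [[2, 0, 2, 0]]), (0, [], []), (0, [115, 3, 0], [[3, 3]]), (0, [], []), (0, [84, 0, 1], [[1, 1]]), (0, [], []), (0, [], []), (0, [4, 3, 1], [[1, 1]]), (0, [90, 2, 0], [[2], [2]]), (0, [], []), (0, [116, 3, 0], [[2]]), (0, [], []), (0, [110, 2, 1], [[2]]), (0, [], []), (0, [], []), (0, [110, 1, 0], [[2]]), (0, [116, 0, 0], [[2]]), (0, [], []), (0, [], []), (0, [19, 0, 1], [[2], [2]]), (0, [], []), (0, [127, 0, 0], [[2, 0]]), (0, [127, 3, 0], [[1, 1]]), (0, [], []), (0, [], []), (0, [19, 3, 1], [[2], [2]]), (0, [], []), (0, [43, 0, 1], [[2], [2]]), (0, [], []), (0, [75, 0, 0], [[1, 1]]), (0, [76, 2, 0], [[1, 1]]), (0, [], []), (0, [], []), (0, [112, 3, 1], [[2, 0, 2, 0]]), (0, [], []), (0, [25, 1, 0], [[3], [3]]), (0, [], []), (0, [77, 2, 0], [[2, 0]]), (0, [124, 2, 0], [[1, 1]]), (0, [], []), (0, [], []), (0, [99, 1, 0], [[1], [2, 1, 2, 1]]), (0, [], []), (0,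 [101, 2, 1], [[2, 0]]), (0, [], []), (0, [61, 0, 0], [[1, 1]]), (0, [23, 0, 0], [[1, 1]]), (0, [], []), (0, [], []), (0, [106, 2, 0], [[0, 2, 0, 0]]), (0, [91, 3, 1], [[2], [2]]), (0, [], []), (0, [10, 3, 1], [[1, 1]]), (0, [], []), (0, [], []), (0, [71, 1, 1], [[1, 1]]), (0, [109, 0, 0], [[3, 3]]), (0, [], []), (0, [110, 3, 0], [[2]]), (0, [], []), (0, [116, 2, 1], [[2]]), (0, [], []), (0, [], []), (0, [116, 1, 0], [[2]]), (0, [110, 0, 0], [[2]]), (0, [], []), (0, [], []), (0, [117, 0, 1], [[1, 1]]), (0, [], []), (0, [38, 1, 1], [[1], [1, 3, 2, 0]]), (0, [55, 1, 1], [[3], [3]]), (0, [], []), (0, [], []), (0, [60, 0, 0], [[1, 1]]), (0, [62, 3, 1], [[1, 1]]), (0, [], []), (0, [118, 1, 0], [[2, 0]]), (0, [], []), (0, [], []), (0, [125, 2, 1], [[0, 0, 2, 0]]), (0, [56, 3, 1], [[1, 1]]), (0, [], []), (0, [119, 0, 0], [[1, 1]]), (0, [], []), (0, [59, 2, 1], [[3], [3]]), (0, [], []), (0, [], []), (0, [15, 1, 1], [[1], [1, 3, 2, 0]]), (0, [73, 0, 1], [[1, 1]]), (0, [], []), (0, [95, 2, 0], [[1, 1]]), (0,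 [], []), (0, [79, 2, 1], [[2, 0]]), (0, [], []), (0, [], []), (0, [92, 2, 0], [[0, 2, 0, 0]]), (0, [42, 0, 0], [[1, 1]]), (0, [], []), (0, [126, 1, 1], [[2, 0]]), (0, [], []), (0, [22, 1, 0], [[2], [2]]), (0, [], []), (0, [], []), (0, [22, 2, 1], [[2], [2]]), (0, [126, 2, 0], [[1, 1]]), (0, [], []), (0, [], []), (0, [17, 2, 1], [[1, 1]]), (0, [], []), (0, [83, 1, 1], [[2, 0], [2, 0]]), (0, [45, 3, 0], [[2, 0, 2, 0]]), (0, [], []), (0, [], []), (0, [29, 1, 0], [[1, 1]]), (0, [], []), (0, [66, 2, 0], [[1, 1]]), (0, [], []), (0, [24, 0, 1], [[2], [2]]), (0, [123, 2, 0], [[2, 0, 2, 0]]), (0, [], []), (0, [], []), (0, [65, 2, 1], [[1, 1]]), (0, [], []), (0, [20, 1, 0], [[3], [3]]), (0, [], []), (0, [67, 2, 0], [[2, 0]]), (0, [113, 2, 0], [[1, 1]]), (0, [], []), (0, [], []), (0, [74, 1, 0], [[1], [2, 1, 2, 1]]), (0, [56, 0, 1], [[1, 1]]), (0, [], []), (0, [125, 1, 0], [[2, 0]]), (0, [], []), (0, [], []), (0, [118, 2, 1], [[0, 0, 2, 0]]), (0, [62, 0, 1], [[1, 1]]), (0, [], []), (0, [], []), (0, [31, 1, 0],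 [[2], [2]]), (0, [], []), (0, [121, 0, 0], [[2, 0]]), (0, [121, 3, 0], [[1, 1]]), (0, [], []), (0, [], []), (0, [31, 2, 1], [[2], [2]]), (0, [111, 1, 1], [[2, 0]]), (0, [], []), (0, [49, 1, 0], [[2], [2]]), (0, [], []), (0, [], []), (0, [49, 2, 1], [[2], [2]]), (0, [111, 2, 0], [[1, 1]]), (0, [], [])]

/-- Witnesses for the elements centralising representative 3. -/
def scan3 : List (ℕ × List ℕ × List (List ℕ)) := [(0, [], []), (0, [0, 0, 1], [[1, 2, 1, 1]]), (0, [], []), (0, [], []), (0, [], []), (0, [], []), (0, [0, 3, 0], [[0]]), (0, [0, 3, 1], [[0]]), (0, [], []), (0, [1, 0, 1], [[1, 2, 1, 1]]), (0, [], []), (0, [], []), (0, [], []), (0, [], []), (0, [1, 3, 0], [[0]]), (0, [1, 3, 1], [[0]]), (0, [], []), (0, [], []), (0, [2, 1, 0], [[2, 2, 0, 2, 2, 2]]), (0, [21, 2, 1], [[1, 1, 1, 0, 1, 0]]), (0, [41, 1, 0], [[1, 1, 1, 0, 1, 0]]), (0, [8, 2, 1], [[2, 2, 0, 2, 2, 2]]), (0, [], []), (0, [], []), (0, [3, 0, 0], [[0]]), (0, [17, 3, 0], [[0]]), (0, [], []), (0, [], []), (0, [], []), (0, [], []), (0,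 [34, 2, 0], [[1, 1, 1, 0, 1]]), (0, [29, 0, 0], [[2, 1, 1, 1], [2, 1, 1, 1]]), (0, [], []), (0, [], []), (0, [115, 0, 1], [[1, 1, 1, 0, 1, 0]]), (0, [71, 3, 1], [[1, 1, 0, 1, 1], [1, 1, 0, 1, 1]]), (0, [10, 2, 0], [[1, 0, 1, 0, 1, 1]]), (0, [90, 1, 0], [[1, 1, 1, 0, 1, 0]]), (0, [], []), (0, [], []), (0, [], []), (0, [], []), (0, [57, 1, 0], [[2, 1, 1, 1], [2, 1, 1, 1, 0]]), (0, [85, 1, 0], [[1, 1, 1, 0, 1, 0]]), (0, [98, 1, 1], [[1, 1, 1, 0, 1, 0]]), (0, [104, 1, 1], [[2, 1, 1, 1], [2, 1, 1, 1, 0]]), (0, [], []), (0, [], []), (0, [], []), (0, [], []), (0, [104, 2, 1], [[1, 1, 1, 0, 1, 0]]), (0, [98, 2, 1], [[2, 1, 1, 1], [2, 1, 1, 1, 0]]), (0, [85, 2, 0], [[2, 1, 1, 1], [2, 1, 1, 1, 0]]), (0, [57, 2, 0], [[1, 1, 1, 0, 1, 0]]), (0, [], []), (0, [], []), (0, [], []), (0, [], []), (0, [13, 1, 0], [[1, 1, 1, 0, 1]]), (0, [13, 1, 1], [[2, 1, 1, 1]]), (0, [7, 2, 0], [[0]]), (0, [7, 2, 1], [[0]]), (0, [], []), (0, [], []), (0, [], []), (0, [], []), (0, [8, 1, 0], [[2, 2, 0, 2, 2, 2]]), (0, [41, 2, 1], [[1,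 1, 1, 0, 1, 0]]), (0, [21, 1, 0], [[1, 1, 1, 0, 1, 0]]), (0, [2, 2, 1], [[2, 2, 0, 2, 2, 2]]), (0, [], []), (0, [], []), (0, [9, 0, 0], [[0]]), (0, [40, 3, 0], [[0]]), (0, [], []), (0, [], []), (0, [], []), (0, [], []), (0, [18, 0, 0], [[1, 1, 1, 0, 1]]), (0, [47, 0, 0], [[2, 1, 1, 1], [2, 1, 1, 1]]), (0, [], []), (0, [], []), (0, [109, 3, 1], [[1, 1, 1, 0, 1, 0]]), (0, [84, 1, 1], [[1, 1, 0, 1, 1], [1, 1, 0, 1, 1]]), (0, [4, 2, 0], [[1, 0, 1, 0, 1, 1]]), (0, [91, 0, 0], [[1, 1, 1, 0, 1, 0]]), (0, [], []), (0, [], []), (0, [], []), (0, [], []), (0, [98, 1, 0], [[2, 1, 1, 1], [2, 1, 1, 1, 0]]), (0, [104, 1, 0], [[1, 1, 1, 0, 1, 0]]), (0, [57, 1, 1], [[1, 1, 1, 0, 1, 0]]), (0, [85, 1, 1], [[2, 1, 1, 1], [2, 1, 1, 1, 0]]), (0, [], []), (0, [], []), (0, [], []), (0, [], []), (0, [85, 2, 1], [[1, 1, 1, 0, 1, 0]]), (0, [57, 2, 1], [[2, 1, 1, 1], [2, 1, 1, 1, 0]]), (0, [104, 2, 0], [[2, 1, 1, 1], [2, 1, 1, 1, 0]]), (0, [98, 2, 0], [[1, 1, 1, 0, 1, 0]]), (0, [], []), (0, [], []), (0, [], []), (0, [], []),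 (0, [7, 1, 0], [[1, 1, 1, 0, 1]]), (0, [7, 1, 1], [[2, 1, 1, 1]]), (0, [13, 2, 0], [[0]]), (0, [13, 2, 1], [[0]]), (0, [], []), (0, [], []), (0, [37, 0, 0], [[1, 1, 0, 1, 1]]), (0, [14, 0, 1], [[2, 2, 2, 1]]), (0, [], []), (0, [], []), (0, [], []), (0, [], []), (0, [37, 3, 0], [[0]]), (0, [14, 3, 1], [[0]]), (0, [], []), (0, [], []), (0, [73, 1, 0], [[1, 1, 1, 0, 1, 0]]), (0, [119, 2, 1], [[2, 1, 1, 1], [2, 1, 1, 1, 0]]), (0, [73, 1, 1], [[2, 1, 1, 1], [2, 1, 1, 1, 0]]), (0, [119, 2, 0], [[1, 1, 1, 0, 1, 0]]), (0, [], []), (0, [], []), (0, [63, 2, 0], [[1, 1, 1, 0, 1]]), (0, [80, 3, 1], [[1, 1, 0, 1, 1], [1, 1, 0, 1, 1]]), (0, [], []), (0, [], []), (0, [], []), (0, [], []), (0, [58, 1, 1], [[0]]), (0, [39, 3, 1], [[0]]), (0, [34, 2, 1], [[2, 1, 1, 1], [2, 1, 1, 1]]), (0, [29, 0, 1], [[1, 1, 1, 0, 1]]), (0, [], []), (0, [], []), (0, [], []), (0, [], []), (0, [3, 0, 1], [[0]]), (0, [17, 3, 1], [[0]]), (0, [9, 3, 0], [[1, 1, 1, 0, 1]]), (0, [40, 0, 0], [[2, 1, 1, 1], [2, 1, 1, 1]]), (0, [], []), (0,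 [], []), (0, [], []), (0, [], []), (0, [18, 3, 0], [[0]]), (0, [47, 3, 0], [[0]]), (0, [127, 2, 0], [[1, 1, 1, 0, 1, 0]]), (0, [111, 0, 1], [[1, 1, 0, 1, 1], [1, 1, 0, 1, 1]]), (0, [], []), (0, [], []), (0, [], []), (0, [], []), (0, [127, 1, 1], [[1, 1, 1, 0, 1, 0]]), (0, [111, 3, 1], [[1, 1, 0, 1, 1], [1, 1, 0, 1, 1]]), (0, [], []), (0, [], []), (0, [124, 0, 1], [[2, 1, 1, 1], [2, 1, 1, 1, 0]]), (0, [113, 3, 0], [[1, 1, 1, 0, 1, 0]]), (0, [67, 3, 0], [[1, 1, 1, 0, 1, 0]]), (0, [77, 0, 1], [[2, 1, 1, 1], [2, 1, 1, 1, 0]]), (0, [], []), (0, [], []), (0, [], []), (0, [], []), (0, [8, 2, 0], [[1, 1, 1, 0, 1, 0]]), (0, [41, 1, 1], [[2, 2, 0, 2, 2, 2]]), (0, [21, 2, 0], [[2, 2, 0, 2, 2, 2]]), (0, [2, 1, 1], [[1, 1, 1, 0, 1, 0]]), (0, [], []), (0, [], []), (0, [], []), (0, [], []), (0, [121, 1, 0], [[1, 1, 0, 1, 1], [1, 1, 0, 1, 1]]), (0, [126, 3, 0], [[1, 1, 1, 0, 1, 0]]), (0, [126, 0, 0], [[1, 1, 1, 0, 1, 0]]), (0, [121, 2, 1], [[1, 1, 0, 1, 1], [1, 1, 0, 1, 1]]), (0, [], []), (0, [], []), (0, [], []),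 (0, [], []), (0, [82, 1, 0], [[2, 1, 1, 1], [2, 1, 1, 1]]), (0, [42, 1, 1], [[1, 1, 1, 0, 1]]), (0, [95, 3, 0], [[0]]), (0, [26, 3, 1], [[0]]), (0, [], []), (0, [], []), (0, [65, 3, 1], [[1, 1, 1, 0, 1]]), (0, [123, 1, 1], [[1, 1, 0, 1, 1], [1, 1, 0, 1, 1]]), (0, [], []), (0, [], []), (0, [], []), (0, [], []), (0, [66, 0, 0], [[0]]), (0, [24, 3, 1], [[0]]), (0, [], []), (0, [], []), (0, [113, 0, 1], [[2, 1, 1, 1], [2, 1, 1, 1, 0]]), (0, [124, 3, 0], [[1, 1, 1, 0, 1, 0]]), (0, [77, 3, 0], [[1, 1, 1, 0, 1, 0]]), (0, [67, 0, 1], [[2, 1, 1, 1], [2, 1, 1, 1, 0]]), (0, [], []), (0, [], []), (0, [44, 0, 0], [[1, 1, 1, 0, 1]]), (0, [61, 2, 1], [[2, 1, 1, 1], [2, 1, 1, 1]]), (0, [], []), (0, [], []), (0, [], []), (0, [], []), (0, [86, 2, 1], [[0]]), (0, [23, 2, 1], [[0]]), (0, [32, 0, 0], [[2, 1, 1, 1], [2, 1, 1, 1]]), (0, [27, 0, 1], [[1, 1, 1, 0, 1]]), (0, [], []), (0, [], []), (0, [], []), (0, [], []), (0, [108, 3, 0], [[0]]), (0, [103, 2, 1], [[0]]), (0, [28, 0, 0], [[1, 0, 1, 0, 1, 1]]), (0, [54, 2, 1],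 [[1, 1, 1, 0, 1, 0]]), (0, [], []), (0, [], []), (0, [], []), (0, [], []), (0, [52, 3, 0], [[1, 1, 0, 1, 1], [1, 1, 0, 1, 1]]), (0, [100, 2, 0], [[1, 1, 1, 0, 1, 0]]), (0, [3, 3, 1], [[2, 1, 1, 1], [2, 1, 1, 1]]), (0, [17, 0, 1], [[1, 1, 1, 0, 1]]), (0, [], []), (0, [], []), (0, [], []), (0, [], []), (0, [34, 1, 0], [[0]]), (0, [29, 3, 1], [[0]]), (0, [94, 2, 1], [[1, 1, 1, 0, 1, 0]]), (0, [94, 1, 1], [[2, 1, 1, 1], [2, 1, 1, 1, 0]]), (0, [], []), (0, [], []), (0, [], []), (0, [], []), (0, [97, 2, 0], [[1, 1, 1, 0, 1, 0]]), (0, [97, 1, 0], [[2, 1, 1, 1], [2, 1, 1, 1, 0]]), (0, [], []), (0, [], []), (0, [126, 0, 1], [[1, 1, 0, 1, 1], [1, 1, 0, 1, 1]]), (0, [121, 2, 0], [[1, 1, 1, 0, 1, 0]]), (0, [121, 1, 1], [[1, 1, 1, 0, 1, 0]]), (0, [126, 3, 1], [[1, 1, 0, 1, 1], [1, 1, 0, 1, 1]]), (0, [], []), (0, [], []), (0, [27, 0, 0], [[2, 1, 1, 1], [2, 1, 1, 1]]), (0, [32, 0, 1], [[1, 1, 1, 0, 1]]), (0, [], []), (0, [], []), (0, [], []), (0, [], []), (0, [103, 2, 0], [[0]]), (0, [108, 3, 1], [[0]]), (0, [97,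 2, 1], [[2, 1, 1, 1], [2, 1, 1, 1, 0]]), (0, [97, 1, 1], [[1, 1, 1, 0, 1, 0]]), (0, [], []), (0, [], []), (0, [], []), (0, [], []), (0, [94, 2, 0], [[2, 1, 1, 1], [2, 1, 1, 1, 0]]), (0, [94, 1, 0], [[1, 1, 1, 0, 1, 0]]), (0, [], []), (0, [], []), (0, [29, 3, 0], [[0]]), (0, [34, 1, 1], [[0]]), (0, [3, 3, 0], [[1, 1, 1, 0, 1]]), (0, [17, 0, 0], [[2, 1, 1, 1], [2, 1, 1, 1]]), (0, [], []), (0, [], []), (0, [35, 0, 0], [[1, 0, 1, 0, 1, 1]]), (0, [78, 1, 1], [[1, 1, 1, 0, 1, 0]]), (0, [], []), (0, [], []), (0, [], []), (0, [], []), (0, [46, 3, 0], [[1, 1, 0, 1, 1], [1, 1, 0, 1, 1]]), (0, [70, 0, 1], [[1, 1, 1, 0, 1, 0]]), (0, [36, 0, 0], [[1, 1, 0, 1, 1]]), (0, [53, 0, 1], [[2, 2, 2, 1]]), (0, [], []), (0, [], []), (0, [], []), (0, [], []), (0, [36, 3, 0], [[0]]), (0, [53, 3, 1], [[0]]), (0, [14, 0, 0], [[1, 1, 0, 1, 1]]), (0, [37, 0, 1], [[2, 2, 2, 1]]), (0, [], []), (0, [], []), (0, [], []), (0, [], []), (0, [14, 3, 0], [[0]]), (0, [37, 3, 1], [[0]]), (0, [], []), (0, [], []), (0, [60, 2, 0], [[1, 1,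 1, 0, 1, 0]]), (0, [117, 1, 1], [[2, 1, 1, 1], [2, 1, 1, 1, 0]]), (0, [60, 2, 1], [[2, 1, 1, 1], [2, 1, 1, 1, 0]]), (0, [117, 1, 0], [[1, 1, 1, 0, 1, 0]]), (0, [], []), (0, [], []), (0, [68, 3, 0], [[1, 1, 1, 0, 1]]), (0, [87, 2, 1], [[1, 1, 0, 1, 1], [1, 1, 0, 1, 1]]), (0, [], []), (0, [], []), (0, [], []), (0, [], []), (0, [93, 2, 0], [[0]]), (0, [16, 3, 1], [[0]]), (0, [18, 0, 1], [[2, 1, 1, 1], [2, 1, 1, 1]]), (0, [47, 0, 1], [[1, 1, 1, 0, 1]]), (0, [], []), (0, [], []), (0, [], []), (0, [], []), (0, [9, 0, 1], [[0]]), (0, [40, 3, 1], [[0]]), (0, [], []), (0, [], []), (0, [2, 2, 0], [[1, 1, 1, 0, 1, 0]]), (0, [21, 1, 1], [[2, 2, 0, 2, 2, 2]]), (0, [41, 2, 0], [[2, 2, 0, 2, 2, 2]]), (0, [8, 1, 1], [[1, 1, 1, 0, 1, 0]]), (0, [], []), (0, [], []), (0, [], []), (0, [], []), (0, [86, 1, 1], [[2, 1, 1, 1], [2, 1, 1, 1]]), (0, [23, 1, 1], [[1, 1, 1, 0, 1]]), (0, [61, 1, 1], [[0]]), (0, [44, 3, 1], [[0]]), (0, [], []), (0, [], []), (0, [75, 2, 0], [[1, 1, 1, 0, 1]]), (0, [112, 0, 1], [[1, 1, 0, 1, 1],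 [1, 1, 0, 1, 1]]), (0, [], []), (0, [], []), (0, [], []), (0, [], []), (0, [76, 0, 0], [[0]]), (0, [43, 3, 1], [[0]]), (0, [26, 0, 0], [[1, 1, 1, 0, 1]]), (0, [95, 0, 1], [[2, 1, 1, 1], [2, 1, 1, 1]]), (0, [], []), (0, [], []), (0, [], []), (0, [], []), (0, [82, 2, 0], [[0]]), (0, [42, 2, 1], [[0]]), (0, [50, 0, 0], [[2, 1, 1, 1], [2, 1, 1, 1]]), (0, [45, 0, 1], [[1, 1, 1, 0, 1]]), (0, [], []), (0, [], []), (0, [], []), (0, [], []), (0, [122, 2, 0], [[0]]), (0, [83, 2, 1], [[0]]), (0, [46, 0, 0], [[1, 0, 1, 0, 1, 1]]), (0, [70, 3, 1], [[1, 1, 1, 0, 1, 0]]), (0, [], []), (0, [], []), (0, [], []), (0, [], []), (0, [35, 3, 0], [[1, 1, 0, 1, 1], [1, 1, 0, 1, 1]]), (0, [78, 2, 0], [[1, 1, 1, 0, 1, 0]]), (0, [9, 3, 1], [[2, 1, 1, 1], [2, 1, 1, 1]]), (0, [40, 0, 1], [[1, 1, 1, 0, 1]]), (0, [], []), (0, [], []), (0, [], []), (0, [], []), (0, [18, 3, 1], [[0]]), (0, [47, 3, 1], [[0]]), (0, [107, 2, 1], [[1, 1, 1, 0, 1, 0]]), (0, [107, 1, 1], [[2, 1, 1, 1], [2, 1, 1, 1, 0]]), (0, [], []), (0, [], []), (0, [],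 []), (0, [], []), (0, [88, 2, 0], [[1, 1, 1, 0, 1, 0]]), (0, [88, 1, 0], [[2, 1, 1, 1], [2, 1, 1, 1, 0]]), (0, [], []), (0, [], []), (0, [127, 1, 0], [[1, 1, 0, 1, 1], [1, 1, 0, 1, 1]]), (0, [111, 3, 0], [[1, 1, 1, 0, 1, 0]]), (0, [111, 0, 0], [[1, 1, 1, 0, 1, 0]]), (0, [127, 2, 1], [[1, 1, 0, 1, 1], [1, 1, 0, 1, 1]]), (0, [], []), (0, [], []), (0, [45, 0, 0], [[2, 1, 1, 1], [2, 1, 1, 1]]), (0, [50, 0, 1], [[1, 1, 1, 0, 1]]), (0, [], []), (0, [], []), (0, [], []), (0, [], []), (0, [83, 2, 0], [[0]]), (0, [122, 2, 1], [[0]]), (0, [88, 2, 1], [[2, 1, 1, 1], [2, 1, 1, 1, 0]]), (0, [88, 1, 1], [[1, 1, 1, 0, 1, 0]]), (0, [], []), (0, [], []), (0, [], []), (0, [], []), (0, [107, 2, 0], [[2, 1, 1, 1], [2, 1, 1, 1, 0]]), (0, [107, 1, 0], [[1, 1, 1, 0, 1, 0]]), (0, [52, 0, 0], [[1, 0, 1, 0, 1, 1]]), (0, [100, 1, 1], [[1, 1, 1, 0, 1, 0]]), (0, [], []), (0, [], []), (0, [], []), (0, [], []), (0, [28, 3, 0], [[1, 1, 0, 1, 1], [1, 1, 0, 1, 1]]), (0, [54, 1, 0], [[1, 1, 1, 0, 1, 0]]), (0, [53, 0, 0], [[1, 1, 0,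 1, 1]]), (0, [36, 0, 1], [[2, 2, 2, 1]]), (0, [], []), (0, [], []), (0, [], []), (0, [], []), (0, [53, 3, 0], [[0]]), (0, [36, 3, 1], [[0]]), (0, [], []), (0, [], []), (0, [52, 3, 1], [[1, 1, 1, 0, 1, 0]]), (0, [100, 2, 1], [[1, 1, 0, 1, 1], [1, 1, 0, 1, 1]]), (0, [54, 2, 0], [[1, 0, 1, 0, 1, 1]]), (0, [28, 0, 1], [[1, 1, 1, 0, 1, 0]]), (0, [], []), (0, [], []), (0, [], []), (0, [], []), (0, [60, 1, 1], [[1, 1, 1, 0, 1, 0]]), (0, [117, 2, 0], [[2, 1, 1, 1], [2, 1, 1, 1, 0]]), (0, [60, 1, 0], [[2, 1, 1, 1], [2, 1, 1, 1, 0]]), (0, [117, 2, 1], [[1, 1, 1, 0, 1, 0]]), (0, [], []), (0, [], []), (0, [], []), (0, [], []), (0, [62, 2, 1], [[1, 1]]), (0, [56, 1, 1], [[2, 1, 1, 1]]), (0, [62, 1, 1], [[0]]), (0, [56, 2, 1], [[0]]), (0, [], []), (0, [], []), (0, [], []), (0, [], []), (0, [5, 1, 0], [[2, 1, 1, 1], [2, 1, 1, 1, 0]]), (0, [11, 2, 0], [[1, 1, 1, 0, 1, 0]]), (0, [6, 2, 1], [[1, 1, 1, 0, 1, 0]]), (0, [12, 1, 1], [[2, 1, 1, 1], [2, 1, 1, 1, 0]]), (0, [], []), (0, [], []), (0, [], []), (0, [], []), (0,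 [93, 2, 1], [[0]]), (0, [16, 3, 0], [[0]]), (0, [87, 2, 0], [[1, 1, 1, 0, 1]]), (0, [68, 3, 1], [[1, 1, 0, 1, 1], [1, 1, 0, 1, 1]]), (0, [], []), (0, [], []), (0, [], []), (0, [], []), (0, [73, 2, 0], [[2, 1, 1, 1], [2, 1, 1, 1, 0]]), (0, [119, 1, 1], [[1, 1, 1, 0, 1, 0]]), (0, [73, 2, 1], [[1, 1, 1, 0, 1, 0]]), (0, [119, 1, 0], [[2, 1, 1, 1], [2, 1, 1, 1, 0]]), (0, [], []), (0, [], []), (0, [], []), (0, [], []), (0, [55, 2, 0], [[2, 1, 1, 1], [2, 1, 1, 1, 0]]), (0, [55, 1, 0], [[1, 1, 1, 0, 1, 0]]), (0, [38, 1, 0], [[1, 1, 1, 0, 1, 0]]), (0, [38, 2, 0], [[2, 1, 1, 1], [2, 1, 1, 1, 0]]), (0, [], []), (0, [], []), (0, [], []), (0, [], []), (0, [82, 2, 1], [[0]]), (0, [42, 2, 0], [[0]]), (0, [95, 0, 0], [[1, 1, 1, 0, 1]]), (0, [26, 0, 1], [[2, 1, 1, 1], [2, 1, 1, 1]]), (0, [], []), (0, [], []), (0, [], []), (0, [], []), (0, [62, 1, 0], [[0]]), (0, [56, 2, 0], [[0]]), (0, [62, 2, 0], [[2, 1, 1, 1]]), (0, [56, 1, 0], [[1, 1]]), (0, [], []), (0, [], []), (0, [], []), (0, [], []), (0, [68, 0, 1], [[0]]),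 (0, [87, 1, 1], [[0]]), (0, [16, 0, 0], [[1, 1, 1, 0, 1]]), (0, [93, 1, 0], [[1, 1, 0, 1, 1], [1, 1, 0, 1, 1]]), (0, [], []), (0, [], []), (0, [], []), (0, [], []), (0, [64, 1, 0], [[2, 2, 0, 2, 2, 2]]), (0, [105, 3, 0], [[1, 1, 1, 0, 1, 0]]), (0, [89, 0, 0], [[1, 1, 1, 0, 1, 0]]), (0, [69, 3, 1], [[2, 2, 0, 2, 2, 2]]), (0, [], []), (0, [], []), (0, [65, 0, 0], [[0]]), (0, [123, 2, 1], [[0]]), (0, [], []), (0, [], []), (0, [], []), (0, [], []), (0, [66, 3, 1], [[1, 1, 0, 1, 1], [1, 1, 0, 1, 1]]), (0, [24, 0, 0], [[1, 1, 1, 0, 1]]), (0, [24, 3, 0], [[0]]), (0, [66, 0, 1], [[0]]), (0, [], []), (0, [], []), (0, [], []), (0, [], []), (0, [123, 1, 0], [[1, 1, 1, 0, 1]]), (0, [65, 3, 0], [[1, 1, 0, 1, 1], [1, 1, 0, 1, 1]]), (0, [74, 2, 0], [[1, 1, 1, 0, 1, 0]]), (0, [25, 2, 1], [[2, 1, 1, 1], [2, 1, 1, 1, 0]]), (0, [], []), (0, [], []), (0, [], []), (0, [], []), (0, [20, 2, 0], [[1, 1, 1, 0, 1, 0]]), (0, [99, 2, 1], [[2, 1, 1, 1], [2, 1, 1, 1, 0]]), (0, [80, 0, 0], [[0]]), (0, [63, 1, 0], [[0]]), (0, [],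 []), (0, [], []), (0, [], []), (0, [], []), (0, [39, 0, 0], [[1, 1, 1, 0, 1]]), (0, [58, 2, 1], [[1, 1, 0, 1, 1], [1, 1, 0, 1, 1]]), (0, [89, 3, 0], [[1, 1, 1, 0, 1, 0]]), (0, [69, 0, 1], [[2, 2, 0, 2, 2, 2]]), (0, [], []), (0, [], []), (0, [], []), (0, [], []), (0, [105, 0, 0], [[1, 1, 1, 0, 1, 0]]), (0, [64, 2, 1], [[2, 2, 0, 2, 2, 2]]), (0, [78, 2, 1], [[1, 1, 0, 1, 1], [1, 1, 0, 1, 1]]), (0, [35, 3, 1], [[1, 1, 1, 0, 1, 0]]), (0, [], []), (0, [], []), (0, [], []), (0, [], []), (0, [70, 3, 0], [[1, 0, 1, 0, 1, 1]]), (0, [46, 0, 1], [[1, 1, 1, 0, 1, 0]]), (0, [109, 0, 1], [[1, 1, 1, 0, 1, 0]]), (0, [84, 2, 0], [[1, 0, 1, 0, 1, 1]]), (0, [], []), (0, [], []), (0, [], []), (0, [], []), (0, [91, 3, 0], [[1, 1, 1, 0, 1, 0]]), (0, [4, 1, 1], [[1, 1, 0, 1, 1], [1, 1, 0, 1, 1]]), (0, [96, 0, 0], [[0]]), (0, [79, 1, 0], [[0]]), (0, [], []), (0, [], []), (0, [], []), (0, [], []), (0, [114, 0, 0], [[1, 1, 1, 0, 1]]), (0, [92, 1, 1], [[2, 1, 1, 1], [2, 1, 1, 1]]), (0, [], []), (0, [], []), (0, [15, 1, 0],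 [[1, 1, 1, 0, 1, 0]]), (0, [15, 2, 0], [[2, 1, 1, 1], [2, 1, 1, 1, 0]]), (0, [59, 1, 0], [[2, 1, 1, 1], [2, 1, 1, 1, 0]]), (0, [59, 2, 0], [[1, 1, 1, 0, 1, 0]]), (0, [], []), (0, [], []), (0, [], []), (0, [], []), (0, [124, 3, 1], [[2, 1, 1, 1], [2, 1, 1, 1, 0]]), (0, [113, 0, 0], [[1, 1, 1, 0, 1, 0]]), (0, [67, 0, 0], [[1, 1, 1, 0, 1, 0]]), (0, [77, 3, 1], [[2, 1, 1, 1], [2, 1, 1, 1, 0]]), (0, [], []), (0, [], []), (0, [], []), (0, [], []), (0, [75, 1, 0], [[0]]), (0, [112, 3, 0], [[0]]), (0, [43, 0, 0], [[1, 1, 1, 0, 1]]), (0, [76, 3, 1], [[1, 1, 0, 1, 1], [1, 1, 0, 1, 1]]), (0, [], []), (0, [], []), (0, [43, 3, 0], [[0]]), (0, [76, 0, 1], [[0]]), (0, [], []), (0, [], []), (0, [], []), (0, [], []), (0, [112, 0, 0], [[1, 1, 1, 0, 1]]), (0, [75, 2, 1], [[1, 1, 0, 1, 1], [1, 1, 0, 1, 1]]), (0, [99, 2, 0], [[1, 1, 1, 0, 1, 0]]), (0, [20, 2, 1], [[2, 1, 1, 1], [2, 1, 1, 1, 0]]), (0, [], []), (0, [], []), (0, [], []), (0, [], []), (0, [25, 2, 0], [[1, 1, 1, 0, 1, 0]]), (0, [74, 2, 1], [[2, 1, 1, 1], [2,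 1, 1, 1, 0]]), (0, [], []), (0, [], []), (0, [78, 1, 0], [[1, 0, 1, 0, 1, 1]]), (0, [35, 0, 1], [[1, 1, 1, 0, 1, 0]]), (0, [46, 3, 1], [[1, 1, 1, 0, 1, 0]]), (0, [70, 0, 0], [[1, 1, 0, 1, 1], [1, 1, 0, 1, 1]]), (0, [], []), (0, [], []), (0, [], []), (0, [], []), (0, [72, 0, 1], [[0]]), (0, [101, 1, 1], [[0]]), (0, [106, 1, 0], [[1, 1, 1, 0, 1]]), (0, [120, 1, 0], [[2, 1, 1, 1], [2, 1, 1, 1]]), (0, [], []), (0, [], []), (0, [68, 0, 0], [[0]]), (0, [87, 1, 0], [[0]]), (0, [], []), (0, [], []), (0, [], []), (0, [], []), (0, [93, 1, 1], [[1, 1, 1, 0, 1]]), (0, [16, 0, 1], [[1, 1, 0, 1, 1], [1, 1, 0, 1, 1]]), (0, [], []), (0, [], []), (0, [81, 1, 0], [[1, 1]]), (0, [102, 1, 1], [[2, 1, 1, 1]]), (0, [81, 2, 0], [[0]]), (0, [102, 2, 1], [[0]]), (0, [], []), (0, [], []), (0, [], []), (0, [], []), (0, [23, 1, 0], [[2, 1, 1, 1], [2, 1, 1, 1]]), (0, [86, 1, 0], [[1, 1, 1, 0, 1]]), (0, [44, 3, 0], [[0]]), (0, [61, 1, 0], [[0]]), (0, [], []), (0, [], []), (0, [], []), (0, [], []), (0, [83, 1, 0], [[1, 1, 1, 0,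 1]]), (0, [122, 1, 1], [[2, 1, 1, 1], [2, 1, 1, 1]]), (0, [50, 3, 0], [[0]]), (0, [45, 3, 1], [[0]]), (0, [], []), (0, [], []), (0, [], []), (0, [], []), (0, [90, 2, 1], [[1, 1, 1, 0, 1, 0]]), (0, [10, 1, 1], [[1, 1, 0, 1, 1], [1, 1, 0, 1, 1]]), (0, [71, 0, 1], [[1, 0, 1, 0, 1, 1]]), (0, [115, 3, 1], [[1, 1, 1, 0, 1, 0]]), (0, [], []), (0, [], []), (0, [], []), (0, [], []), (0, [5, 1, 1], [[1, 1, 1, 0, 1, 0]]), (0, [11, 2, 1], [[2, 1, 1, 1], [2, 1, 1, 1, 0]]), (0, [6, 2, 0], [[2, 1, 1, 1], [2, 1, 1, 1, 0]]), (0, [12, 1, 0], [[1, 1, 1, 0, 1, 0]]), (0, [], []), (0, [], []), (0, [], []), (0, [], []), (0, [82, 1, 1], [[1, 1, 1, 0, 1]]), (0, [42, 1, 0], [[2, 1, 1, 1], [2, 1, 1, 1]]), (0, [95, 3, 1], [[0]]), (0, [26, 3, 0], [[0]]), (0, [], []), (0, [], []), (0, [], []), (0, [], []), (0, [80, 0, 1], [[0]]), (0, [63, 1, 1], [[0]]), (0, [58, 2, 0], [[1, 1, 1, 0, 1]]), (0, [39, 0, 1], [[1, 1, 0, 1, 1], [1, 1, 0, 1, 1]]), (0, [], []), (0, [], []), (0, [], []), (0, [], []), (0, [48, 3, 1], [[2, 1, 1, 1], [2,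 1, 1, 1, 0]]), (0, [51, 0, 1], [[1, 1, 1, 0, 1, 0]]), (0, [48, 3, 0], [[1, 1, 1, 0, 1, 0]]), (0, [51, 0, 0], [[2, 1, 1, 1], [2, 1, 1, 1, 0]]), (0, [], []), (0, [], []), (0, [64, 2, 0], [[1, 1, 1, 0, 1, 0]]), (0, [105, 0, 1], [[2, 2, 0, 2, 2, 2]]), (0, [], []), (0, [], []), (0, [], []), (0, [], []), (0, [69, 0, 0], [[1, 1, 1, 0, 1, 0]]), (0, [89, 3, 1], [[2, 2, 0, 2, 2, 2]]), (0, [], []), (0, [], []), (0, [4, 2, 1], [[1, 1, 1, 0, 1, 0]]), (0, [91, 0, 1], [[1, 0, 1, 0, 1, 1]]), (0, [109, 3, 0], [[1, 1, 0, 1, 1], [1, 1, 0, 1, 1]]), (0, [84, 1, 0], [[1, 1, 1, 0, 1, 0]]), (0, [], []), (0, [], []), (0, [10, 2, 1], [[1, 1, 1, 0, 1, 0]]), (0, [90, 1, 1], [[1, 0, 1, 0, 1, 1]]), (0, [], []), (0, [], []), (0, [], []), (0, [], []), (0, [71, 3, 0], [[1, 1, 1, 0, 1, 0]]), (0, [115, 0, 0], [[1, 1, 0, 1, 1], [1, 1, 0, 1, 1]]), (0, [], []), (0, [], []), (0, [101, 2, 0], [[1, 1, 1, 0, 1]]), (0, [72, 3, 1], [[2, 1, 1, 1], [2, 1, 1, 1]]), (0, [120, 2, 1], [[0]]), (0, [106, 2, 1], [[0]]), (0, [], []), (0, [], []), (0,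 [], []), (0, [], []), (0, [63, 2, 1], [[1, 1, 0, 1, 1], [1, 1, 0, 1, 1]]), (0, [80, 3, 0], [[1, 1, 1, 0, 1]]), (0, [39, 3, 0], [[0]]), (0, [58, 1, 0], [[0]]), (0, [], []), (0, [], []), (0, [], []), (0, [], []), (0, [33, 3, 1], [[1, 1, 1, 0, 1, 0]]), (0, [30, 0, 1], [[2, 1, 1, 1], [2, 1, 1, 1, 0]]), (0, [33, 3, 0], [[2, 1, 1, 1], [2, 1, 1, 1, 0]]), (0, [30, 0, 0], [[1, 1, 1, 0, 1, 0]]), (0, [], []), (0, [], []), (0, [61, 2, 0], [[1, 1, 1, 0, 1]]), (0, [44, 0, 1], [[2, 1, 1, 1], [2, 1, 1, 1]]), (0, [], []), (0, [], []), (0, [], []), (0, [], []), (0, [23, 2, 0], [[0]]), (0, [86, 2, 0], [[0]]), (0, [72, 0, 0], [[0]]), (0, [101, 1, 0], [[0]]), (0, [], []), (0, [], []), (0, [], []), (0, [], []), (0, [120, 1, 1], [[1, 1, 1, 0, 1]]), (0, [106, 1, 1], [[2, 1, 1, 1], [2, 1, 1, 1]]), (0, [], []), (0, [], []), (0, [30, 3, 1], [[2, 1, 1, 1], [2, 1, 1, 1, 0]]), (0, [33, 0, 1], [[1, 1, 1, 0, 1, 0]]), (0, [30, 3, 0], [[1, 1, 1, 0, 1, 0]]), (0, [33, 0, 0], [[2, 1, 1, 1], [2, 1, 1, 1, 0]]), (0, [], []), (0, [], []),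 (0, [], []), (0, [], []), (0, [11, 1, 0], [[2, 1, 1, 1], [2, 1, 1, 1, 0]]), (0, [5, 2, 0], [[1, 1, 1, 0, 1, 0]]), (0, [12, 2, 1], [[1, 1, 1, 0, 1, 0]]), (0, [6, 1, 1], [[2, 1, 1, 1], [2, 1, 1, 1, 0]]), (0, [], []), (0, [], []), (0, [], []), (0, [], []), (0, [113, 3, 1], [[2, 1, 1, 1], [2, 1, 1, 1, 0]]), (0, [124, 0, 0], [[1, 1, 1, 0, 1, 0]]), (0, [77, 0, 0], [[1, 1, 1, 0, 1, 0]]), (0, [67, 3, 1], [[2, 1, 1, 1], [2, 1, 1, 1, 0]]), (0, [], []), (0, [], []), (0, [], []), (0, [], []), (0, [100, 1, 0], [[1, 0, 1, 0, 1, 1]]), (0, [52, 0, 1], [[1, 1, 1, 0, 1, 0]]), (0, [28, 3, 1], [[1, 1, 1, 0, 1, 0]]), (0, [54, 1, 1], [[1, 1, 0, 1, 1], [1, 1, 0, 1, 1]]), (0, [], []), (0, [], []), (0, [], []), (0, [], []), (0, [96, 0, 1], [[0]]), (0, [79, 1, 1], [[0]]), (0, [92, 1, 0], [[1, 1, 1, 0, 1]]), (0, [114, 0, 1], [[2, 1, 1, 1], [2, 1, 1, 1]]), (0, [], []), (0, [], []), (0, [], []), (0, [], []), (0, [102, 1, 0], [[1, 1]]), (0, [81, 1, 1], [[2, 1, 1, 1]]), (0, [102, 2, 0], [[0]]), (0, [81, 2, 1], [[0]]), (0, [], []),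 (0, [], []), (0, [], []), (0, [], []), (0, [103, 1, 0], [[1, 1, 1, 0, 1]]), (0, [108, 0, 0], [[2, 1, 1, 1], [2, 1, 1, 1]]), (0, [32, 3, 0], [[0]]), (0, [27, 3, 1], [[0]]), (0, [], []), (0, [], []), (0, [], []), (0, [], []), (0, [11, 1, 1], [[1, 1, 1, 0, 1, 0]]), (0, [5, 2, 1], [[2, 1, 1, 1], [2, 1, 1, 1, 0]]), (0, [12, 2, 0], [[2, 1, 1, 1], [2, 1, 1, 1, 0]]), (0, [6, 1, 0], [[1, 1, 1, 0, 1, 0]]), (0, [], []), (0, [], []), (0, [69, 3, 0], [[1, 1, 1, 0, 1, 0]]), (0, [89, 0, 1], [[2, 2, 0, 2, 2, 2]]), (0, [], []), (0, [], []), (0, [], []), (0, [], []), (0, [64, 1, 1], [[1, 1, 1, 0, 1, 0]]), (0, [105, 3, 1], [[2, 2, 0, 2, 2, 2]]), (0, [], []), (0, [], []), (0, [79, 2, 0], [[1, 1, 1, 0, 1]]), (0, [96, 3, 1], [[2, 1, 1, 1], [2, 1, 1, 1]]), (0, [114, 3, 1], [[0]]), (0, [92, 2, 1], [[0]]), (0, [], []), (0, [], []), (0, [], []), (0, [], []), (0, [51, 3, 1], [[1, 1, 1, 0, 1, 0]]), (0, [48, 0, 1], [[2, 1, 1, 1], [2, 1, 1, 1, 0]]), (0, [51, 3, 0], [[2, 1, 1, 1], [2, 1, 1, 1, 0]]), (0, [48, 0, 0], [[1, 1, 1, 0,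 1, 0]]), (0, [], []), (0, [], []), (0, [103, 1, 1], [[2, 1, 1, 1], [2, 1, 1, 1]]), (0, [108, 0, 1], [[1, 1, 1, 0, 1]]), (0, [], []), (0, [], []), (0, [], []), (0, [], []), (0, [27, 3, 0], [[0]]), (0, [32, 3, 1], [[0]]), (0, [115, 3, 0], [[1, 0, 1, 0, 1, 1]]), (0, [71, 0, 0], [[1, 1, 1, 0, 1, 0]]), (0, [], []), (0, [], []), (0, [], []), (0, [], []), (0, [90, 2, 0], [[1, 1, 0, 1, 1], [1, 1, 0, 1, 1]]), (0, [10, 1, 0], [[1, 1, 1, 0, 1, 0]]), (0, [], []), (0, [116, 3, 1], [[1, 2, 1, 1]]), (0, [], []), (0, [], []), (0, [], []), (0, [], []), (0, [116, 0, 0], [[0]]), (0, [116, 0, 1], [[0]]), (0, [49, 2, 0], [[1, 1, 1, 0, 1, 0]]), (0, [19, 0, 1], [[1, 1, 0, 1, 1], [1, 1, 0, 1, 1]]), (0, [], []), (0, [], []), (0, [], []), (0, [], []), (0, [49, 1, 1], [[1, 1, 1, 0, 1, 0]]), (0, [19, 3, 1], [[1, 1, 0, 1, 1], [1, 1, 0, 1, 1]]), (0, [76, 3, 0], [[1, 1, 1, 0, 1]]), (0, [43, 0, 1], [[1, 1, 0, 1, 1], [1, 1, 0, 1, 1]]), (0, [], []), (0, [], []), (0, [], []), (0, [], []), (0, [75, 1, 1], [[0]]), (0, [112, 3, 1], [[0]]),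 (0, [74, 1, 1], [[1, 1, 1, 0, 1, 0]]), (0, [25, 1, 0], [[2, 1, 1, 1], [2, 1, 1, 1, 0]]), (0, [], []), (0, [], []), (0, [], []), (0, [], []), (0, [20, 1, 1], [[1, 1, 1, 0, 1, 0]]), (0, [99, 1, 0], [[2, 1, 1, 1], [2, 1, 1, 1, 0]]), (0, [72, 3, 0], [[1, 1, 1, 0, 1]]), (0, [101, 2, 1], [[2, 1, 1, 1], [2, 1, 1, 1]]), (0, [], []), (0, [], []), (0, [], []), (0, [], []), (0, [120, 2, 0], [[0]]), (0, [106, 2, 0], [[0]]), (0, [91, 3, 1], [[1, 1, 0, 1, 1], [1, 1, 0, 1, 1]]), (0, [4, 1, 0], [[1, 1, 1, 0, 1, 0]]), (0, [], []), (0, [], []), (0, [], []), (0, [], []), (0, [109, 0, 0], [[1, 0, 1, 0, 1, 1]]), (0, [84, 2, 1], [[1, 1, 1, 0, 1, 0]]), (0, [110, 3, 0], [[0]]), (0, [110, 3, 1], [[0]]), (0, [], []), (0, [], []), (0, [], []), (0, [], []), (0, [], []), (0, [110, 0, 1], [[1, 2, 1, 1]]), (0, [], []), (0, [], []), (0, [38, 2, 1], [[1, 1, 1, 0, 1, 0]]), (0, [38, 1, 1], [[2, 1, 1, 1], [2, 1, 1, 1, 0]]), (0, [55, 1, 1], [[2, 1, 1, 1], [2, 1, 1, 1, 0]]), (0, [55, 2, 1], [[1, 1, 1, 0, 1, 0]]), (0, [], []), (0, [],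 []), (0, [], []), (0, [], []), (0, [118, 1, 0], [[2, 1, 1, 1]]), (0, [118, 1, 1], [[1, 1, 1, 0, 1]]), (0, [125, 2, 0], [[0]]), (0, [125, 2, 1], [[0]]), (0, [], []), (0, [], []), (0, [], []), (0, [], []), (0, [59, 2, 1], [[2, 1, 1, 1], [2, 1, 1, 1, 0]]), (0, [59, 1, 1], [[1, 1, 1, 0, 1, 0]]), (0, [15, 2, 1], [[1, 1, 1, 0, 1, 0]]), (0, [15, 1, 1], [[2, 1, 1, 1], [2, 1, 1, 1, 0]]), (0, [], []), (0, [], []), (0, [], []), (0, [], []), (0, [79, 2, 1], [[2, 1, 1, 1], [2, 1, 1, 1]]), (0, [96, 3, 0], [[1, 1, 1, 0, 1]]), (0, [114, 3, 0], [[0]]), (0, [92, 2, 0], [[0]]), (0, [], []), (0, [], []), (0, [], []), (0, [], []), (0, [22, 1, 0], [[1, 1, 0, 1, 1], [1, 1, 0, 1, 1]]), (0, [31, 2, 0], [[1, 1, 1, 0, 1, 0]]), (0, [31, 1, 1], [[1, 1, 1, 0, 1, 0]]), (0, [22, 2, 1], [[1, 1, 0, 1, 1], [1, 1, 0, 1, 1]]), (0, [], []), (0, [], []), (0, [], []), (0, [], []), (0, [122, 1, 0], [[1, 1, 1, 0, 1]]), (0, [83, 1, 1], [[2, 1, 1, 1], [2, 1, 1, 1]]), (0, [45, 3, 0], [[0]]), (0, [50, 3, 1], [[0]]), (0, [], []), (0, [], []),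 (0, [], []), (0, [], []), (0, [66, 3, 0], [[1, 1, 1, 0, 1]]), (0, [24, 0, 1], [[1, 1, 0, 1, 1], [1, 1, 0, 1, 1]]), (0, [123, 2, 0], [[0]]), (0, [65, 0, 1], [[0]]), (0, [], []), (0, [], []), (0, [99, 1, 1], [[1, 1, 1, 0, 1, 0]]), (0, [20, 1, 0], [[2, 1, 1, 1], [2, 1, 1, 1, 0]]), (0, [], []), (0, [], []), (0, [], []), (0, [], []), (0, [25, 1, 1], [[1, 1, 1, 0, 1, 0]]), (0, [74, 1, 0], [[2, 1, 1, 1], [2, 1, 1, 1, 0]]), (0, [], []), (0, [], []), (0, [125, 1, 0], [[2, 1, 1, 1]]), (0, [125, 1, 1], [[1, 1, 1, 0, 1]]), (0, [118, 2, 0], [[0]]), (0, [118, 2, 1], [[0]]), (0, [], []), (0, [], []), (0, [22, 2, 0], [[1, 1, 1, 0, 1, 0]]), (0, [31, 1, 0], [[1, 1, 0, 1, 1], [1, 1, 0, 1, 1]]), (0, [], []), (0, [], []), (0, [], []), (0, [], []), (0, [22, 1, 1], [[1, 1, 1, 0, 1, 0]]), (0, [31, 2, 1], [[1, 1, 0, 1, 1], [1, 1, 0, 1, 1]]), (0, [], []), (0, [], []), (0, [49, 1, 0], [[1, 1, 0, 1, 1], [1, 1, 0, 1, 1]]), (0, [19, 3, 0], [[1, 1, 1, 0, 1, 0]]), (0, [19, 0, 0], [[1, 1, 1, 0, 1, 0]]), (0, [49, 2, 1], [[1, 1, 0,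 1, 1], [1, 1, 0, 1, 1]]), (0, [], []), (0, [], [])]

end CfsgLib.StdCo3.Data
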