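/-
The tests on the certificates for the double cover of Sp(6,2).
-/
import Cfsg.Agent.Lib.Co3Recog.DefsX
import Cfsg.Agent.Lib.Co3Recog.DataA
import Cfsg.Agent.Lib.StdCo3.Data

set_option autoImplicit false

namespace CfsgLib.StdCo3.Data

open CfsgPC CfsgLib.Co3Recog.Base CfsgLib.Co3Recog.Data

/-- The function of an index list in the Sylow table. -/
def sv (ix : List ℕ) : ℕ → ℕ := evalT sChain ix

/-- The function of representative `c`. -/
def rf (c : ℕ) : ℕ → ℕ := sv (repIx.getD c [])

/-- The function of exceptional element `j`. -/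
def ef (j : ℕ) : ℕ → ℕ := sv (excIx.getD j [])

/-- The least orbit length of a representative under the Sylow subgroup. -/
def minOrb (c : ℕ) : ℕ := if Nat.beq c 1 then 8 else 2

/-- The element centralising representative `c` given by a word. -/
def cw (c : ℕ) (w : List ℕ) : ℕ → ℕ := apW (cenGens.getD c []) w

/-- Its inverse. -/
def cwi (c : ℕ) (w : List ℕ) : ℕ → ℕ := apW (cenInv.getD c []) w.reverse

/-- The product of the commutators of `y` with the given words. -/
def commF (c : ℕ) (y yi : ℕ → ℕ) : List (List ℕ) → ℕ → ℕ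
  | [], b => b
  | w :: ws, b => y (cw c w (yi (cwi c w (commF c y yi ws b))))

/-- The target of a witness. -/
def tgt (c : ℕ) : ℕ → ℕ → ℕ
  | 0, b => ap zC.1 b
  | 1, b => rf c b
  | _, b => rf c (ap zC.1 b)

/-- One entry of a scan. -/
def scanB (c : ℕ) (p : List ℕ × (ℕ × List ℕ × List (List ℕ))) : Bool :=
  let y := sv p.1
  !(eqB xBases (fun b => rf c (y b)) fun b => y (rf c b)) ||
    (eqB xBases y id || eqB xBases y (ap zC.1) || eqB xBases y (rf c) ||
      eqB xBases y fun b => rf c (ap zC.1 b)) ||
    (((allIdx sChain).contains p.2.2.1) && eqB xBases (fun b => y (sv p.2.2.1 b)) id &&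
      p.2.2.2.all (ltB (cenGens.getD c []).length) &&
      eqB xBases (commF c y (sv p.2.2.1) p.2.2.2) (tgt c p.2.1) &&
      (Nat.beq p.2.1 0 || (Nat.beq c 0 && (List.range excIx.length).any fun j => eqB xBases y (ef j))))

/-- Conjugate of a function by a word in the generators of the Sylow subgroup. -/
def sconj (w : List ℕ) (f : ℕ → ℕ) (b : ℕ) : ℕ := apW sGens w (f (apW sInv w.reverse b))

/-- The class of one element of the Sylow subgroup. -/
def clsB (p : List ℕ × (ℕ × List ℕ × List (List ℕ))) : Bool :=
  let e := sv p.1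
  !(eqB xBases (fun b => e (e b)) id || eqB xBases (fun b => e (e b)) (ap zC.1)) ||
    eqB xBases e id || eqB xBases e (ap zC.1) ||
    (Nat.blt p.2.1 4 && ltB 6 p.2.2.1 &&
      eqB xBases (fun b => apW xGens p.2.2.1 (e (apW xGens p.2.2.1.reverse b))) (rf p.2.1) &&
      Nat.beq p.2.2.2.length (minOrb p.2.1) && p.2.2.2.all (ltB sGens.length) &&
      nodupB (p.2.2.2.map fun w => keyB xBases (sconj w e)))

/-- The orbit of representative `c` under the Sylow subgroup is closed. -/
def orbB (c : ℕ) : Bool :=
  let O := repOrb.getD c []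
  Nat.beq O.length (minOrb c) && Nat.beq (O.getD 0 [0]).length 0 && O.all (ltB sGens.length) &&
    O.all fun w => (List.range sGens.length).all fun a =>
      (O.any fun w' => eqB xBases (fun b => ap (sGens.getD a 0) (sconj w (rf c) (ap (sInv.getD a 0) b)))
        (sconj w' (rf c))) &&
      O.any fun w' => eqB xBases (fun b => ap (sInv.getD a 0) (sconj w (rf c) (ap (sGens.getD a 0) b)))
        (sconj w' (rf c))

/-- The exceptional elements are permuted by the centraliser of the first representative. -/
def excB : Bool :=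
  (List.range dGens.length).all fun a => (List.range excIx.length).all fun j =>
    ((List.range excIx.length).any fun k =>
      eqB xBases (fun b => ap (dGens.getD a 0) (ef j (ap (dInv.getD a 0) b))) (ef k)) &&
    (List.range excIx.length).any fun k =>
      eqB xBases (fun b => ap (dInv.getD a 0) (ef j (ap (dGens.getD a 0) b))) (ef k)

/-- The code of entry `i` of the subgroup of order 9. -/
def q9c (i : ℕ) : ℕ := qElems.getD i 0

/-- The subgroup of order 9. -/
def q9B : Bool :=
  nodupB ((List.range 9).map fun i => keyB xBases (ap (q9c i))) &&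
    eqB xBases (ap (q9c 0)) id &&
    ((List.range 9).all fun i => (List.range 9).all fun j => Nat.blt (qTab.getD (9 * i + j) 9) 9 &&
      eqB xBases (fun b => ap (q9c i) (ap (q9c j) b)) (ap (q9c (qTab.getD (9 * i + j) 9)))) &&
    ((List.range 9).all fun i => eqB xBases (fun b => rf 0 (ap (q9c i) b)) fun b => ap (q9c i) (rf 0 b)) &&
    ((List.range excIx.length).all fun j => (List.range 9).any fun i =>
      !eqB xBases (fun b => ef j (ap (q9c i) b)) fun b => ap (q9c i) (ef j b)) &&
    (List.range 9).all fun i => Nat.beq i 0 || ((qWit.getD i []).all (ltB (cenGens.getD 0 []).length) &&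
      eqB xBases (commF 0 (ap (q9c i)) (ap (qInv.getD i 0)) (qWit.getD i [])) (ap zC.1))

end CfsgLib.StdCo3.Data
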