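/-
Kernel checks on the certificates for the double cover of Sp(6,2).
-/
import Cfsg.Agent.Lib.StdCo3.Defs

set_option autoImplicit false
set_option maxRecDepth 200000
set_option maxHeartbeats 4000000

namespace CfsgLib.StdCo3.Data

open CfsgPC CfsgLib.Co3Recog.Base CfsgLib.Co3Recog.Data

theorem rep_mem : ((List.range 4).all fun c => (allIdx sChain).contains (repIx.getD c [])) = true ∧
    (excIx.all fun ix => (allIdx sChain).contains ix) = true := by decide +kernel

theorem rep_facts : eqB xBases (rf 0) (ap sC.1) = true ∧ fixCount 276 (rf 1) = 12 ∧
    ((List.range 4).all fun c => (!eqB xBases (rf c) id) && (!eqB xBases (rf c) (ap zC.1)) &&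
      (Nat.blt c 2 == eqB xBases (fun b => rf c (rf c b)) id) &&
      (Nat.blt c 2 || eqB xBases (fun b => rf c (rf c b)) (ap zC.1))) = true := by decide +kernel

theorem cen_facts : ((List.range 4).all fun c => permsB 339 (cenGens.getD c []) (cenInv.getD c []) &&
    siftsB 339 xChain (cenGens.getD c []) &&
    (cenGens.getD c []).all fun g => eqB xBases (fun b => ap g (rf c b)) fun b => rf c (ap g b)) = true := by
  decide +kernel

theorem q_facts : permsB 339 qElems qInv = true ∧ siftsB 339 xChain qElems = true ∧ qElems.length = 9 ∧
    q9B = true := by decide +kernel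

theorem exc_closed : excB = true := by decide +kernel

theorem orb_facts : (List.range 4).all orbB = true := by decide +kernel

theorem cls_len : clsCert.length = (allIdx sChain).length := by decide +kernel

theorem cls_ok : ((allIdx sChain).zip clsCert).all clsB = true := by decide +kernel

theorem scan0_ok : scan0.length = (allIdx sChain).length ∧ ((allIdx sChain).zip scan0).all (scanB 0) = true := by
  decide +kernel

theorem scan1_ok : scan1.length = (allIdx sChain).length ∧ ((allIdx sChain).zip scan1).all (scanB 1) = true := by
  decide +kernel

theorem scan2_ok : scan2.length = (allIdx sChain).length ∧ ((allIdx sChain).zip scan2).all (scanB 2) = true := by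
  decide +kernel

theorem scan3_ok : scan3.length = (allIdx sChain).length ∧ ((allIdx sChain).zip scan3).all (scanB 3) = true := by
  decide +kernel

end CfsgLib.StdCo3.Data
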