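/-
The double cover of Sp(6,2): elements of 2-power order commuting with an involution modulo the centre, all
whose commutators with the centraliser of that involution avoid the centre.
-/
import Cfsg.Agent.Lib.Co3Recog.Fusion
import Cfsg.Agent.Lib.StdCo3.Checks

set_option autoImplicit false
set_option linter.unusedSectionVars false
set_option linter.style.haveILetI false
set_option maxRecDepth 30000
set_option maxHeartbeats 1000000

namespace CfsgLib.StdCo3.Model

open Equiv Subgroup CfsgPC CfsgLib.Co3Recog CfsgLib.Co3Recog.Base CfsgLib.Co3Recog.Data CfsgLib.StdCo3.Data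
open CfsgLib.Co3Recog.X (Grp Fx eqX neX syl z s)
open scoped commutatorElement

attribute [local irreducible] xGens xInv xChain sGens sInv sChain zC sC repIx repOrb excIx cenGens cenInv qElems
  qInv qTab qWit clsCert scan0 scan1 scan2 scan3 dGens dInv dChain qsList

/-- An index list gives a product of the table. -/
theorem idx_elem {n : ℕ} (hn : n ≤ 512) : ∀ {ls : List Level} {gens : List ℕ}, TableOK n ls gens → Valid n gens →
    ∀ ix ∈ allIdx ls, ∃ g ∈ prodSet n ls, ∀ i : Fin n, evalT ls ix i = (g i : ℕ) := by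
  intro ls gens h
  induction h with
  | nil gens =>
    intro _ ix _
    exact ⟨1, rfl, fun i => by cases ix <;> rfl⟩
  | @cons L ls gens hb hlen hent hsel _ ih =>
    intro hv ix hix
    simp only [allIdx, List.mem_flatMap, List.mem_range, List.mem_map] at hix
    obtain ⟨k, hk, ks, hks, rfl⟩ := hix
    obtain ⟨hnv, -⟩ := level_next hn hv hb hent hsel
    obtain ⟨g, hg, he⟩ := ih hnv ks hks
    obtain ⟨T, -, hT, -⟩ := level_entry hv hb hent k hk
    exact ⟨T * g, ⟨k, hk, T, hT, g, hg, rfl⟩, fun i => by rw [evalT, he, hT]; rfl⟩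

/-- A word and its inverse. -/
theorem wd_spec {cs is : List ℕ} (h : permsB 339 cs is = true) (hle : genG 339 cs ≤ Grp) {w : List ℕ}
    (hw : ltB cs.length w = true) :
    ∃ g : Grp, (g : Perm (Fin 339)) ∈ genG 339 cs ∧ Fx (apW cs w) g ∧ Fx (apW is w.reverse) g⁻¹ := by
  refine ⟨⟨wd 339 cs w, hle (wd_mem h hw)⟩, wd_mem h hw, fun i => rep_wd h hw i, fun i => ?_⟩
  show apW is w.reverse i = (((wd 339 cs w)⁻¹) i : ℕ)
  rw [wd, List.prod_inv_reverse, List.map_map, ← List.map_reverse]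
  refine rep_apW (g := fun a => (el 339 cs a)⁻¹) _ (fun a ha => rep_el_inv (by norm_num) h ?_) i
  have := List.all_eq_true.mp hw a (List.mem_reverse.mp ha)
  rwa [Nat.blt_eq] at this

theorem s_le : genG 339 sGens ≤ Grp := genG_le x_perm.2.2.2.2.2.2.2.1 fun a ha =>
  mem_table (by norm_num) X.table X.valid x_perm.2.2.2.2.2.2.2.1 x_sift.2.1 ha

/-! ### Named elements -/

theorem idx_syl {ix : List ℕ} (h : ix ∈ allIdx sChain) : ∃ e ∈ syl, Fx (sv ix) e := by
  obtain ⟨g, hg, he⟩ := idx_elem (n := 339) (by norm_num) (table_of s_table_low.1)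
    (valid_of_perms x_perm.2.2.2.2.2.2.2.1) ix h
  rw [X.syl_facts.2] at hg
  exact ⟨⟨g, s_le hg⟩, hg, he⟩

open Classical in
/-- The element of an index list. -/
noncomputable def se (ix : List ℕ) : Grp := if h : ∃ e ∈ syl, Fx (sv ix) e then h.choose else 1

theorem se_spec {ix : List ℕ} (h : ix ∈ allIdx sChain) : se ix ∈ syl ∧ Fx (sv ix) (se ix) := by
  rw [se, dif_pos (idx_syl h)]
  exact (idx_syl h).choose_spec

/-- Representative `c`. -/
noncomputable def R (c : ℕ) : Grp := se (repIx.getD c [])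

theorem R_spec {c : ℕ} (hc : c < 4) : R c ∈ syl ∧ Fx (rf c) (R c) :=
  se_spec (List.contains_iff_mem.mp (List.all_eq_true.mp rep_mem.1 c (List.mem_range.mpr hc)))

/-- Exceptional element `j`. -/
noncomputable def X₀ (j : ℕ) : Grp := se (excIx.getD j [])

theorem X₀_spec {j : ℕ} (hj : j < excIx.length) : Fx (ef j) (X₀ j) := by
  refine (se_spec (List.contains_iff_mem.mp (List.all_eq_true.mp rep_mem.2 _ ?_))).2
  rw [List.getD_eq_getElem _ _ hj]
  exact List.getElem_mem _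

theorem R_zero : R 0 = s := eqX rep_facts.1 (R_spec (by norm_num)).2 X.s_spec

theorem R_sq {c : ℕ} (hc : c < 4) : (R c * R c = 1 ↔ c < 2) ∧ (2 ≤ c → R c * R c = z) := by
  have h := List.all_eq_true.mp rep_facts.2.2 c (List.mem_range.mpr hc)
  simp only [Bool.and_eq_true, Bool.or_eq_true, beq_iff_eq, Nat.blt_eq] at h
  have hF := (R_spec hc).2
  refine ⟨⟨fun e => ?_, fun e => eqX (h.1.2 ▸ Nat.blt_eq.mpr e) (hF.mul hF) Fx.one⟩, fun e => ?_⟩
  · have := (X.eqB_iff (hF.mul hF) Fx.one).mpr e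
    rw [← h.1.2, Nat.blt_eq] at this
    exact this
  · exact eqX (h.2.resolve_left (by omega)) (hF.mul hF) X.z_spec

theorem z_comm (g : Grp) : Commute z g := by
  obtain ⟨σ, hσ, -, hzk⟩ := X.exists_proj
  exact (mem_center_iff.mp (hσ.2.1 hzk) g).symm

/-! ### Counting conjugates under the Sylow subgroup -/

/-- The centraliser in the Sylow subgroup. -/
noncomputable def Cs (e : Grp) : Subgroup Grp := syl ⊓ centralizer ({e} : Set Grp)

theorem sconj_spec {w : List ℕ} (hw : ltB sGens.length w = true) :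
    ∃ g ∈ syl, ∀ {f : ℕ → ℕ} {e : Grp}, Fx f e → Fx (sconj w f) (g * e * g⁻¹) := by
  obtain ⟨g, hg, hF, hI⟩ := wd_spec x_perm.2.2.2.2.2.2.2.1 s_le hw
  exact ⟨g, hg, fun {f e} hf => by
    have := hF.mul (hf.mul hI)
    rw [← mul_assoc] at this
    exact this⟩

theorem card_Cs_le {f : ℕ → ℕ} {e : Grp} (hf : Fx f e) {ws : List (List ℕ)}
    (hw : ws.all (ltB sGens.length) = true) (hd : nodupB (ws.map fun w => keyB xBases (sconj w f)) = true) :
    Nat.card (Cs e) * ws.length ≤ 1024 := by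
  have hnd := nodup_of_nodupB hd
  choose g hgS hgF using fun i : Fin ws.length => sconj_spec (List.all_eq_true.mp hw _ (List.getElem_mem i.2))
  let F : Cs e × Fin ws.length → syl := fun p => ⟨g p.2 * p.1, mul_mem (hgS _) p.1.2.1⟩
  have hF : Function.Injective F := by
    rintro ⟨⟨c, hc⟩, i⟩ ⟨⟨d, hd'⟩, j⟩ he
    have e' : g i * c = g j * d := congrArg Subtype.val he
    have hconj : ∀ (k : Fin ws.length) (c : Grp), c * e = e * c →
        g k * c * e * (g k * c)⁻¹ = g k * e * (g k)⁻¹ := fun k c hc => by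
      rw [mul_assoc (g k) c e, hc]; group
    have hij : i = j := by
      refine Fin.ext ((hnd.getElem_inj_iff (hi := by simp) (hj := by simp)).mp ?_)
      simp only [List.getElem_map]
      refine keyB_congr fun b hb => ?_
      have h1 := hgF i hf ⟨b, X.bases_lt' b hb⟩
      have h2 := hgF j hf ⟨b, X.bases_lt' b hb⟩
      rw [← hconj i c (mem_centralizer_singleton_iff.mp hc.2), e',
        hconj j d (mem_centralizer_singleton_iff.mp hd'.2)] at h1
      exact h1.trans h2.symm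
    subst hij
    exact Prod.ext (Subtype.ext (mul_left_cancel e')) rfl
  have := Nat.card_le_card_of_injective F hF
  rwa [Nat.card_prod, Nat.card_fin, X.syl_facts.1] at this

/-- A set closed under conjugation by generators and their inverses is closed under the group. -/
theorem invariant {G : Type*} [Group G] {T : Set G} {O : Set G}
    (h : ∀ t ∈ T, (∀ x ∈ O, t * x * t⁻¹ ∈ O) ∧ ∀ x ∈ O, t⁻¹ * x * t ∈ O) {g : G} (hg : g ∈ closure T) :
    ∀ x ∈ O, g * x * g⁻¹ ∈ O := by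
  refine (?_ : (∀ x ∈ O, g * x * g⁻¹ ∈ O) ∧ ∀ x ∈ O, g⁻¹ * x * g ∈ O).1
  induction hg using closure_induction with
  | mem t ht => exact h t ht
  | one => exact ⟨fun x hx => by simpa using hx, fun x hx => by simpa using hx⟩
  | mul a b _ _ ha hb =>
    refine ⟨fun x hx => ?_, fun x hx => ?_⟩
    · rw [show a * b * x * (a * b)⁻¹ = a * (b * x * b⁻¹) * a⁻¹ by group]
      exact ha.1 _ (hb.1 x hx)
    · rw [show (a * b)⁻¹ * x * (a * b) = b⁻¹ * (a⁻¹ * x * a) * b by group]
      exact hb.2 _ (ha.2 x hx)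
  | inv a _ ha =>
    exact ⟨fun x hx => by rw [inv_inv]; exact ha.2 x hx, fun x hx => by rw [inv_inv]; exact ha.1 x hx⟩

theorem card_Cs_R {c : ℕ} (hc : c < 4) : 1024 ≤ Nat.card (Cs (R c)) * minOrb c := by
  classical
  have hO := List.all_eq_true.mp orb_facts c (List.mem_range.mpr hc)
  simp only [orbB, Bool.and_eq_true, List.all_eq_true] at hO
  obtain ⟨⟨⟨hlen, h0⟩, hw⟩, hstep⟩ := hO
  replace hlen := Nat.eq_of_beq_eq_true hlen
  replace h0 := List.eq_nil_of_length_eq_zero (Nat.eq_of_beq_eq_true h0)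
  set O := repOrb.getD c []
  have hF := (R_spec hc).2
  choose g hgS hgF using fun i : Fin O.length => sconj_spec (hw _ (List.getElem_mem i.2))
  let T : Set (Perm (Fin 339)) := {p | ∃ a ∈ sGens, Rep 339 a p}
  let S : Set (Perm (Fin 339)) := {x | ∃ i, x = ((g i * R c * (g i)⁻¹ : Grp) : Perm (Fin 339))}
  have hp := x_perm.2.2.2.2.2.2.2.1
  have hT : ∀ t ∈ T, (∀ x ∈ S, t * x * t⁻¹ ∈ S) ∧ ∀ x ∈ S, t⁻¹ * x * t ∈ S := by
    rintro t ⟨a, ha, hta⟩
    obtain ⟨k, hk, rfl⟩ := List.getElem_of_mem ha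
    rw [← List.getD_eq_getElem _ 0 hk] at hta
    have hti : Rep 339 (sInv.getD k 0) t⁻¹ := by
      rw [hta.unique (rep_el hp hk)]
      exact rep_el_inv (by norm_num) hp hk
    have htm : t ∈ Grp := s_le (Valid.mem (by rw [List.getD_eq_getElem _ _ hk]; exact List.getElem_mem _) hta)
    have key : ∀ (i : Fin O.length) (u ui : ℕ) (t' : Grp), Fx (ap u) t' → Fx (ap ui) t'⁻¹ →
        (∃ w' ∈ O, eqB xBases (fun b => ap u (sconj O[i] (rf c) (ap ui b))) (sconj w' (rf c)) = true) →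
        ((t' * (g i * R c * (g i)⁻¹) * t'⁻¹ : Grp) : Perm (Fin 339)) ∈ S := by
      rintro i u ui t' hu hui ⟨w', hw', e⟩
      obtain ⟨j, hj, rfl⟩ := List.getElem_of_mem hw'
      refine ⟨⟨j, hj⟩, congrArg Subtype.val ?_⟩
      have h1 := hu.mul ((hgF i hF).mul hui)
      rw [← mul_assoc] at h1
      exact eqX e h1 (hgF ⟨j, hj⟩ hF)
    have hi : ∀ i : Fin O.length, (O.any fun w' => eqB xBases
        (fun b => ap (sGens.getD k 0) (sconj O[i] (rf c) (ap (sInv.getD k 0) b))) (sconj w' (rf c))) = true ∧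
        (O.any fun w' => eqB xBases
        (fun b => ap (sInv.getD k 0) (sconj O[i] (rf c) (ap (sGens.getD k 0) b))) (sconj w' (rf c))) = true :=
      fun i => hstep _ (List.getElem_mem i.2) k (List.mem_range.mpr hk)
    refine ⟨?_, ?_⟩
    · rintro x ⟨i, rfl⟩
      exact key i _ _ ⟨t, htm⟩ hta hti (List.any_eq_true.mp (hi i).1)
    · rintro x ⟨i, rfl⟩
      have := key i _ _ (⟨t, htm⟩ : Grp)⁻¹ hti (by rw [inv_inv]; exact hta) (List.any_eq_true.mp (hi i).2)
      simpa using this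
  have hpos : 0 < O.length := by rw [hlen, minOrb]; split <;> norm_num
  have hR : ((R c : Grp) : Perm (Fin 339)) ∈ S := by
    refine ⟨⟨0, hpos⟩, congrArg Subtype.val (eqX ?_ hF (hgF ⟨0, hpos⟩ hF))⟩
    have e0 : O[0] = [] := by rw [← List.getD_eq_getElem _ [0] hpos]; exact h0
    simp [eqB, sconj, apW, e0]
  have horb : ∀ h : syl, ∃ i, (h : Grp) * R c * (h : Grp)⁻¹ = g i * R c * (g i)⁻¹ := fun h => by
    obtain ⟨i, hi⟩ := invariant hT (g := ((h : Grp) : Perm (Fin 339))) h.2 _ hR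
    exact ⟨i, Subtype.ext hi⟩
  choose idx hidx using horb
  let F : syl → Cs (R c) × Fin O.length := fun h => ⟨⟨(g (idx h))⁻¹ * h, syl.mul_mem (syl.inv_mem (hgS _)) h.2,
    mem_centralizer_singleton_iff.mpr (by
      rw [mul_assoc, show (h : Grp) * R c = g (idx h) * R c * (g (idx h))⁻¹ * h by rw [← hidx h]; group]
      group)⟩, idx h⟩
  have hFi : Function.Injective F := by
    intro h h' e
    obtain ⟨e1, e2⟩ := Prod.ext_iff.mp e
    have e3 : (g (idx h))⁻¹ * (h : Grp) = (g (idx h'))⁻¹ * h' := congrArg Subtype.val e1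
    replace e2 : idx h = idx h' := e2
    rw [e2] at e3
    exact Subtype.ext (mul_left_cancel e3)
  have := Nat.card_le_card_of_injective F hFi
  rwa [Nat.card_prod, Nat.card_fin, X.syl_facts.1, hlen] at this

/-! ### Classes -/

theorem syl_cls {e : Grp} (he : e ∈ syl) (h2 : e * e = 1 ∨ e * e = z) (h1 : e ≠ 1) (hz : e ≠ z) :
    ∃ c < 4, IsConj (R c) e ∧ Nat.card (Cs e) * minOrb c ≤ 1024 := by
  obtain ⟨ix, cert, hB, hF⟩ := scan_idx (n := 339) cls_len cls_ok
    (show (e : Perm (Fin 339)) ∈ prodSet 339 sChain by rw [X.syl_facts.2]; exact he)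
  simp only [clsB, Bool.or_eq_true, Bool.not_eq_true', Bool.or_eq_false_iff, Bool.and_eq_true, Nat.blt_eq] at hB
  replace hF : Fx (sv ix) e := hF
  rcases hB with ((h | h) | h) | ⟨⟨⟨⟨⟨hc, hw⟩, hconj⟩, hlen⟩, hws⟩, hnd⟩
  · rcases h2 with e2 | e2
    · exact absurd e2 (neX h.1 (hF.mul hF) Fx.one)
    · exact absurd e2 (neX h.2 (hF.mul hF) X.z_spec)
  · exact absurd (eqX h hF Fx.one) h1
  · exact absurd (eqX h hF X.z_spec) hz
  have hl : ltB xGens.length cert.2.1 = true := X.gens_len.symm ▸ hw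
  refine ⟨cert.1, hc, (IsConj.symm (isConj_iff.mpr ⟨⟨wd 339 xGens cert.2.1, wd_mem x_perm.1 hl⟩,
    eqX hconj (show Fx _ _ from Fn.conj (by norm_num) X.perms_self hl hF) (R_spec hc).2⟩)), ?_⟩
  have := card_Cs_le hF hws hnd
  rwa [Nat.eq_of_beq_eq_true hlen] at this

theorem classify {a : Grp} (h2 : a * a = 1 ∨ a * a = z) (h1 : a ≠ 1) (hz : a ≠ z) :
    ∃ c < 4, IsConj (R c) a := by
  have h4 : a ^ 2 ^ 2 = 1 := by
    rw [show (2 : ℕ) ^ 2 = 2 + 2 from rfl, pow_add, pow_two]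
    rcases h2 with e | e <;> rw [e]
    · exact one_mul 1
    · exact X.basic.2.1
  obtain ⟨g, hg⟩ := X.two_conj_syl h4
  have hsq : g * a * g⁻¹ * (g * a * g⁻¹) = g * (a * a) * g⁻¹ := by group
  obtain ⟨c, hc, hcc, -⟩ := syl_cls hg
    (h2.imp (fun e => by rw [hsq, e]; group) fun e => by rw [hsq, e, ← (z_comm g).eq]; group)
    (fun e => h1 (conj_eq_one_iff.mp e)) (fun e => hz (by
      rw [show a = g⁻¹ * (g * a * g⁻¹) * g by group, e, mul_assoc, (z_comm g).eq, inv_mul_cancel_left]))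
  exact ⟨c, hc, hcc.trans (isConj_iff.mpr ⟨g⁻¹, by group⟩)⟩

/-- Elements of 2-power order centralising a representative move into the Sylow subgroup. -/
theorem into_syl {c : ℕ} (hc : c < 4) {y : Grp} (hy : Commute y (R c)) {k : ℕ} (hk : y ^ 2 ^ k = 1) :
    ∃ d, Commute d (R c) ∧ d * y * d⁻¹ ∈ syl := by
  haveI : Fact (Nat.Prime 2) := ⟨Nat.prime_two⟩
  set C := centralizer ({R c} : Set Grp) with hC
  have hP0 : IsPGroup 2 (syl.subgroupOf C) := X.syl_isPGroup.comap_subtype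
  obtain ⟨Q0, hQ0⟩ := hP0.exists_le_sylow
  have hindex : ¬ 2 ∣ syl.index := by
    have h := syl.card_mul_index
    rw [X.closed.2, X.syl_facts.1] at h
    omega
  let P : Sylow 2 Grp := X.syl_isPGroup.toSylow hindex
  obtain ⟨Q, hQ⟩ := (Q0.2.map C.subtype).exists_le_sylow
  obtain ⟨g, hg⟩ := MulAction.exists_smul_eq Grp Q P
  have hin : ∀ q ∈ (Q0 : Subgroup C), g * (q : Grp) * g⁻¹ ∈ syl := fun q hq => by
    have : g * (q : Grp) * g⁻¹ ∈ ((g • Q : Sylow 2 Grp) : Subgroup Grp) :=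
      ⟨q, hQ ⟨q, hq, rfl⟩, rfl⟩
    rw [hg] at this
    exact this
  have hRC : R c ∈ C := mem_centralizer_singleton_iff.mpr rfl
  set e := g * R c * g⁻¹ with he
  have heS : e ∈ syl := hin ⟨R c, hRC⟩ (hQ0 (R_spec hc).1)
  have hle : Nat.card (Q0 : Subgroup C) ≤ Nat.card (Cs e) := by
    refine Nat.card_le_card_of_injective (fun q => ⟨g * ((q : C) : Grp) * g⁻¹, hin _ q.2,
      mem_centralizer_singleton_iff.mpr ?_⟩) fun q q' h => ?_
    · rw [he, show g * ((q : C) : Grp) * g⁻¹ * (g * R c * g⁻¹) = g * (((q : C) : Grp) * R c) * g⁻¹ by group,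
        mem_centralizer_singleton_iff.mp (q : C).2]
      group
    · exact Subtype.ext (Subtype.ext (mul_left_cancel (mul_right_cancel (congrArg Subtype.val h))))
  have hfacts := List.all_eq_true.mp rep_facts.2.2 c (List.mem_range.mpr hc)
  simp only [Bool.and_eq_true, Bool.not_eq_true'] at hfacts
  have hR1 : R c ≠ 1 := neX hfacts.1.1.1 (R_spec hc).2 Fx.one
  have hRz : R c ≠ z := neX hfacts.1.1.2 (R_spec hc).2 X.z_spec
  have hconj : IsConj (R c) e := isConj_iff.mpr ⟨g, rfl⟩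
  have hee : e * e = g * (R c * R c) * g⁻¹ := by rw [he]; group
  have he2 : e * e = 1 ∨ e * e = z := by
    by_cases h : c < 2
    · left; rw [hee, (R_sq hc).1.mpr h]; group
    · right; rw [hee, (R_sq hc).2 (by omega), ← (z_comm g).eq]; group
  obtain ⟨c', hc', hcc', hbound⟩ := syl_cls heS he2 (fun h => hR1 (conj_eq_one_iff.mp h))
    (fun h => hRz (by
      rw [show R c = g⁻¹ * e * g by rw [he]; group, h, mul_assoc, (z_comm g).eq, inv_mul_cancel_left]))
  have hm : minOrb c ≤ minOrb c' := by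
    by_cases h1 : c = 1
    · subst h1
      have hcc : IsConj (R c') (R 1) := hcc'.trans hconj.symm
      have hn : X.num (R c') = X.num (R 1) := (X.num_conj hcc).symm
      have h' : c' = 1 := by
        by_contra hne
        rcases Nat.lt_or_ge c' 2 with h | h
        · obtain rfl : c' = 0 := by omega
          rw [R_zero, X.num_named.2.2, ← X.num_eq (R_spec hc).2, rep_facts.2.1] at hn
          omega
        · obtain ⟨d, hd⟩ := isConj_iff.mp hcc
          have e1 := (R_sq hc).1.mpr (by norm_num)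
          rw [← hd, show d * R c' * d⁻¹ * (d * R c' * d⁻¹) = d * (R c' * R c') * d⁻¹ by group,
            (R_sq hc').2 h, conj_eq_one_iff] at e1
          exact X.basic.1 e1
      rw [h']
    · have : minOrb c = 2 := by
        rw [minOrb, if_neg]
        exact fun h => h1 (Nat.eq_of_beq_eq_true h)
      rw [this, minOrb]
      split <;> norm_num
  have hcard : Nat.card (syl.subgroupOf C) = Nat.card (Cs (R c)) := by
    refine Nat.card_congr ⟨fun q => ⟨((q : C) : Grp), q.2, (q : C).2⟩, fun q => ⟨⟨(q : Grp), q.2.2⟩, q.2.1⟩,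
      fun q => rfl, fun q => rfl⟩
  have hpos : 0 < minOrb c := by rw [minOrb]; split <;> norm_num
  have hge : Nat.card (Q0 : Subgroup C) ≤ Nat.card (syl.subgroupOf C) := by
    refine Nat.le_of_mul_le_mul_right ?_ hpos
    rw [hcard]
    exact ((Nat.mul_le_mul hle hm).trans hbound).trans (card_Cs_R hc)
  have hQeq : syl.subgroupOf C = (Q0 : Subgroup C) := eq_of_le_of_card_ge hQ0 hge
  let y' : C := ⟨y, mem_centralizer_singleton_iff.mpr hy.eq⟩
  have hyp : IsPGroup 2 (zpowers y') := IsPGroup.of_card (n := Nat.log 2 (orderOf y')) (by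
    obtain ⟨j, -, hj⟩ := (Nat.dvd_prime_pow Nat.prime_two).mp (orderOf_dvd_of_pow_eq_one
      (show y' ^ 2 ^ k = 1 from Subtype.ext (by simpa [y'] using hk)))
    rw [Nat.card_zpowers, hj, Nat.log_pow (by norm_num)])
  obtain ⟨Q1, hQ1⟩ := hyp.exists_le_sylow
  obtain ⟨d, hd⟩ := MulAction.exists_smul_eq C Q1 Q0
  refine ⟨d, mem_centralizer_singleton_iff.mp d.2, ?_⟩
  have : d * y' * d⁻¹ ∈ ((d • Q1 : Sylow 2 C) : Subgroup C) := ⟨y', hQ1 (mem_zpowers y'), rfl⟩
  rw [hd, ← hQeq, mem_subgroupOf] at this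
  exact this

/-! ### The scans -/

/-- All commutators of `y` with the centraliser of `a` lie in `N`. -/
def Cond (a y : Grp) (N : Subgroup Grp) : Prop := ∀ c, Commute c a → ⁅y, c⁆ ∈ N

/-- The centraliser of `a` normalises `N`. -/
def Norm (a : Grp) (N : Subgroup Grp) : Prop := ∀ c, Commute c a → ∀ n ∈ N, c * n * c⁻¹ ∈ N

theorem Cond.conj {a y : Grp} {N : Subgroup Grp} (hN : Norm a N) (h : Cond a y N) {d : Grp} (hd : Commute d a) :
    Cond a (d * y * d⁻¹) N := fun c hc => by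
  have h' : Commute (d⁻¹ * c * d) a := (hd.inv_left.mul_left hc).mul_left hd
  rw [show ⁅d * y * d⁻¹, c⁆ = d * ⁅y, d⁻¹ * c * d⁆ * d⁻¹ by
    simp only [commutatorElement_def]; group]
  exact hN d hd _ (h _ h')

theorem cw_spec {c : ℕ} (hc : c < 4) {w : List ℕ} (hw : ltB (cenGens.getD c []).length w = true) :
    ∃ v : Grp, Commute v (R c) ∧ Fx (cw c w) v ∧ Fx (cwi c w) v⁻¹ := by
  have h := List.all_eq_true.mp cen_facts c (List.mem_range.mpr hc)
  simp only [Bool.and_eq_true, List.all_eq_true] at h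
  obtain ⟨⟨hp, hs⟩, hcom⟩ := h
  have hle : genG 339 (cenGens.getD c []) ≤ Grp :=
    genG_le hp fun a ha => mem_table (by norm_num) X.table X.valid hp hs ha
  obtain ⟨v, hv, hF, hI⟩ := wd_spec hp hle hw
  refine ⟨v, ?_, hF, hI⟩
  have hcl : ((R c : Grp) : Perm (Fin 339)) ∈ centralizer ((genG 339 (cenGens.getD c []) : Subgroup _) : Set _) := by
    rw [genG, centralizer_closure, mem_centralizer_iff]
    rintro p ⟨a, ha, hpa⟩
    exact congrArg Subtype.val (eqX (hcom a ha)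
      ((show Fx (ap a) ⟨p, hle (Valid.mem ha hpa)⟩ from hpa).mul (R_spec hc).2)
      ((R_spec hc).2.mul (show Fx (ap a) ⟨p, hle (Valid.mem ha hpa)⟩ from hpa)))
  exact Subtype.ext (mem_centralizer_iff.mp hcl _ hv)

theorem commF_spec {c : ℕ} (hc : c < 4) {f fi : ℕ → ℕ} {y : Grp} (hf : Fx f y) (hfi : Fx fi y⁻¹)
    {N : Subgroup Grp} (hy : Cond (R c) y N) : ∀ {ws : List (List ℕ)},
    ws.all (ltB (cenGens.getD c []).length) = true → ∃ p ∈ N, Fx (commF c f fi ws) p := by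
  intro ws
  induction ws with
  | nil => exact fun _ => ⟨1, one_mem _, Fx.one⟩
  | cons w ws ih =>
    intro h
    simp only [List.all_cons, Bool.and_eq_true] at h
    obtain ⟨p, hp, hpF⟩ := ih h.2
    obtain ⟨v, hv, hvF, hvI⟩ := cw_spec hc h.1
    refine ⟨⁅y, v⁆ * p, mul_mem (hy v hv) hp, ?_⟩
    have := hf.mul (hvF.mul (hfi.mul (hvI.mul hpF)))
    rw [show y * (v * (y⁻¹ * (v⁻¹ * p))) = ⁅y, v⁆ * p by rw [commutatorElement_def]; group] at this
    exact this

/-- The scans. -/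
theorem scan {c : ℕ} (hc : c < 4) {y : Grp} (hy : y ∈ syl) (hya : Commute y (R c)) {N : Subgroup Grp}
    (hN : Cond (R c) y N) (hz : z ∉ N) :
    (y = 1 ∨ y = z ∨ y = R c ∨ y = R c * z) ∨
      (c = 0 ∧ (R c ∈ N ∨ R c * z ∈ N) ∧ ∃ j < excIx.length, y = X₀ j) := by
  have hscan : ∃ ix cert, scanB c (ix, cert) = true ∧ ∀ i : Fin 339, evalT sChain ix i = ((y : Perm (Fin 339)) i : ℕ) := by
    have hy' : (y : Perm (Fin 339)) ∈ prodSet 339 sChain := by rw [X.syl_facts.2]; exact hy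
    obtain rfl | rfl | rfl | rfl : c = 0 ∨ c = 1 ∨ c = 2 ∨ c = 3 := by omega
    · exact scan_idx scan0_ok.1 scan0_ok.2 hy'
    · exact scan_idx scan1_ok.1 scan1_ok.2 hy'
    · exact scan_idx scan2_ok.1 scan2_ok.2 hy'
    · exact scan_idx scan3_ok.1 scan3_ok.2 hy'
  obtain ⟨ix, cert, hB, hF⟩ := hscan
  replace hF : Fx (sv ix) y := hF
  have hR := (R_spec hc).2
  simp only [scanB, Bool.or_eq_true, Bool.not_eq_true', Bool.and_eq_true] at hB
  rcases hB with (h | ((h | h) | h) | h) | ⟨⟨⟨⟨hmem, hinv⟩, hws⟩, heq⟩, hcase⟩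
  · exact absurd hya.symm.eq (neX h (hR.mul hF) (hF.mul hR))
  · exact Or.inl (Or.inl (eqX h hF Fx.one))
  · exact Or.inl (Or.inr (Or.inl (eqX h hF X.z_spec)))
  · exact Or.inl (Or.inr (Or.inr (Or.inl (eqX h hF hR))))
  · exact Or.inl (Or.inr (Or.inr (Or.inr (eqX h hF (hR.mul X.z_spec)))))
  obtain ⟨-, hiF⟩ := se_spec (List.contains_iff_mem.mp hmem)
  have hi : se cert.2.1 = y⁻¹ := eq_inv_of_mul_eq_one_right (eqX hinv (hF.mul hiF) Fx.one)
  rw [hi] at hiF
  obtain ⟨p, hp, hpF⟩ := commF_spec hc hF hiF hN hws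
  have htgt : Nat.beq cert.1 0 = true → False := fun h0 => by
    rw [Nat.eq_of_beq_eq_true h0] at heq
    exact hz (eqX heq hpF X.z_spec ▸ hp)
  rcases hcase with h0 | ⟨hc0, hj⟩
  · exact (htgt h0).elim
  obtain ⟨j, hj, hje⟩ := List.any_eq_true.mp hj
  refine Or.inr ⟨Nat.eq_of_beq_eq_true hc0, ?_, j, List.mem_range.mp hj,
    eqX hje hF (X₀_spec (List.mem_range.mp hj))⟩
  by_cases h1 : cert.1 = 1
  · rw [h1] at heq
    exact Or.inl (eqX heq hpF hR ▸ hp)
  · have h2 : ∃ n, cert.1 = n + 2 := by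
      refine ⟨cert.1 - 2, ?_⟩
      have : cert.1 ≠ 0 := fun e => htgt (by rw [e]; rfl)
      omega
    obtain ⟨n, hn⟩ := h2
    rw [hn] at heq
    exact Or.inr (eqX heq hpF (hR.mul X.z_spec) ▸ hp)

/-! ### The exceptional class -/

theorem cent_s_le : Nat.card (centralizer ({s} : Set Grp)) * 630 ≤ 2903040 := by
  choose g hg using fun i : Fin 630 => isConj_iff.mp (X.qx_spec i i.2).2
  let F : centralizer ({s} : Set Grp) × Fin 630 → Grp := fun p => g p.2 * p.1
  have hF : Function.Injective F := by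
    rintro ⟨⟨c, hc⟩, i⟩ ⟨⟨d, hd⟩, j⟩ e
    have e' : g i * c = g j * d := e
    have hk : ∀ (k : Fin 630) (c : Grp), c * s = s * c → g k * c * s * (g k * c)⁻¹ = X.qx k := fun k c hc => by
      rw [← hg k, mul_assoc (g k) c s, hc]; group
    have hij : i = j := Fin.ext (X.qx_inj i.2 j.2 (by
      rw [← hk i c (mem_centralizer_singleton_iff.mp hc), e', hk j d (mem_centralizer_singleton_iff.mp hd)]))
    subst hij
    exact Prod.ext (Subtype.ext (mul_left_cancel e')) rfl
  have := Nat.card_le_card_of_injective F hF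
  rwa [Nat.card_prod, Nat.card_fin, X.closed.2] at this

theorem card_cent_s : Nat.card (centralizer ({s} : Set Grp)) = 4608 := by
  have := cent_s_le
  have := X.cent_s_ge
  omega

theorem cent_s_gen {g : Grp} (hg : Commute g s) : (g : Perm (Fin 339)) ∈ genG 339 dGens := by
  have he : genG 339 dGens = Grp ⊓ centralizer ({(s : Perm (Fin 339))} : Set (Perm (Fin 339))) := by
    refine eq_of_le_of_card_ge X.d_mem ?_
    rw [← X.card_cent, card_cent_s, ← d_table.2]
    exact size_le_card (by norm_num) (valid_of_perms a_perm.2.2.1) d_table.1 le_rfl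
  rw [he]
  exact ⟨g.2, mem_centralizer_singleton_iff.mpr (congrArg Subtype.val hg.eq)⟩

theorem exc_conj {g : Grp} (hg : Commute g s) {j : ℕ} (hj : j < excIx.length) :
    ∃ k < excIx.length, g * X₀ j * g⁻¹ = X₀ k := by
  let T : Set (Perm (Fin 339)) := {p | ∃ a ∈ dGens, Rep 339 a p}
  let S : Set (Perm (Fin 339)) := {x | ∃ k < excIx.length, x = (X₀ k : Perm (Fin 339))}
  have hp := a_perm.2.2.1
  have hT : ∀ t ∈ T, (∀ x ∈ S, t * x * t⁻¹ ∈ S) ∧ ∀ x ∈ S, t⁻¹ * x * t ∈ S := by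
    rintro t ⟨a, ha, hta⟩
    obtain ⟨i, hi, rfl⟩ := List.getElem_of_mem ha
    rw [← List.getD_eq_getElem _ 0 hi] at hta
    have hti : Rep 339 (dInv.getD i 0) t⁻¹ := by
      rw [hta.unique (rep_el hp hi)]
      exact rep_el_inv (by norm_num) hp hi
    have htm : t ∈ Grp := (X.d_mem (Valid.mem (by rw [List.getD_eq_getElem _ _ hi]; exact List.getElem_mem _) hta)).1
    have key : ∀ (k : ℕ), k < excIx.length → ∀ (u ui : ℕ) (t' : Grp), Fx (ap u) t' → Fx (ap ui) t'⁻¹ →
        (∃ l ∈ List.range excIx.length, eqB xBases (fun b => ap u (ef k (ap ui b))) (ef l) = true) →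
        ((t' * X₀ k * t'⁻¹ : Grp) : Perm (Fin 339)) ∈ S := by
      rintro k hk u ui t' hu hui ⟨l, hl, e⟩
      refine ⟨l, List.mem_range.mp hl, congrArg Subtype.val ?_⟩
      have h1 := hu.mul ((X₀_spec hk).mul hui)
      rw [← mul_assoc] at h1
      exact eqX e h1 (X₀_spec (List.mem_range.mp hl))
    have hstep := exc_closed
    simp only [excB, Bool.and_eq_true, List.all_eq_true, List.mem_range] at hstep
    refine ⟨?_, ?_⟩
    · rintro x ⟨k, hk, rfl⟩
      exact key k hk _ _ ⟨t, htm⟩ hta hti (List.any_eq_true.mp (hstep i hi k hk).1)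
    · rintro x ⟨k, hk, rfl⟩
      have := key k hk _ _ (⟨t, htm⟩ : Grp)⁻¹ hti (by rw [inv_inv]; exact hta)
        (List.any_eq_true.mp (hstep i hi k hk).2)
      simpa using this
  obtain ⟨k, hk, e⟩ := invariant hT (g := (g : Perm (Fin 339))) (cent_s_gen hg) _ ⟨j, hj, rfl⟩
  exact ⟨k, hk, Subtype.ext e⟩

/-- Entry `i` of the subgroup of order 9. -/
noncomputable def q₀ (i : ℕ) : Grp := X.xe (q9c i)

theorem q₀_spec {i : ℕ} (hi : i < 9) : Fx (ap (q9c i)) (q₀ i) ∧ Fx (ap (qInv.getD i 0)) (q₀ i)⁻¹ := by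
  obtain ⟨hp, hs, hlen, -⟩ := q_facts
  simp only [permsB, Bool.and_eq_true, List.all_eq_true, List.mem_range] at hp
  have h := hp.2 i (hlen.symm ▸ hi)
  have hm : qElems.getD i 0 ∈ qElems := by rw [List.getD_eq_getElem _ _ (hlen.symm ▸ hi)]; exact List.getElem_mem _
  have h1 : Fx (ap (q9c i)) (q₀ i) := X.xe_spec h (List.all_eq_true.mp hs _ hm)
  exact ⟨h1, fun j => rep_inv (by norm_num) h1 h j⟩

theorem q_props :
    (∀ i < 9, ∀ j < 9, q₀ i = q₀ j → i = j) ∧ q₀ 0 = 1 ∧ (∀ i < 9, ∀ j < 9, ∃ k < 9, q₀ i * q₀ j = q₀ k) ∧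
    (∀ i < 9, Commute (q₀ i) s) ∧ (∀ j < excIx.length, ∃ i < 9, ¬ Commute (q₀ i) (X₀ j)) ∧
    ∀ i < 9, ∀ N : Subgroup Grp, z ∉ N → Cond s (q₀ i) N → i = 0 := by
  obtain ⟨-, -, -, h⟩ := q_facts
  simp only [q9B, Bool.and_eq_true, List.all_eq_true, List.mem_range, List.any_eq_true, Bool.or_eq_true,
    Bool.not_eq_true', Nat.blt_eq] at h
  obtain ⟨⟨⟨⟨⟨hnd, h0⟩, hmul⟩, hcom⟩, hexc⟩, hwit⟩ := h
  have hR := (R_spec (show 0 < 4 by norm_num)).2
  rw [R_zero] at hR
  refine ⟨fun i hi j hj e => ?_, eqX h0 (q₀_spec (by norm_num)).1 Fx.one, fun i hi j hj => ?_, fun i hi => ?_,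
    fun j hj => ?_, fun i hi N hz hN => ?_⟩
  · refine ((nodup_of_nodupB hnd).getElem_inj_iff (hi := by simpa using hi) (hj := by simpa using hj)).mp ?_
    simp only [List.getElem_map, List.getElem_range]
    refine keyB_congr fun b hb => ?_
    rw [(q₀_spec hi).1 ⟨b, X.bases_lt' b hb⟩, (q₀_spec hj).1 ⟨b, X.bases_lt' b hb⟩, e]
  · obtain ⟨hlt, e⟩ := hmul i hi j hj
    exact ⟨_, hlt, eqX e ((q₀_spec hi).1.mul (q₀_spec hj).1) (q₀_spec hlt).1⟩
  · exact (eqX (hcom i hi) (hR.mul (q₀_spec hi).1) ((q₀_spec hi).1.mul hR)).symm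
  · obtain ⟨i, hi, e⟩ := hexc j hj
    exact ⟨i, hi, fun hc => neX e ((X₀_spec hj).mul (q₀_spec hi).1) ((q₀_spec hi).1.mul (X₀_spec hj)) hc.eq.symm⟩
  · rcases hwit i hi with e | ⟨hw, e⟩
    · exact Nat.eq_of_beq_eq_true e
    · rw [← R_zero] at hN
      obtain ⟨p, hp, hpF⟩ := commF_spec (by norm_num) (q₀_spec hi).1 (q₀_spec hi).2 hN
        (List.all_eq_true.mpr hw)
      exact absurd (eqX e hpF X.z_spec ▸ hp) hz

/-- The subgroup of order 9. -/
noncomputable def Q9 : Subgroup Grp := closure {g | ∃ i < 9, g = q₀ i}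

theorem mem_Q9 {g : Grp} : g ∈ Q9 ↔ ∃ i < 9, g = q₀ i := by
  obtain ⟨-, h1, hmul, -⟩ := q_props
  refine ⟨fun h => ?_, fun h => subset_closure h⟩
  let M : Submonoid Grp :=
    { carrier := {g | ∃ i < 9, g = q₀ i}
      one_mem' := ⟨0, by norm_num, h1.symm⟩
      mul_mem' := by
        rintro _ _ ⟨i, hi, rfl⟩ ⟨j, hj, rfl⟩
        exact hmul i hi j hj }
  have : g ∈ (Subgroup.closure (M : Set Grp)).toSubmonoid := h
  rw [Subgroup.closure_toSubmonoid_of_finite] at this
  rwa [Submonoid.closure_eq] at this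

theorem card_Q9 : Nat.card Q9 = 9 := by
  obtain ⟨hinj, -⟩ := q_props
  rw [Nat.card_eq_of_bijective (fun i : Fin 9 => (⟨q₀ i, mem_Q9.mpr ⟨i, i.2, rfl⟩⟩ : Q9))
    ⟨fun i j e => Fin.ext (hinj i i.2 j j.2 (congrArg Subtype.val e)), fun g => by
      obtain ⟨i, hi, e⟩ := mem_Q9.mp g.2
      exact ⟨⟨i, hi⟩, Subtype.ext e.symm⟩⟩ |>.symm, Nat.card_fin]

/-- A 3-subgroup centralising `s` moves into the subgroup of order 9. -/
theorem into_nine {Q : Subgroup Grp} (hQ : IsPGroup 3 Q) (hQs : ∀ q ∈ Q, Commute q s) :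
    ∃ d, Commute d s ∧ ∀ q ∈ Q, d * q * d⁻¹ ∈ Q9 := by
  haveI : Fact (Nat.Prime 3) := ⟨Nat.prime_three⟩
  set C := centralizer ({s} : Set Grp) with hC
  obtain ⟨-, -, -, hcom, -⟩ := q_props
  have hle : Q9 ≤ C := fun g hg => by
    obtain ⟨i, hi, rfl⟩ := mem_Q9.mp hg
    exact mem_centralizer_singleton_iff.mpr (hcom i hi).eq
  have h9 : Nat.card (Q9.subgroupOf C) = 9 := by
    rw [Nat.card_congr (subgroupOfEquivOfLe hle).toEquiv, card_Q9]
  have hindex : ¬ 3 ∣ (Q9.subgroupOf C).index := by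
    have h := (Q9.subgroupOf C).card_mul_index
    rw [h9, card_cent_s] at h
    omega
  let P : Sylow 3 C := (IsPGroup.of_card (n := 2) (by rw [h9]; norm_num)).toSylow hindex
  obtain ⟨S, hS⟩ := (hQ.comap_subtype (K := C)).exists_le_sylow
  obtain ⟨d, hd⟩ := MulAction.exists_smul_eq C S P
  refine ⟨d, mem_centralizer_singleton_iff.mp d.2, fun q hq => ?_⟩
  let q' : C := ⟨q, mem_centralizer_singleton_iff.mpr (hQs q hq).eq⟩
  have : d * q' * d⁻¹ ∈ ((d • S : Sylow 3 C) : Subgroup C) := ⟨q', hS (show q' ∈ Q.comap C.subtype from hq), rfl⟩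
  rw [hd] at this
  exact this

/-! ### The two facts -/

/-- What holds when an element outside the four group satisfies the condition. -/
structure Exc (a y : Grp) (N : Subgroup Grp) : Prop where
  mem : a ∈ N ∨ a * z ∈ N
  sq : a * a = 1
  nine : 9 ∣ Nat.card (centralizer ({a} : Set Grp))
  odd : ∀ q : Grp, q ^ 9 = 1 → Commute q a → Cond a q N → q = 1
  no_nine : ¬ ∃ Q : Subgroup Grp, Nat.card Q = 9 ∧ ∀ q ∈ Q, Commute q a ∧ Commute q y

theorem key {a y : Grp} (ha : a * a = 1 ∨ a * a = z) (ha1 : a ≠ 1) (haz : a ≠ z) (hya : Commute y a) {k : ℕ}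
    (hy : y ^ 2 ^ k = 1) {N : Subgroup Grp} (hN : Norm a N) (hc : Cond a y N) (hzN : z ∉ N) :
    (y = 1 ∨ y = z ∨ y = a ∨ y = a * z) ∨ Exc a y N := by
  obtain ⟨c, hc4, hconj⟩ := classify ha ha1 haz
  obtain ⟨g₀, hg₀⟩ := isConj_iff.mp hconj.symm
  have hy0 : Commute (g₀ * y * g₀⁻¹) (R c) := hg₀ ▸ hya.map (MulAut.conj g₀).toMonoidHom
  obtain ⟨d, hd, hdS⟩ := into_syl hc4 hy0 (k := k) (by rw [conj_pow, hy]; group)
  set g := d * g₀ with hg
  have hga : g * a * g⁻¹ = R c := by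
    rw [hg, show d * g₀ * a * (d * g₀)⁻¹ = d * (g₀ * a * g₀⁻¹) * d⁻¹ by group, hg₀, hd.eq, mul_inv_cancel_right]
  set f := (MulAut.conj g).toMonoidHom with hf
  have hfv : ∀ v, f v = g * v * g⁻¹ := fun v => rfl
  have hfi : Function.Injective f := (MulAut.conj g).injective
  have hfz : f z = z := by rw [hfv, ← (z_comm g).eq, mul_inv_cancel_right]
  have hfa : f a = R c := hga
  have hback : ∀ v, Commute v (R c) → Commute (g⁻¹ * v * g) a := fun v hv => by
    have e : f (g⁻¹ * v * g) = v := by rw [hfv]; group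
    refine hfi ?_
    rw [map_mul f _ a, map_mul f a, e, hfa]
    exact hv.eq
  have hzN' : z ∉ N.map f := fun h => by
    rw [← hfz, mem_map_iff_mem hfi] at h
    exact hzN h
  have htrans : ∀ q, Cond a q N → Cond (R c) (f q) (N.map f) := fun q hq v hv => by
    refine ⟨_, hq _ (hback v hv), ?_⟩
    simp only [hfv, commutatorElement_def]
    group
  have hys : f y ∈ syl := by
    rw [hfv, hg, show d * g₀ * y * (d * g₀)⁻¹ = d * (g₀ * y * g₀⁻¹) * d⁻¹ by group]
    exact hdS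
  rcases scan hc4 hys (hfa ▸ hya.map f) (htrans y hc) hzN' with h | ⟨rfl, hmem, j, hj, hyj⟩
  · left
    rcases h with h | h | h | h
    · exact Or.inl (hfi (h.trans (map_one f).symm))
    · exact Or.inr (Or.inl (hfi (h.trans hfz.symm)))
    · exact Or.inr (Or.inr (Or.inl (hfi (h.trans hfa.symm))))
    · refine Or.inr (Or.inr (Or.inr (hfi ?_)))
      rw [h, map_mul, hfa, hfz]
  right
  have hRs := R_zero
  refine ⟨?_, hfi ?_, ?_, fun q hq hqa hqc => ?_, ?_⟩
  · rcases hmem with h | h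
    · exact Or.inl ((mem_map_iff_mem hfi).mp (hfa.symm ▸ h))
    · rw [← hfa, ← hfz, ← map_mul, mem_map_iff_mem hfi] at h
      exact Or.inr h
  · rw [map_mul, map_one, hfa]
    exact (R_sq hc4).1.mpr (by norm_num)
  · have he : centralizer ({a} : Set Grp) = (centralizer ({s} : Set Grp)).comap f := by
      ext v
      rw [mem_comap, mem_centralizer_singleton_iff, mem_centralizer_singleton_iff, ← hRs, ← hfa, ← map_mul,
        ← map_mul]
      exact hfi.eq_iff.symm
    have hfs : Function.Surjective f := (MulAut.conj g).surjective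
    have h2 := card_map_of_injective (K := (centralizer ({s} : Set Grp)).comap f) hfi
    rw [map_comap_eq_self_of_surjective hfs, card_cent_s] at h2
    rw [he, ← h2]
    norm_num
  · haveI : Fact (Nat.Prime 3) := ⟨Nat.prime_three⟩
    have hq' : f q ^ 9 = 1 := by rw [← map_pow, hq, map_one]
    have hpq : IsPGroup 3 (zpowers (f q)) := by
      obtain ⟨i, -, hi⟩ := (Nat.dvd_prime_pow Nat.prime_three).mp
        (orderOf_dvd_of_pow_eq_one (show f q ^ 3 ^ 2 = 1 from hq'))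
      exact IsPGroup.of_card (n := i) (by rw [Nat.card_zpowers, hi])
    obtain ⟨e, he, hin⟩ := into_nine hpq fun v hv => by
      obtain ⟨i, rfl⟩ := mem_zpowers_iff.mp hv
      exact ((hRs ▸ hfa ▸ hqa.map f : Commute (f q) s)).zpow_left i
    obtain ⟨i, hi, hqi⟩ := mem_Q9.mp (hin _ (mem_zpowers _))
    obtain ⟨-, h1, -, -, -, hwit⟩ := q_props
    have hN' : Norm (R 0) (N.map f) := by
      rintro v hv _ ⟨n, hn, rfl⟩
      refine ⟨g⁻¹ * v * g * n * (g⁻¹ * v * g)⁻¹, hN _ (hback v hv) n hn, ?_⟩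
      simp only [hfv]
      group
    have hc' := (htrans q hqc).conj hN' (hRs.symm ▸ he)
    rw [hqi, hRs] at hc'
    rw [hwit i hi _ hzN' hc', h1, conj_eq_one_iff, ← map_one f] at hqi
    exact hfi hqi
  · rintro ⟨Q, hQ9, hQ⟩
    haveI : Fact (Nat.Prime 3) := ⟨Nat.prime_three⟩
    have hQp : IsPGroup 3 (Q.map f) := (IsPGroup.of_card (n := 2) (by rw [hQ9]; norm_num)).map f
    obtain ⟨e, he, hin⟩ := into_nine hQp fun v hv => by
      obtain ⟨q, hq, rfl⟩ := hv
      exact hRs ▸ hfa ▸ (hQ q hq).1.map f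
    obtain ⟨k', hk', hjk⟩ := exc_conj he hj
    obtain ⟨-, -, -, -, hexc, -⟩ := q_props
    obtain ⟨i, hi, hne⟩ := hexc k' hk'
    refine hne ?_
    have h9 : (Q.map f).map (MulAut.conj e).toMonoidHom = Q9 := by
      refine eq_of_le_of_card_ge ?_ ?_
      · rintro _ ⟨v, hv, rfl⟩
        exact hin v hv
      · rw [card_Q9, card_map_of_injective (MulAut.conj e).injective, card_map_of_injective hfi, hQ9]
    obtain ⟨v, hv, hvi⟩ := (h9.symm ▸ mem_Q9.mpr ⟨i, hi, rfl⟩ : q₀ i ∈ (Q.map f).map (MulAut.conj e).toMonoidHom)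
    obtain ⟨q, hq, rfl⟩ := hv
    rw [← hvi, ← hjk, ← hyj]
    exact ((hQ q hq).2.map f).map (MulAut.conj e).toMonoidHom

end CfsgLib.StdCo3.Model
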