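/-
A standard double cover of Sp(6,2) as an image of the model, and the automorphisms of Sp(6,2).
-/
import Cfsg.Agent.Lib.Co3Recog.X
import Cfsg.Agent.Lib.PolarAut.Symplectic
import Cfsg.Prelude.Def_CaseTheorems
import Cfsg.Prelude.Def_Classical

set_option autoImplicit false
set_option linter.unusedSectionVars false
set_option linter.style.haveILetI false
set_option maxHeartbeats 1000000

namespace CfsgLib.StdCo3.Cover

open Subgroup Matrix
open scoped commutatorElement
open CfsgLib.Co3Recog.X (Grp z)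

universe u v

/-- Over the field with two elements the projective group is the symplectic group. -/
theorem psp_equiv {F : Type v} [Field F] [Fintype F] (hF : Fintype.card F = 2) :
    Nonempty (Cfsg.PSp 3 F ≃* Matrix.symplecticGroup (Fin 3) (ZMod 2)) := by
  haveI : Fact (Nat.Prime 2) := ⟨Nat.prime_two⟩
  haveI : CharP F 2 := charP_of_card_eq_prime hF
  have hc : center (Matrix.symplecticGroup (Fin 3) F) = ⊥ := Subgroup.eq_bot_of_card_eq _ (by
    rw [CfsgLib.SympTransvection.card_center (F := F) (m := 3) (by norm_num), hF]; norm_num)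
  let e : ZMod 2 ≃+* F := ZMod.ringEquivOfPrime F Nat.prime_two hF
  let f : Matrix.symplecticGroup (Fin 3) (ZMod 2) ≃* Matrix.symplecticGroup (Fin 3) F :=
    { toFun := fun A => ⟨A.1.map e, SymplecticGroup.map_mem A.2 e.toRingHom⟩
      invFun := fun A => ⟨A.1.map e.symm, SymplecticGroup.map_mem A.2 e.symm.toRingHom⟩
      left_inv := fun A => Subtype.ext (Matrix.ext fun i j => e.symm_apply_apply _)
      right_inv := fun A => Subtype.ext (Matrix.ext fun i j => e.apply_symm_apply _)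
      map_mul' := fun A B => Subtype.ext (Matrix.map_mul (f := e.toRingHom)) }
  exact ⟨((QuotientGroup.quotientMulEquivOfEq hc).trans QuotientGroup.quotientBot).trans f.symm⟩

theorem eq_one_of_ne_zero : ∀ x : ZMod 2, x ≠ 0 → x = 1 := by decide

/-- Every automorphism of `Sp(6,2)` is inner. -/
theorem aut_inner {S : Type u} [Group S] (e : S ≃* Cfsg.PSp 3 (ZMod 2)) (α : MulAut S) :
    ∃ c : S, ∀ s, α s = c * s * c⁻¹ := by
  haveI : Fact (Nat.Prime 2) := ⟨Nat.prime_two⟩
  let β : MulAut (Cfsg.PSp 3 (ZMod 2)) := (e.symm.trans α).trans e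
  obtain ⟨g, σ, hg, hβ⟩ := CfsgLib.PolarAut.psp_semilinear (m := 3) (by norm_num) (by norm_num) β
  have hσ : ∀ x : ZMod 2, σ x = x := fun x => by
    obtain ⟨n, rfl⟩ := ZMod.natCast_zmod_surjective x
    exact map_natCast σ n
  obtain ⟨c, hc⟩ := hg
  have hc1 : (c : ZMod 2) = 1 := by
    exact eq_one_of_ne_zero _ c.ne_zero
  have hgm : (g : Matrix (Fin 3 ⊕ Fin 3) (Fin 3 ⊕ Fin 3) (ZMod 2)) ∈ Matrix.symplecticGroup (Fin 3) (ZMod 2) := by
    rw [SymplecticGroup.mem_iff']
    refine Matrix.ext fun i j => ?_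
    have h := hc (Pi.single i 1) (Pi.single j 1)
    rw [hc1, one_mul] at h
    simp only [Cfsg.sympForm, mulVec_single_one] at h
    simp only [single_dotProduct, one_mul] at h
    rw [Matrix.mul_assoc]
    exact h
  let g' : Matrix.symplecticGroup (Fin 3) (ZMod 2) := ⟨g, hgm⟩
  have hginv : ((g'⁻¹ : Matrix.symplecticGroup (Fin 3) (ZMod 2)) : Matrix (Fin 3 ⊕ Fin 3) (Fin 3 ⊕ Fin 3) (ZMod 2)) =
      ((g⁻¹ : GL (Fin 3 ⊕ Fin 3) (ZMod 2)) : Matrix (Fin 3 ⊕ Fin 3) (Fin 3 ⊕ Fin 3) (ZMod 2)) := by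
    have h1 : ((g'⁻¹ : Matrix.symplecticGroup (Fin 3) (ZMod 2)) : Matrix (Fin 3 ⊕ Fin 3) (Fin 3 ⊕ Fin 3) (ZMod 2)) *
        (g : Matrix (Fin 3 ⊕ Fin 3) (Fin 3 ⊕ Fin 3) (ZMod 2)) = 1 :=
      congrArg Subtype.val (inv_mul_cancel g')
    exact left_inv_eq_right_inv h1 g.mul_inv
  refine ⟨e.symm (QuotientGroup.mk g'), fun s => e.injective ?_⟩
  obtain ⟨r, hr⟩ := QuotientGroup.mk_surjective (e s)
  have h := hβ r (g' * r * g'⁻¹) (by
    show (g : Matrix (Fin 3 ⊕ Fin 3) (Fin 3 ⊕ Fin 3) (ZMod 2)) * r.1 * _ = _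
    rw [hginv]
    congr 2
    exact Matrix.ext fun i j => (hσ _).symm)
  rw [hr] at h
  rw [map_mul, map_mul, map_inv, e.apply_symm_apply, ← hr]
  have hb : β (e s) = e (α s) := by show e (α (e.symm (e s))) = _; rw [e.symm_apply_apply]
  rw [← hb, h]
  rfl

/-- A perfect group with centre of order two over `Sp(6,2)` is a nonsplit double cover. -/
theorem nonsplit {L : Type u} [Group L] (hperf : commutator L = ⊤) (hcard : Nat.card (center L) = 2) {S : Type v}
    [Group S] (e : L ⧸ center L ≃* S) : Cfsg.IsNonsplitDoubleCover L S := by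
  refine ⟨hcard, ⟨e⟩, fun H hH => ?_⟩
  have hN : H.Normal := by
    rw [← normalizer_eq_top_iff, eq_top_iff, ← hH.sup_eq_top]
    refine sup_le (fun v hv => ?_) le_normalizer
    rw [mem_normalizer_iff]
    intro w
    rw [← mem_center_iff.mp hv w, mul_inv_cancel_right]
  have hle : commutator L ≤ H := by
    rw [_root_.commutator_def, commutator_le]
    intro p _ q _
    have hdec : ∀ y : L, ∃ c ∈ center L, ∃ h ∈ H, y = c * h := fun y => by
      have hy : y ∈ center L ⊔ H := by rw [hH.sup_eq_top]; exact mem_top _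
      rw [mem_sup_of_normal_right] at hy
      obtain ⟨c, hc, h, hh, e⟩ := hy
      exact ⟨c, hc, h, hh, e.symm⟩
    obtain ⟨c, hc, h, hh, rfl⟩ := hdec p
    obtain ⟨c', hc', h', hh', rfl⟩ := hdec q
    have e1 : ⁅c * h, c' * h'⁆ = ⁅h, h'⁆ := by
      have k1 : ∀ y : L, Commute c y := fun y => ((mem_center_iff.mp hc) y).symm
      have k2 : ∀ y : L, Commute c' y := fun y => ((mem_center_iff.mp hc') y).symm
      rw [commutatorElement_def, commutatorElement_def, _root_.mul_inv_rev, _root_.mul_inv_rev,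
        show c * h * (c' * h') * (h⁻¹ * c⁻¹) * (h'⁻¹ * c'⁻¹) = c * (h * c' * h' * h⁻¹) * c⁻¹ * (h'⁻¹ * c'⁻¹) by group,
        (k1 _).eq, mul_inv_cancel_right,
        show h * c' * h' * h⁻¹ * (h'⁻¹ * c'⁻¹) = h * (c' * (h' * h⁻¹ * h'⁻¹) * c'⁻¹) by group,
        (k2 _).eq, mul_inv_cancel_right]
      group
    rw [e1]
    exact mul_mem (mul_mem (mul_mem hh hh') (inv_mem hh)) (inv_mem hh')
  have hd := hH.disjoint
  rw [show H = ⊤ from top_le_iff.mp (hperf ▸ hle), disjoint_top] at hd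
  rw [hd, Subgroup.card_bot] at hcard
  omega

/-- The model maps onto such a cover, the centre to the centre. -/
theorem exists_iso {L : Type u} [Group L] [Finite L] (hperf : commutator L = ⊤) (hcard : Nat.card (center L) = 2)
    (e : L ⧸ center L ≃* Matrix.symplecticGroup (Fin 3) (ZMod 2)) :
    ∃ f : Grp ≃* L, f z ∈ center L := by
  obtain ⟨n, ⟨b⟩⟩ := Finite.exists_equiv_fin L
  let f₀ : L →* Equiv.Perm (Fin n) := (b.permCongrHom.toMonoidHom).comp (MulAction.toPermHom L L)
  have hf₀ : Function.Injective f₀ := b.permCongrHom.injective.comp fun x y h => by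
    simpa using DFunLike.congr_fun h 1
  let L₀ := f₀.range
  let e₀ : L ≃* L₀ := MonoidHom.ofInjective hf₀
  have hc₀ : (center L).map e₀.toMonoidHom = center L₀ := by
    ext y
    constructor
    · rintro ⟨x, hx, rfl⟩
      refine mem_center_iff.mpr fun w => ?_
      obtain ⟨w, rfl⟩ := e₀.surjective w
      show e₀ w * e₀ x = e₀ x * e₀ w
      rw [← map_mul, ← map_mul, mem_center_iff.mp hx w]
    · intro hy
      refine ⟨e₀.symm y, mem_center_iff.mpr fun w => e₀.injective ?_, e₀.apply_symm_apply y⟩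
      rw [map_mul, map_mul, e₀.apply_symm_apply]
      exact mem_center_iff.mp hy _
  have hcard₀ : Nat.card (center L₀) = 2 := by
    rw [← hc₀, card_map_of_injective (f := e₀.toMonoidHom) e₀.injective, hcard]
  have hperf₀ : commutator L₀ = ⊤ := by
    have h := congrArg (Subgroup.map e₀.toMonoidHom) hperf
    rwa [_root_.commutator_def, map_commutator, map_top_of_surjective e₀.toMonoidHom e₀.surjective,
      ← _root_.commutator_def] at h
  have q₀ : L₀ ⧸ center L₀ ≃* Matrix.symplecticGroup (Fin 3) (ZMod 2) :=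
    (QuotientGroup.congr (center L) (center L₀) e₀ hc₀).symm.trans e
  obtain ⟨hperfK, -, ⟨eK⟩, hperfL⟩ := CfsgLib.Co3Recog.X.small_props
  obtain ⟨σ₁, hσ₁, hk₁, hzk⟩ := CfsgLib.Co3Recog.X.exists_proj
  obtain ⟨σ₂, hσ₂, hk₂⟩ := CfsgLib.Co3Recog.Cover.stem_of_double hperfL (nonsplit hperf₀ hcard₀ q₀) eK
  obtain ⟨f⟩ := CfsgLib.Co3Recog.Cover.equiv_of_stem hperfK hσ₁ hσ₂ hk₁ hk₂ fun Γ _ _ σ hσ => by
    obtain ⟨w, hw, hw2, hle⟩ := StemSylow.SpSix.ker_small hσ
    calc Nat.card σ.ker ≤ Nat.card (zpowers w) := Nat.card_le_card_of_injective _ (inclusion_injective hle)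
      _ = orderOf w := Nat.card_zpowers w
      _ ≤ 2 := Nat.le_of_dvd (by norm_num) (orderOf_dvd_of_pow_eq_one hw2)
  refine ⟨f.trans e₀.symm, mem_center_iff.mpr fun w => ?_⟩
  obtain ⟨v, rfl⟩ := (f.trans e₀.symm).surjective w
  rw [← map_mul, ← map_mul, mem_center_iff.mp (hσ₁.2.1 hzk) v]

end CfsgLib.StdCo3.Cover
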