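/-
The centraliser of a standard double cover of Sp(6,2) in a group without isolated central involution.
-/
import Cfsg.Agent.Lib.StdCo3.Model
import Cfsg.Agent.Lib.Basic
import Cfsg.Prelude.Def_Local
import Cfsg.Prelude.Def_IsolatedElements

set_option autoImplicit false
set_option linter.unusedSectionVars false
set_option linter.style.haveILetI false
set_option maxHeartbeats 1000000

namespace CfsgLib.StdCo3

open Subgroup
open CfsgLib.Co3Recog.X (Grp z)
open scoped commutatorElement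

noncomputable section

universe u

variable {G : Type u} [Group G] [Finite G]

/-- The data. -/
structure Cfg (G : Type u) [Group G] [Finite G] where
  /-- The component, as an image of the model. -/
  ψ : Grp →* G
  inj : Function.Injective ψ
  dec : ∀ n : G, Commute n (ψ z) → ∃ l : Grp, ∃ k ∈ centralizer (ψ.range : Set G), n = ψ l * k
  tight : ∀ g : G, ¬ Commute g (ψ z) →
    Odd (Nat.card ↥(centralizer (ψ.range : Set G) ⊓ (centralizer (ψ.range : Set G)).map (MulAut.conj g).toMonoidHom))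
  norm : ∀ n : G, Commute n (ψ z) → ∀ k ∈ centralizer (ψ.range : Set G), n * k * n⁻¹ ∈ centralizer (ψ.range : Set G)
  core : Cfsg.centralizerPPrimeCore 2 (ψ z) = ⊥

theorem center_grp {l : Grp} (h : ∀ v : Grp, Commute l v) : l = 1 ∨ l = z := by
  obtain ⟨σ, hσ, hcard, hzk⟩ := CfsgLib.Co3Recog.X.exists_proj
  obtain ⟨-, hcen, -⟩ := CfsgLib.Co3Recog.X.small_props
  have hl : l ∈ σ.ker := by
    rw [MonoidHom.mem_ker, ← Subgroup.mem_bot, ← hcen, mem_center_iff]
    intro w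
    obtain ⟨v, rfl⟩ := hσ.1 w
    rw [← map_mul, ← map_mul, (h v).eq]
  by_contra hne
  push Not at hne
  have h1 : (1 : σ.ker) ≠ ⟨z, hzk⟩ := fun e => CfsgLib.Co3Recog.X.basic.1 (congrArg Subtype.val e).symm
  have h2 : ((Finset.image id {(1 : σ.ker), ⟨z, hzk⟩, ⟨l, hl⟩} : Finset σ.ker)).card ≤ 2 := by
    haveI : Fintype σ.ker := Fintype.ofFinite _
    refine (Finset.card_le_univ _).trans ?_
    rw [← Nat.card_eq_fintype_card, hcard]
  rw [Finset.image_id, Finset.card_insert_of_notMem, Finset.card_insert_of_notMem, Finset.card_singleton] at h2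
  · omega
  · simp only [Finset.mem_singleton]
    exact fun e => hne.2 (congrArg Subtype.val e).symm
  · simp only [Finset.mem_insert, Finset.mem_singleton, not_or]
    exact ⟨h1, fun e => hne.1 (congrArg Subtype.val e).symm⟩

namespace Cfg

variable (D : Cfg G)

/-- The centraliser of the component. -/
abbrev K : Subgroup G := centralizer (D.ψ.range : Set G)

/-- The central involution. -/
abbrev zz : G := D.ψ z

theorem zz_sq : D.zz * D.zz = 1 := by
  rw [zz, ← map_mul, CfsgLib.Co3Recog.X.basic.2.1, map_one]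

theorem zz_ne : D.zz ≠ 1 := fun e =>
  CfsgLib.Co3Recog.X.basic.1 (D.inj (e.trans (map_one D.ψ).symm))

theorem comm {k : G} (hk : k ∈ D.K) (l : Grp) : Commute (D.ψ l) k := mem_centralizer_iff.mp hk _ ⟨l, rfl⟩

theorem K_zz {k : G} (hk : k ∈ D.K) : Commute k D.zz := (D.comm hk z).symm

theorem zz_mem : D.zz ∈ D.K := mem_centralizer_iff.mpr fun _ ⟨l, e⟩ => by
  rw [← e, zz, ← map_mul, ← map_mul, (Model.z_comm l).eq]

theorem psi_K {l : Grp} (h : D.ψ l ∈ D.K) : l = 1 ∨ l = z :=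
  center_grp fun v => D.inj (by rw [map_mul, map_mul, (D.comm h v).eq])

theorem four_sq {a : Grp} {k : G} (hk : k ∈ D.K) (h : (D.ψ a * k) ^ 2 = 1) : a * a = 1 ∨ a * a = z :=
  D.psi_K (by
    rw [(D.comm hk a).mul_pow, pow_two, pow_two] at h
    rw [map_mul, eq_inv_of_mul_eq_one_left h]
    exact inv_mem (mul_mem hk hk))

/-- The tightly embedded intersections have odd order. -/
theorem inter_two {g b : G} (hg : ¬ Commute g D.zz) (hb : b ∈ D.K) (hgb : g * b * g⁻¹ ∈ D.K) {j : ℕ}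
    (hj : b ^ 2 ^ j = 1) : b = 1 := by
  have hmem : g * b * g⁻¹ ∈ D.K ⊓ D.K.map (MulAut.conj g).toMonoidHom := ⟨hgb, b, hb, rfl⟩
  have h2 : orderOf (g * b * g⁻¹) ∣ 2 ^ j := orderOf_dvd_of_pow_eq_one (by rw [conj_pow, hj]; group)
  have hcop : (2 ^ j).Coprime (Nat.card ↥(D.K ⊓ D.K.map (MulAut.conj g).toMonoidHom)) :=
    ((D.tight g hg).coprime_two_left).pow_left j
  have h1 := Nat.eq_one_of_dvd_coprimes hcop h2 (by
    rw [← orderOf_mk (g * b * g⁻¹) hmem]
    exact orderOf_dvd_natCard _)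
  exact conj_eq_one_iff.mp (orderOf_eq_one_iff.mp h1)

theorem not_inK {g : G} (hg : ¬ Commute g D.zz) : g * D.zz * g⁻¹ ∉ D.K := fun h =>
  D.zz_ne (D.inter_two hg D.zz_mem h (j := 1) (by rw [pow_one, pow_two, D.zz_sq]))

/-- A conjugate pair: `g` moves `x` to the centre and `x` centralises the centre without being equal to it. -/
structure Pair (g x : G) : Prop where
  eq : g * x * g⁻¹ = D.zz
  comm : Commute x D.zz
  ne : x ≠ D.zz

theorem Pair.x_eq {D : Cfg G} {g x : G} (P : D.Pair g x) : x = g⁻¹ * D.zz * g := by rw [← P.eq]; group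

theorem Pair.not_comm {D : Cfg G} {g x : G} (P : D.Pair g x) : ¬ Commute g D.zz := fun h =>
  P.ne (by rw [P.x_eq, mul_assoc, ← h.eq, inv_mul_cancel_left])

theorem Pair.x_sq {D : Cfg G} {g x : G} (P : D.Pair g x) : x * x = 1 := by
  rw [P.x_eq, show g⁻¹ * D.zz * g * (g⁻¹ * D.zz * g) = g⁻¹ * (D.zz * D.zz) * g by group, D.zz_sq]
  group

theorem Pair.conj_comm {D : Cfg G} {g x : G} (P : D.Pair g x) {v : G} (h : Commute v x) : Commute (g * v * g⁻¹) D.zz := by
  have e := h.map (MulAut.conj g).toMonoidHom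
  simp only [MulEquiv.coe_toMonoidHom, MulAut.conj_apply, P.eq] at e
  exact e

theorem Pair.comm_of_conj {D : Cfg G} {g x : G} (P : D.Pair g x) {v : G} (h : Commute (g * v * g⁻¹) D.zz) : Commute v x := by
  refine (MulAut.conj g).injective ?_
  simp only [map_mul, MulAut.conj_apply, P.eq]
  exact h.eq

/-- The partner pair. -/
theorem Pair.symm {D : Cfg G} {g x : G} (P : D.Pair g x) : D.Pair g⁻¹ (g * D.zz * g⁻¹) where
  eq := by group
  comm := P.conj_comm P.comm.symm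
  ne h := P.not_comm (show g * D.zz = D.zz * g from mul_inv_eq_iff_eq_mul.mp h)

theorem Pair.split {D : Cfg G} {g x : G} (P : D.Pair g x) {a : Grp} {k : G} (hk : k ∈ D.K) (hx : x = D.ψ a * k) :
    (a * a = 1 ∨ a * a = z) ∧ a ≠ 1 ∧ a ≠ z ∧ Commute k x ∧ k ^ 2 ^ 2 = 1 := by
  have hx2 : (D.ψ a * k) ^ 2 = 1 := by rw [pow_two, ← hx, P.x_sq]
  have hxK : x ∉ D.K := fun h => by
    have := D.inter_two P.not_comm h (P.eq ▸ D.zz_mem) (j := 1) (by rw [pow_one, pow_two, P.x_sq])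
    refine D.zz_ne ?_
    rw [← P.eq, this]
    group
  refine ⟨D.four_sq hk hx2, fun e => hxK ?_, fun e => hxK ?_, ?_, ?_⟩
  · rw [hx, e, map_one, one_mul]; exact hk
  · rw [hx, e]; exact mul_mem D.zz_mem hk
  · exact hx ▸ ((D.comm hk a).symm.mul_right (Commute.refl k))
  · rw [(D.comm hk a).mul_pow, pow_two, pow_two] at hx2
    have e : k * k = (D.ψ (a * a))⁻¹ := by rw [map_mul]; exact eq_inv_of_mul_eq_one_right hx2
    rw [show (2 : ℕ) ^ 2 = 2 + 2 from rfl, pow_add, pow_two, e, ← map_inv, ← map_mul, ← mul_inv_rev]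
    rcases D.four_sq hk (by rw [(D.comm hk a).mul_pow, pow_two, pow_two]; exact hx2) with h | h <;> rw [h] <;>
      simp [CfsgLib.Co3Recog.X.basic.2.1]

/-- The preimage in the model of the moved centraliser. -/
def side (g : G) : Subgroup Grp := (D.K.map (MulAut.conj g⁻¹).toMonoidHom).comap D.ψ

theorem mem_side {g : G} {l : Grp} : l ∈ D.side g ↔ g * D.ψ l * g⁻¹ ∈ D.K := by
  rw [side, mem_comap]
  constructor
  · rintro ⟨k, hk, e⟩
    have : g * D.ψ l * g⁻¹ = k := by rw [← e]; show g * (g⁻¹ * k * (g⁻¹)⁻¹) * g⁻¹ = k; group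
    exact this ▸ hk
  · intro h
    exact ⟨_, h, by show g⁻¹ * (g * D.ψ l * g⁻¹) * (g⁻¹)⁻¹ = D.ψ l; group⟩

theorem Pair.z_side {D : Cfg G} {g x : G} (P : D.Pair g x) : z ∉ D.side g := fun h => D.not_inK P.not_comm (D.mem_side.mp h)

/-- Elements of the moved centraliser inside the centraliser of the centre. -/
theorem Pair.coords {D : Cfg G} {g x : G} (P : D.Pair g x) {a : Grp} {k : G} (hk : k ∈ D.K) (hx : x = D.ψ a * k) {b : G}
    (hb : g * b * g⁻¹ ∈ D.K) {l : Grp} {m : G} (hm : m ∈ D.K) (hbl : b = D.ψ l * m) :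
    Commute l a ∧ Commute m k ∧ Model.Norm a (D.side g) ∧ Model.Cond a l (D.side g) := by
  obtain ⟨-, -, -, hkx, -⟩ := P.split hk hx
  have hbx : Commute b x := P.comm_of_conj (D.K_zz hb)
  have hkK : ∀ v : G, Commute v x → g * ⁅b, v⁆ * g⁻¹ ∈ D.K := fun v hv => by
    rw [show g * ⁅b, v⁆ * g⁻¹ = g * b * g⁻¹ * ((g * v * g⁻¹) * (g * b * g⁻¹)⁻¹ * (g * v * g⁻¹)⁻¹) by
      simp only [commutatorElement_def]; group]
    exact mul_mem hb (D.norm _ (P.conj_comm hv) _ (inv_mem hb))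
  have hc : ⁅b, k⁆ = ⁅m, k⁆ := by
    rw [hbl, commutatorElement_def, commutatorElement_def, mul_inv_rev,
      show D.ψ l * m * k * (m⁻¹ * (D.ψ l)⁻¹) * k⁻¹ = D.ψ l * (m * k * m⁻¹) * (D.ψ l)⁻¹ * k⁻¹ by group,
      ((D.comm (mul_mem (mul_mem hm hk) (inv_mem hm)) l)).eq, mul_inv_cancel_right]
  have hsplit : D.ψ ⁅l, a⁆ * ⁅m, k⁆ = 1 := by
    have h1 : D.ψ l * m * (D.ψ a * k) = D.ψ (l * a) * (m * k) := by
      rw [map_mul]; exact ((D.comm hm a).symm).mul_mul_mul_comm _ _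
    have h2 : D.ψ a * k * (D.ψ l * m) = D.ψ (a * l) * (k * m) := by
      rw [map_mul]; exact ((D.comm hk l).symm).mul_mul_mul_comm _ _
    have h3 : D.ψ (l * a) * (m * k) = D.ψ (a * l) * (k * m) := by rw [← h1, ← h2, ← hbl, ← hx, hbx.eq]
    have h4 : D.ψ ⁅l, a⁆ = D.ψ (l * a) * (D.ψ (a * l))⁻¹ := by
      rw [← map_inv, ← map_mul, commutatorElement_def]; simp [mul_assoc]
    have h5 : ⁅m, k⁆ = m * k * (k * m)⁻¹ := by rw [commutatorElement_def]; group
    have h6 : Commute (D.ψ (a * l))⁻¹ (m * k) := (D.comm (mul_mem hm hk) _).inv_left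
    rw [h4, h5, mul_assoc, ← mul_assoc (D.ψ (a * l))⁻¹, h6.eq, mul_assoc, ← mul_inv_rev, ← mul_assoc, h3,
      ← (D.comm (mul_mem hk hm) (a * l)).eq, mul_inv_cancel]
  have hm1 : ⁅m, k⁆ = 1 := by
    have hmem : D.ψ ⁅l, a⁆ ∈ D.K := by
      rw [eq_inv_of_mul_eq_one_left hsplit]
      exact inv_mem (mul_mem (mul_mem (mul_mem hm hk) (inv_mem hm)) (inv_mem hk))
    rcases D.psi_K hmem with e | e
    · rw [e, map_one, one_mul] at hsplit; exact hsplit
    · exfalso
      have e' : ⁅m, k⁆ = D.zz := by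
        rw [eq_inv_of_mul_eq_one_right hsplit, e, inv_eq_of_mul_eq_one_right D.zz_sq]
      refine D.not_inK P.not_comm ?_
      rw [← e', ← hc]
      exact hkK k hkx
  refine ⟨?_, commutatorElement_eq_one_iff_commute.mp hm1, fun v hv n hn => ?_, fun v hv => ?_⟩
  · refine commutatorElement_eq_one_iff_commute.mp (D.inj ?_)
    rw [hm1, mul_one] at hsplit
    rw [hsplit, map_one]
  · rw [D.mem_side] at hn ⊢
    have hvx : Commute (D.ψ v) x := hx ▸ (hv.map D.ψ).mul_right (D.comm hk v)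
    rw [map_mul, map_mul, map_inv, show g * (D.ψ v * D.ψ n * (D.ψ v)⁻¹) * g⁻¹ =
      g * D.ψ v * g⁻¹ * (g * D.ψ n * g⁻¹) * (g * D.ψ v * g⁻¹)⁻¹ by group]
    exact D.norm _ (P.conj_comm hvx) _ hn
  · have hvx : Commute (D.ψ v) x := hx ▸ (hv.map D.ψ).mul_right (D.comm hk v)
    rw [D.mem_side, map_commutatorElement]
    have e : ⁅D.ψ l, D.ψ v⁆ = ⁅b, D.ψ v⁆ := by
      rw [hbl, commutatorElement_def, commutatorElement_def, mul_inv_rev,
        show D.ψ l * m * D.ψ v * (m⁻¹ * (D.ψ l)⁻¹) * (D.ψ v)⁻¹ = D.ψ l * (m * D.ψ v * m⁻¹) * (D.ψ l)⁻¹ * (D.ψ v)⁻¹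
          by group, ← (D.comm hm v).eq, mul_inv_cancel_right]
    rw [e]
    exact hkK _ hvx

/-- An element of 2-power order: trivial, the pair's involution, or exceptional. -/
theorem Pair.two_part {D : Cfg G} {g x : G} (P : D.Pair g x) {a : Grp} {k : G} (hk : k ∈ D.K) (hx : x = D.ψ a * k) {b : G}
    (hb : g * b * g⁻¹ ∈ D.K) (hbz : Commute b D.zz) {j : ℕ} (hj : b ^ 2 ^ j = 1) :
    (b = 1 ∨ b = x) ∨ ∃ l : Grp, ∃ m ∈ D.K, b = D.ψ l * m ∧ Model.Exc a l (D.side g) := by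
  obtain ⟨l, m, hm, hbl⟩ := D.dec b hbz
  obtain ⟨ha, ha1, haz, -, -⟩ := P.split hk hx
  obtain ⟨hla, -, hN, hC⟩ := P.coords hk hx hb hm hbl
  have hl : l ^ 2 ^ (j + 1) = 1 := by
    rw [hbl, (D.comm hm l).mul_pow] at hj
    have hmem : D.ψ (l ^ 2 ^ j) ∈ D.K := by
      rw [map_pow, eq_inv_of_mul_eq_one_left hj]
      exact inv_mem (pow_mem hm _)
    rw [pow_succ, pow_mul, pow_two]
    rcases D.psi_K hmem with e | e <;> rw [e]
    · exact one_mul 1
    · exact CfsgLib.Co3Recog.X.basic.2.1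
  rcases Model.key ha ha1 haz hla hl hN hC P.z_side with h | h
  · left
    have hout : ∀ c, c ∈ D.K → g * c * g⁻¹ ∈ D.K → (∃ i, c ^ 2 ^ i = 1) → c = 1 :=
      fun c h1 h2 ⟨i, h3⟩ => D.inter_two P.not_comm h1 h2 h3
    have hbK : l = 1 ∨ l = z → b = 1 := fun h => hout b (by
      rw [hbl]
      refine mul_mem ?_ hm
      rcases h with e | e <;> rw [e]
      · rw [map_one]; exact one_mem _
      · exact D.zz_mem) hb ⟨j, hj⟩
    have hbx : D.ψ l * (D.ψ a)⁻¹ ∈ D.K → b = x := fun h => by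
      have hxg : g * x⁻¹ * g⁻¹ ∈ D.K := by rw [← conj_inv, P.eq]; exact inv_mem D.zz_mem
      have := hout (b * x⁻¹) ?_ ?_ ⟨j + 1, ?_⟩
      · exact mul_inv_eq_one.mp this
      · rw [hbl, hx, mul_inv_rev, show D.ψ l * m * (k⁻¹ * (D.ψ a)⁻¹) = D.ψ l * ((m * k⁻¹) * (D.ψ a)⁻¹) by group,
          (D.comm (mul_mem hm (inv_mem hk)) a).inv_left.eq.symm, ← mul_assoc]
        exact mul_mem h (mul_mem hm (inv_mem hk))
      · rw [← conj_mul]
        exact mul_mem hb hxg
      · rw [((P.comm_of_conj (D.K_zz hb)).inv_right).mul_pow, pow_succ, pow_mul, hj, one_pow, one_mul, mul_comm,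
          pow_mul, inv_pow, pow_two, P.x_sq, inv_one, one_pow]
    rcases h with h | h | h | h
    · exact Or.inl (hbK (Or.inl h))
    · exact Or.inl (hbK (Or.inr h))
    · exact Or.inr (hbx (by rw [h, mul_inv_cancel]; exact one_mem _))
    · refine Or.inr (hbx ?_)
      rw [h, map_mul, (D.comm D.zz_mem a).eq, mul_inv_cancel_right]
      exact D.zz_mem
  · exact Or.inr ⟨l, m, hm, hbl, h⟩

/-- The pair has no further elements of 2-power order. -/
def Small (g x : G) : Prop :=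
  ∀ b : G, g * b * g⁻¹ ∈ D.K → Commute b D.zz → ∀ j : ℕ, b ^ 2 ^ j = 1 → b = 1 ∨ b = x

theorem Pair.two_of_small {D : Cfg G} {g x : G} (P : D.Pair g x) (hS : D.Small g x) :
    ∀ h ∈ D.K, ∀ j : ℕ, h ^ 2 ^ j = 1 → h = 1 ∨ h = D.zz := by
  set x' := g * D.zz * g⁻¹ with hx'
  have hcase : ∀ h ∈ D.K, Commute h x' → ∀ j : ℕ, h ^ 2 ^ j = 1 → h = 1 ∨ h = D.zz := fun h hh hc j hj => by
    have e : g * (g⁻¹ * h * g) * g⁻¹ = h := by group
    have hbz : Commute (g⁻¹ * h * g) D.zz :=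
      (MulAut.conj g).injective (by rw [map_mul (MulAut.conj g) _ D.zz, map_mul (MulAut.conj g) D.zz, MulAut.conj_apply, MulAut.conj_apply, e]; exact hc.eq)
    rcases hS _ (e.symm ▸ hh) hbz j (by
      rw [show g⁻¹ * h * g = g⁻¹ * h * (g⁻¹)⁻¹ by group, conj_pow, hj]; group) with hb | hb
    · left; rw [← e, hb]; group
    · right; rw [← e, hb, P.eq]
  have P' := P.symm
  obtain ⟨a', k', hk', e'⟩ := D.dec x' P'.comm
  obtain ⟨-, -, -, hkx, hk4⟩ := P'.split hk' e'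
  intro h hh j hj
  refine hcase h hh ?_ j hj
  rw [e']
  refine ((D.comm hh a').symm).mul_right ?_
  rcases hcase k' hk' hkx 2 hk4 with e | e <;> rw [e]
  · exact Commute.one_right h
  · exact D.K_zz hh

theorem odd_core {H : Subgroup G} (hle : H ≤ D.K) (hodd : Odd (Nat.card H))
    (hn : ∀ n ∈ D.K, ∀ h ∈ H, n * h * n⁻¹ ∈ H) : H = ⊥ := by
  haveI : (H.subgroupOf D.K).Normal := ⟨fun h hh n => hn n n.2 h hh⟩
  have hcop : (Nat.card (H.subgroupOf D.K)).Coprime 2 := by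
    rw [Nat.card_congr (subgroupOfEquivOfLe hle).toEquiv]
    exact hodd.coprime_two_right
  have h1 := CfsgLib.le_pPrimeCore (p := 2) hcop
  set C := centralizer ({D.zz} : Set G)
  have hKC : D.K ≤ C := fun k hk => mem_centralizer_singleton_iff.mpr (D.K_zz hk).eq
  haveI : (D.K.subgroupOf C).Normal :=
    ⟨fun k hk n => D.norm n (mem_centralizer_singleton_iff.mp n.2) k hk⟩
  have h2 := CfsgLib.map_pPrimeCore_le 2 (D.K.subgroupOf C)
  let e := subgroupOfEquivOfLe hKC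
  refine eq_bot_iff.mpr fun h hh => ?_
  have hh1 : (⟨h, hle hh⟩ : D.K) ∈ Cfsg.pPrimeCore 2 D.K := h1 hh
  rw [← CfsgLib.pPrimeCore_map_equiv 2 e] at hh1
  obtain ⟨v, hv, hve⟩ := hh1
  have hvh : ((v : C) : G) = h := congrArg Subtype.val hve
  have h3 : (v : C) ∈ Cfsg.pPrimeCore 2 C := h2 ⟨v, hv, rfl⟩
  have h4 : h ∈ Cfsg.centralizerPPrimeCore 2 D.zz := ⟨v, h3, hvh⟩
  rwa [D.core] at h4

theorem Pair.inside {D : Cfg G} {g x : G} (P : D.Pair g x) (hS : ¬ D.Small g x) : ∃ a, x = D.ψ a := by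
  simp only [Small, not_forall, not_or] at hS
  obtain ⟨b, hb, hbz, j, hj, hb1, hbx⟩ := hS
  obtain ⟨a, k, hk, hx⟩ := D.dec x P.comm
  obtain ⟨-, -, -, hkx, hk4⟩ := P.split hk hx
  obtain ⟨l, m, hm, -, hE⟩ := (P.two_part hk hx hb hbz hj).resolve_left (by tauto)
  have hxg : g * x * g⁻¹ ∈ D.K := P.eq.symm ▸ D.zz_mem
  have hout : ∀ a' : Grp, a' ∈ D.side g → ∀ k' : G, k' ∈ D.K → x = D.ψ a' * k' → k' ^ 2 ^ 2 = 1 → k' = 1 :=
    fun a' ha' k' hk' e h4 => D.inter_two P.not_comm hk' (by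
      rw [show k' = (D.ψ a')⁻¹ * x by rw [e]; group, ← conj_mul, ← conj_inv]
      exact mul_mem (inv_mem (D.mem_side.mp ha')) hxg) h4
  rcases hE.mem with h | h
  · exact ⟨a, by rw [hx, hout a h k hk hx hk4, mul_one]⟩
  · refine ⟨a * z, ?_⟩
    have e : x = D.ψ (a * z) * (D.zz * k) := by
      rw [map_mul, mul_assoc, ← mul_assoc (D.ψ z), D.zz_sq, one_mul, hx]
    have h4 : (D.zz * k) ^ 2 ^ 2 = 1 := by
      rw [(D.K_zz hk).symm.mul_pow, hk4, mul_one, show (2 : ℕ) ^ 2 = 2 * 2 from rfl, pow_mul, pow_two D.zz,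
        D.zz_sq, one_pow]
    rw [e, hout _ h _ (mul_mem D.zz_mem hk) e h4, mul_one]

theorem exists_small {g x : G} (P : D.Pair g x) : ∃ g' x', D.Pair g' x' ∧ D.Small g' x' := by
  by_contra hno
  push Not at hno
  have hin : ∀ {g x : G}, D.Pair g x → ∃ a, x = D.ψ a := fun P => P.inside (hno _ _ P)
  have hKx : ∀ {g x : G}, D.Pair g x → ∀ n ∈ D.K, Commute n x := fun P n hn => by
    obtain ⟨a, rfl⟩ := hin P
    exact (D.comm hn a).symm
  obtain ⟨a, hxa⟩ := hin P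
  obtain ⟨a', hxa'⟩ := hin P.symm
  -- the moved centraliser lies in the centraliser of the centre
  have hmove : ∀ b, g * b * g⁻¹ ∈ D.K → Commute b D.zz := fun b hb => by
    refine (MulAut.conj g).injective ?_
    rw [map_mul, map_mul]
    exact (hKx P.symm _ hb).eq
  obtain ⟨b, hb, hbz, j, hj, hb1, hbx⟩ : ∃ b, g * b * g⁻¹ ∈ D.K ∧ Commute b D.zz ∧ ∃ j : ℕ, b ^ 2 ^ j = 1 ∧
      b ≠ 1 ∧ b ≠ x := by
    have := hno g x P
    simp only [Small, not_forall, not_or] at this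
    obtain ⟨b, hb, hbz, j, hj, h1, h2⟩ := this
    exact ⟨b, hb, hbz, j, hj, h1, h2⟩
  have hxa1 : x = D.ψ a * 1 := by rw [mul_one, hxa]
  obtain ⟨l, m, hm, hbl, hE⟩ := (P.two_part (one_mem _) hxa1 hb hbz hj).resolve_left (by tauto)
  -- the intersection with the moved centraliser is trivial
  have hD : ∀ n ∈ D.K, g * n * g⁻¹ ∈ D.K → n = 1 := by
    let H : Subgroup G := D.K ⊓ D.K.map (MulAut.conj g⁻¹).toMonoidHom
    have hH : H = ⊥ := by
      refine D.odd_core inf_le_left ?_ ?_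
      · refine D.tight g⁻¹ fun h => P.not_comm ?_
        simpa using h.inv_left
      · rintro n hn h ⟨hh, c, hc, rfl⟩
        refine ⟨D.K.mul_mem (D.K.mul_mem hn hh) (D.K.inv_mem hn), g * n * g⁻¹ * c * (g * n * g⁻¹)⁻¹,
          D.norm _ (P.conj_comm (hKx P n hn)) c hc, ?_⟩
        show g⁻¹ * _ * (g⁻¹)⁻¹ = n * (g⁻¹ * c * (g⁻¹)⁻¹) * n⁻¹
        group
    intro n hn hgn
    have : n ∈ H := ⟨hn, _, hgn, by show g⁻¹ * (g * n * g⁻¹) * (g⁻¹)⁻¹ = n; group⟩
    rwa [hH, mem_bot] at this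
  -- no elements of order dividing 9
  have hK9 : ∀ n ∈ D.K, n ^ 9 = 1 → n = 1 := fun n hn h9 => by
    have hc : g * (g⁻¹ * n * g) * g⁻¹ = n := by group
    set c := g⁻¹ * n * g with hcdef
    have hcK : g * c * g⁻¹ ∈ D.K := hc.symm ▸ hn
    have hc9 : c ^ 9 = 1 := by
      rw [hcdef, show g⁻¹ * n * g = g⁻¹ * n * (g⁻¹)⁻¹ by group, conj_pow, h9]
      group
    obtain ⟨v, w, hw, hcv⟩ := D.dec c (hmove c hcK)
    obtain ⟨hva, -, -, -⟩ := P.coords (one_mem _) hxa1 hcK hw hcv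
    have hv9 : v ^ 9 = 1 ∨ v ^ 9 = z := D.psi_K (by
      rw [hcv, (D.comm hw v).mul_pow] at hc9
      rw [map_pow, eq_inv_of_mul_eq_one_left hc9]
      exact inv_mem (pow_mem hw _))
    have h2 : g * (c * c) * g⁻¹ ∈ D.K := by rw [← conj_mul]; exact mul_mem hcK hcK
    have hcv2 : c * c = D.ψ (v * v) * (w * w) := by
      rw [hcv, map_mul]; exact ((D.comm hw v).symm).mul_mul_mul_comm _ _
    obtain ⟨hva2, -, -, hcond⟩ := P.coords (one_mem _) hxa1 h2 (mul_mem hw hw) hcv2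
    have hv2 : v * v = 1 := hE.odd _ (by
      rw [← pow_two, ← pow_mul, mul_comm, pow_mul, pow_two]
      rcases hv9 with e | e <;> rw [e]
      · exact one_mul 1
      · exact CfsgLib.Co3Recog.X.basic.2.1) hva2 hcond
    have hv : v = 1 ∨ v = z := by
      rwa [show v ^ 9 = (v * v) ^ 4 * v by rw [← pow_two, ← pow_mul, ← pow_succ], hv2, one_pow, one_mul] at hv9
    have hcK' : c ∈ D.K := by
      rw [hcv]
      refine mul_mem ?_ hw
      rcases hv with e | e <;> rw [e]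
      · rw [map_one]; exact one_mem _
      · exact D.zz_mem
    rw [← hc, hD c hcK' hcK]
    group
  -- the subgroup of order 9 centralising the exceptional element
  obtain ⟨b', hb', hbz', j', hj', hb1', hbx'⟩ : ∃ b', g⁻¹ * b' * (g⁻¹)⁻¹ ∈ D.K ∧ Commute b' D.zz ∧
      ∃ j : ℕ, b' ^ 2 ^ j = 1 ∧ b' ≠ 1 ∧ b' ≠ g * D.zz * g⁻¹ := by
    have := hno _ _ P.symm
    simp only [Small, not_forall, not_or] at this
    obtain ⟨b, hb, hbz, j, hj, h1, h2⟩ := this
    exact ⟨b, hb, hbz, j, hj, h1, h2⟩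
  obtain ⟨l', m', -, -, hE'⟩ :=
    (P.symm.two_part (one_mem _) (show _ = D.ψ a' * 1 by rw [mul_one, hxa']) hb' hbz' hj').resolve_left (by tauto)
  haveI : Fact (Nat.Prime 3) := ⟨Nat.prime_three⟩
  obtain ⟨Q', hQ'⟩ := Sylow.exists_subgroup_card_pow_prime 3 (n := 2) (show 3 ^ 2 ∣ _ from hE'.nine)
  let f : ↥(centralizer ({a'} : Set Grp)) →* G :=
    (MulAut.conj g⁻¹).toMonoidHom.comp (D.ψ.comp (centralizer ({a'} : Set Grp)).subtype)
  have hf : ∀ q, f q = g⁻¹ * D.ψ q * g := fun q => by show g⁻¹ * D.ψ q * (g⁻¹)⁻¹ = _; rw [inv_inv]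
  have hfi : Function.Injective f := (MulAut.conj g⁻¹).injective.comp (D.inj.comp (subtype_injective _))
  have hQK : ∀ n ∈ Q'.map f, Commute n x ∧ Commute n b ∧ n ∈ D.ψ.range := by
    rintro _ ⟨q, hq, rfl⟩
    have hg : g * f q * g⁻¹ = D.ψ (q : Grp) := by rw [hf]; group
    have hnx : Commute (f q) x := P.comm_of_conj (by
      rw [hg]
      exact (Model.z_comm (q : Grp)).symm.map D.ψ)
    have hnb : Commute (f q) b := by
      refine (MulAut.conj g).injective ?_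
      rw [map_mul, map_mul]
      show (g * f q * g⁻¹) * (g * b * g⁻¹) = (g * b * g⁻¹) * (g * f q * g⁻¹)
      rw [hg]
      exact (D.comm hb _).eq
    have hnz : Commute (f q) D.zz := by
      refine (MulAut.conj g).injective ?_
      rw [map_mul, map_mul]
      show (g * f q * g⁻¹) * (g * D.zz * g⁻¹) = (g * D.zz * g⁻¹) * (g * f q * g⁻¹)
      rw [hg, hxa', ← map_mul, ← map_mul, mem_centralizer_singleton_iff.mp q.2]
    refine ⟨hnx, hnb, ?_⟩
    obtain ⟨v, w, hw, hvw⟩ := D.dec _ hnz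
    have hq9 : (f q) ^ 9 = 1 := by
      have : (⟨q, hq⟩ : Q') ^ Nat.card Q' = 1 := pow_card_eq_one'
      rw [hQ'] at this
      rw [← map_pow, show q ^ 9 = 1 from congrArg Subtype.val this, map_one]
    rw [hvw, (D.comm hw v).mul_pow] at hq9
    have hw9 : w ^ 9 = 1 ∨ w ^ 9 = D.zz := by
      have hmem : D.ψ (v ^ 9) ∈ D.K := by
        rw [map_pow, eq_inv_of_mul_eq_one_left hq9]; exact inv_mem (pow_mem hw _)
      rw [eq_inv_of_mul_eq_one_right hq9, ← map_pow]
      rcases D.psi_K hmem with e | e <;> rw [e]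
      · left; simp
      · right; exact inv_eq_of_mul_eq_one_right D.zz_sq
    have hw2 : w * w = 1 := hK9 _ (mul_mem hw hw) (by
      rw [(Commute.refl w).mul_pow]
      rcases hw9 with e | e <;> rw [e]
      · exact one_mul 1
      · exact D.zz_sq)
    rw [show w ^ 9 = (w * w) ^ 4 * w by rw [← pow_two, ← pow_mul, ← pow_succ], hw2, one_pow, one_mul] at hw9
    rcases hw9 with e | e
    · exact ⟨v, by rw [hvw, e, mul_one]⟩
    · exact ⟨v * z, by rw [hvw, e, map_mul]⟩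
  refine hE.no_nine ⟨(Q'.map f).comap D.ψ, ?_, fun q hq => ?_⟩
  · rw [← card_map_of_injective D.inj (K := (Q'.map f).comap D.ψ), map_comap_eq,
      inf_eq_right.mpr fun n hn => (hQK n hn).2.2, card_map_of_injective hfi, hQ']
    norm_num
  · obtain ⟨hx', hb', -⟩ := hQK _ hq
    refine ⟨?_, ?_⟩
    · refine D.inj ?_
      rw [map_mul, map_mul, ← hxa]
      exact hx'.eq
    · refine D.inj ?_
      rw [map_mul, map_mul, show D.ψ l = b * m⁻¹ by rw [hbl, mul_inv_cancel_right]]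
      exact (hb'.mul_right (D.comm hm q).inv_right).eq

/-- The centraliser of the component is generated by the central involution. -/
theorem K_le (hiso : ¬ Cfsg.IsIsolated D.zz) : ∀ k ∈ D.K, k = 1 ∨ k = D.zz := by
  haveI : Fact (Nat.Prime 2) := ⟨Nat.prime_two⟩
  simp only [Cfsg.IsIsolated, not_forall] at hiso
  obtain ⟨g₀, hc, hne⟩ := hiso
  have P : D.Pair g₀⁻¹ (g₀ * D.zz * g₀⁻¹) := ⟨by group, hc.symm, hne⟩
  obtain ⟨g, x, P', hS⟩ := D.exists_small P
  have h2 := P'.two_of_small hS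
  let Z : Subgroup D.K := zpowers ⟨D.zz, D.zz_mem⟩
  have hz2 : (⟨D.zz, D.zz_mem⟩ : D.K) ^ 2 = 1 := Subtype.ext (by simp [pow_two, D.zz_sq])
  have hord : orderOf (⟨D.zz, D.zz_mem⟩ : D.K) = 2 :=
    orderOf_eq_prime hz2 fun e => D.zz_ne (congrArg Subtype.val e)
  haveI : Z.Normal := ⟨fun n hn v => by
    obtain ⟨i, rfl⟩ := mem_zpowers_iff.mp hn
    have hv : Commute v (⟨D.zz, D.zz_mem⟩ : D.K) := Subtype.ext (D.K_zz v.2).eq
    rw [(hv.zpow_right i).eq, mul_inv_cancel_right]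
    exact zpow_mem (mem_zpowers _) i⟩
  have hcard : Nat.card Z = 2 := by rw [Nat.card_zpowers, hord]
  have hodd : ¬ 2 ∣ Z.index := fun h => by
    have h4 : 2 ^ 2 ∣ Nat.card D.K := by
      rw [← Z.card_mul_index, hcard, pow_two]
      exact mul_dvd_mul_left 2 h
    obtain ⟨T, hT⟩ := Sylow.exists_subgroup_card_pow_prime 2 h4
    have hsub : T ≤ Z := fun t ht => by
      have : (⟨t, ht⟩ : T) ^ Nat.card T = 1 := pow_card_eq_one'
      rw [hT] at this
      rcases h2 t t.2 2 (by simpa using congrArg (fun v : T => ((v : D.K) : G)) this) with e | e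
      · rw [show t = 1 from Subtype.ext e]; exact one_mem _
      · rw [show t = ⟨D.zz, D.zz_mem⟩ from Subtype.ext e]; exact mem_zpowers _
    have := Subgroup.card_dvd_of_le hsub
    rw [hT, hcard] at this
    norm_num at this
  obtain ⟨H, hH⟩ := Subgroup.exists_right_complement'_of_coprime (N := Z) (by
    rw [hcard]; exact (Nat.prime_two.coprime_iff_not_dvd).mpr hodd)
  haveI : H.Normal := by
    rw [← normalizer_eq_top_iff, eq_top_iff, ← hH.sup_eq_top]
    refine sup_le (fun v hv => ?_) le_normalizer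
    rw [mem_normalizer_iff]
    intro w
    obtain ⟨i, rfl⟩ := mem_zpowers_iff.mp hv
    have hc : Commute ((⟨D.zz, D.zz_mem⟩ : D.K) ^ i) w :=
      (show Commute (⟨D.zz, D.zz_mem⟩ : D.K) w from Subtype.ext (D.K_zz w.2).symm.eq).zpow_left i
    rw [hc.eq, mul_inv_cancel_right]
  have hHodd : Odd (Nat.card (H.map D.K.subtype)) := by
    rw [card_map_of_injective (subtype_injective _)]
    refine Nat.odd_iff.mpr (Nat.two_dvd_ne_zero.mp fun h => hodd ?_)
    rw [hH.symm.index_eq_card]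
    exact h
  have hH1 : H.map D.K.subtype = ⊥ := D.odd_core (map_subtype_le H) hHodd (by
    rintro n hn _ ⟨h, hh, rfl⟩
    exact ⟨_, Subgroup.Normal.conj_mem inferInstance h hh ⟨n, hn⟩, rfl⟩)
  rw [Subgroup.map_eq_bot_iff_of_injective _ (subtype_injective _)] at hH1
  intro k hk
  have hkZ : (⟨k, hk⟩ : D.K) ∈ Z := by
    have := hH.sup_eq_top
    rw [hH1, sup_bot_eq] at this
    rw [this]; exact mem_top _
  obtain ⟨i, hi⟩ := mem_zpowers_iff.mp hkZ
  rw [← Int.emod_add_mul_ediv i 2, zpow_add, zpow_mul, show (2 : ℤ) = ((2 : ℕ) : ℤ) from rfl, zpow_natCast, hz2,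
    one_zpow, mul_one] at hi
  rcases Int.emod_two_eq_zero_or_one i with e | e <;> simp only [Nat.cast_ofNat, e] at hi
  · left; rw [zpow_zero] at hi; exact (congrArg Subtype.val hi).symm
  · right; rw [zpow_one] at hi; exact (congrArg Subtype.val hi).symm

end Cfg

end

end CfsgLib.StdCo3
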